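import Groth.Agent.Pi1X.FEtGalois

/-!
The fibre functor of a connected scheme, with values in finite types.
-/

universe u

open CategoryTheory CategoryTheory.Limits AlgebraicGeometry

set_option linter.style.haveILetI false

namespace Groth.Agent.Pi1X

noncomputable section

variable {S : Scheme.{u}} {Ω : Type u} [Field Ω] (ξ : Spec (CommRingCat.of Ω) ⟶ S)

/-- The fibre functor with values in finite types. -/
def fiberFin : FEt.Cat S ⥤ FintypeCat.{u} :=
  ObjectProperty.lift _ (FEt.fiber ξ) fun Y => fiber_finite ξ Y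

/-- It is the fibre functor. -/
def fiberFinIncl : fiberFin ξ ⋙ FintypeCat.incl ≅ FEt.fiber ξ :=
  Iso.refl _

instance preservesFiniteLimits_fiberFin : PreservesFiniteLimits (fiberFin ξ) := by
  haveI : PreservesFiniteLimits (fiberFin ξ ⋙ FintypeCat.incl) :=
    preservesFiniteLimits_of_natIso (fiberFinIncl ξ).symm
  exact ⟨fun J _ _ => preservesLimitsOfShape_of_reflects_of_preserves (fiberFin ξ) FintypeCat.incl⟩

variable [IsSepClosed Ω]

instance preservesFiniteColimits_fiberFin : PreservesFiniteColimits (fiberFin ξ) := by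
  haveI : PreservesFiniteColimits (fiberFin ξ ⋙ FintypeCat.incl) :=
    preservesFiniteColimits_of_natIso (fiberFinIncl ξ).symm
  exact ⟨fun J _ _ => preservesColimitsOfShape_of_reflects_of_preserves (fiberFin ξ) FintypeCat.incl⟩

theorem preservesQuotients (G : Type u) [Group G] [Finite G] :
    PreservesColimitsOfShape (SingleObj G) (fiberFin ξ) := by
  obtain ⟨G', hg, hf, ⟨e⟩⟩ := Finite.exists_type_univ_nonempty_mulEquiv.{u, 0} G
  exact preservesColimitsOfShape_of_equiv e.toSingleObjEquiv.symm _

variable [ConnectedSpace S]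

theorem isIso_of_bijective {Y Z : FEt.Cat S} (φ : Y ⟶ Z)
    (h : Function.Bijective ((FEt.fiber ξ).map φ)) : IsIso φ :=
  isIso_of_fiber_bijective φ fun C hC hne =>
    ⟨Ω, inferInstance, inferInstance, ξ, (hC.eq_univ hne).ge (Set.mem_univ _), h⟩

instance reflectsIsomorphisms_fiber : (FEt.fiber ξ).ReflectsIsomorphisms :=
  ⟨fun {Y Z} φ _ => isIso_of_bijective ξ φ ((isIso_iff_bijective _).1 inferInstance)⟩

instance fiberFunctor_fiberFin : PreGaloisCategory.FiberFunctor (fiberFin ξ) where
  preservesQuotientsByFiniteGroups G _ _ := preservesQuotients ξ G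
  reflectsIsos := ⟨fun {Y Z} φ _ => by
    haveI : IsIso ((FEt.fiber ξ).map φ) :=
      inferInstanceAs (IsIso (FintypeCat.incl.map ((fiberFin ξ).map φ)))
    exact isIso_of_reflects_iso φ (FEt.fiber ξ)⟩

theorem galoisCategory : GaloisCategory (FEt.Cat S) := by
  obtain ⟨x⟩ := (inferInstance : Nonempty S)
  obtain ⟨Ω', _, _, ξ', -⟩ := exists_geometric_point x
  exact { hasFiberFunctor := ⟨fiberFin ξ', ⟨inferInstance⟩⟩ }

end

end Groth.Agent.Pi1X
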