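import Groth.Prelude.Def_FEt
import Mathlib.AlgebraicGeometry.Morphisms.UniversallyOpen
import Mathlib.AlgebraicGeometry.Morphisms.IsIso
import Mathlib.AlgebraicGeometry.Fiber
import Mathlib.AlgebraicGeometry.Morphisms.FlatMono
import Mathlib.AlgebraicGeometry.Morphisms.QuasiFinite
import Mathlib.RingTheory.Finiteness.ModuleFinitePresentation
import Mathlib.RingTheory.Flat.EquationalCriterion
import Mathlib.CategoryTheory.Limits.MorphismProperty
import Mathlib.RingTheory.Unramified.Field
import Mathlib.RingTheory.RingHom.Etale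

/-!
Elementary properties of the category of finite étale covers.
-/

universe u

open CategoryTheory CategoryTheory.Limits AlgebraicGeometry TensorProduct

set_option linter.style.haveILetI false

namespace Groth.Agent.Pi1X

/-- The hom-set cancellation for finite étale morphisms. -/
theorem prop_of_comp {X Y Z : Scheme.{u}} (f : X ⟶ Y) (g : Y ⟶ Z)
    (hg : FEt.prop g) (hfg : FEt.prop (f ≫ g)) : FEt.prop f := by
  haveI := hg.1
  haveI := hg.2
  haveI := hfg.1
  haveI := hfg.2
  exact ⟨IsFinite.of_comp f g,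
    MorphismProperty.of_postcomp (W := @Etale) (W' := @Etale) f g inferInstance inferInstance⟩

instance : FEt.prop.{u}.HasOfPostcompProperty FEt.prop.{u} where
  of_postcomp f g hg hfg := prop_of_comp f g hg hfg

instance isFinite_hom {X : Scheme.{u}} (Y : FEt.Cat X) : IsFinite Y.hom := Y.prop.1

instance etale_hom {X : Scheme.{u}} (Y : FEt.Cat X) : Etale Y.hom := Y.prop.2

theorem prop_left {X : Scheme.{u}} {Y Z : FEt.Cat X} (φ : Y ⟶ Z) : FEt.prop φ.left :=
  prop_of_comp φ.left Z.hom Z.prop (by rw [MorphismProperty.Over.w φ]; exact Y.prop)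

set_option backward.isDefEq.respectTransparency false in
/-- The equalizer of maps into an unramified scheme is open. -/
theorem isOpenImmersion_equalizer_ι_left {S : Scheme.{u}} {X Y : Over S}
    [FormallyUnramified Y.hom] [LocallyOfFiniteType Y.hom]
    (f g : X ⟶ Y) : IsOpenImmersion (equalizer.ι f g).left := by
  refine MorphismProperty.of_isPullback
    ((Limits.isPullback_equalizer_prod f g).map (Over.forget _)).flip ?_
  rw [← MorphismProperty.cancel_right_of_respectsIso @IsOpenImmersion _
    (Over.prodLeftIsoPullback Y Y).hom]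
  convert! (inferInstance : IsOpenImmersion (pullback.diagonal Y.hom))
  ext1 <;> simp [← Over.comp_left]

/-- Two maps to a separated unramified scheme agree on a clopen set, outside of which they differ
at every point. -/
theorem exists_isClopen_eqLocus {X Y S : Scheme.{u}} (p : Y ⟶ S) [IsSeparated p]
    [FormallyUnramified p] [LocallyOfFiniteType p] (f g : X ⟶ Y) (h : f ≫ p = g ≫ p) :
    ∃ W : Set X, IsClopen W ∧ (W = Set.univ → f = g) ∧
      ∀ {T : Scheme.{u}} (z : T ⟶ X), z ≫ f = z ≫ g → Set.range z.base ⊆ W := by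
  let X' : Over S := Over.mk (f ≫ p)
  let Y' : Over S := Over.mk p
  let f' : X' ⟶ Y' := Over.homMk f
  let g' : X' ⟶ Y' := Over.homMk g
  haveI : IsSeparated Y'.hom := ‹_›
  haveI : FormallyUnramified Y'.hom := ‹_›
  haveI : LocallyOfFiniteType Y'.hom := ‹_›
  haveI := isOpenImmersion_equalizer_ι_left f' g'
  refine ⟨Set.range (equalizer.ι f' g').left.base,
    ⟨(Scheme.Hom.isClosedEmbedding _).isClosed_range,
      (Scheme.Hom.isOpenEmbedding (equalizer.ι f' g').left).isOpen_range⟩, fun hW => ?_,
    fun {T} z hz => ?_⟩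
  · haveI : Surjective (equalizer.ι f' g').left := ⟨Set.range_eq_univ.1 hW⟩
    haveI : IsIso (equalizer.ι f' g').left :=
      (isIso_iff_isOpenImmersion_and_surjective _).2 ⟨inferInstance, inferInstance⟩
    rw [← cancel_epi (equalizer.ι f' g').left]
    exact congr($(equalizer.condition f' g').left)
  · let T' : Over S := Over.mk (z ≫ f ≫ p)
    let z' : T' ⟶ X' := Over.homMk z
    have hz' : z' ≫ f' = z' ≫ g' := by ext1; exact hz
    rintro _ ⟨t, rfl⟩
    refine ⟨(equalizer.lift z' hz').left t, ?_⟩
    rw [← Scheme.Hom.comp_apply, ← Over.comp_left, equalizer.lift_ι]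
    rfl

/-- Rigidity of maps from a connected scheme. -/
theorem hom_ext_of_connected {X Y S T : Scheme.{u}} (p : Y ⟶ S) [IsSeparated p]
    [FormallyUnramified p] [LocallyOfFiniteType p] [PreconnectedSpace X] [Nonempty T]
    (f g : X ⟶ Y) (h : f ≫ p = g ≫ p) (z : T ⟶ X) (hz : z ≫ f = z ≫ g) : f = g := by
  obtain ⟨W, hW, hWeq, hWz⟩ := exists_isClopen_eqLocus p f g h
  exact hWeq (hW.eq_univ ⟨z.base (Classical.arbitrary T), hWz z hz ⟨_, rfl⟩⟩)

/-- Restriction is faithful when the map meets every clopen set. -/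
theorem restrict_faithful {X S : Scheme.{u}} (i : X ⟶ S)
    (h : ∀ C : Set S, IsClopen C → C.Nonempty → (C ∩ Set.range i.base).Nonempty) :
    (FEt.restrict i).Faithful := by
  refine ⟨fun {Y Z} φ ψ hφψ => ?_⟩
  have he : pullback.fst Y.hom i ≫ φ.left = pullback.fst Y.hom i ≫ ψ.left := by
    have h1 := congrArg (fun t => t.left ≫ pullback.fst Z.hom i) hφψ
    simp [FEt.restrict] at h1
    erw [pullback.lift_fst, pullback.lift_fst] at h1
    exact h1
  obtain ⟨W, hW, hWeq, hWz⟩ := exists_isClopen_eqLocus Z.hom φ.left ψ.left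
    ((MorphismProperty.Over.w φ).trans (MorphismProperty.Over.w ψ).symm)
  refine MorphismProperty.Over.Hom.ext (hWeq ?_)
  by_contra hne
  have hC : IsClopen (Y.hom.base '' Wᶜ) :=
    ⟨Y.hom.isClosedMap _ hW.compl.1, Y.hom.isOpenMap _ hW.compl.2⟩
  obtain ⟨_, ⟨y, hy, rfl⟩, hx⟩ := h _ hC ((Set.nonempty_compl.2 hne).image _)
  have hy' : y ∈ Set.range (pullback.fst Y.hom i).base := by
    rw [Scheme.Pullback.range_fst]
    exact hx
  exact hy (hWz _ he hy')

theorem restrict_faithful_of_denseRange {X S : Scheme.{u}} (i : X ⟶ S) (h : DenseRange i.base) :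
    (FEt.restrict i).Faithful :=
  restrict_faithful i fun _ hC hne => by
    obtain ⟨y, hy1, hy2⟩ := h.inter_open_nonempty _ hC.2 hne
    exact ⟨y, hy1, hy2⟩

/-- The geometric fibres of a finite étale cover are finite. -/
theorem fiber_finite {X : Scheme.{u}} {Ω : Type u} [Field Ω] (ξ : Spec (CommRingCat.of Ω) ⟶ X)
    (Y : FEt.Cat X) : Finite (FEt.fiberObj ξ Y) := by
  let p : pullback Y.hom ξ ⟶ Spec (CommRingCat.of Ω) := pullback.snd _ _
  haveI : IsFinite p := inferInstance
  haveI : Etale p := inferInstance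
  haveI : Finite ↥(pullback Y.hom ξ) := by
    rw [← Set.finite_univ_iff]
    exact (p.finite_preimage_singleton (IsLocalRing.closedPoint Ω)).subset fun w _ => Subsingleton.elim (α := Spec (CommRingCat.of Ω)) _ _
  let sec (s : FEt.fiberObj ξ Y) : Spec (CommRingCat.of Ω) ⟶ pullback Y.hom ξ :=
    pullback.lift s.1 (𝟙 _) (by rw [s.2, Category.id_comp])
  refine Finite.of_injective (fun s => (sec s).base (IsLocalRing.closedPoint Ω)) fun s t hst => ?_
  haveI : IsOpenImmersion (sec s) := by
    haveI : Etale (sec s) := MorphismProperty.of_postcomp (W := @Etale) (W' := @Etale) (sec s) p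
      inferInstance (by
        rw [show sec s ≫ p = 𝟙 _ from pullback.lift_snd _ _ _]
        infer_instance)
    haveI : Mono (sec s) := mono_of_mono_fac (pullback.lift_snd _ _ _)
    exact IsOpenImmersion.of_flat_of_mono _
  have hsub : Set.range (sec t).base ⊆ Set.range (sec s).base := by
    rintro _ ⟨x, rfl⟩
    rw [Subsingleton.elim x (IsLocalRing.closedPoint Ω)]
    exact ⟨_, hst⟩
  have hl := IsOpenImmersion.lift_fac (sec s) (sec t) hsub
  have hid : IsOpenImmersion.lift (sec s) (sec t) hsub = 𝟙 _ := by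
    have h2 := congrArg (fun q => q ≫ p) hl
    rw [Category.assoc, show sec s ≫ p = 𝟙 _ from pullback.lift_snd _ _ _,
      show sec t ≫ p = 𝟙 _ from pullback.lift_snd _ _ _, Category.comp_id] at h2
    exact h2
  rw [hid, Category.id_comp] at hl
  refine Subtype.ext ?_
  exact (pullback.lift_fst s.1 _ _).symm.trans
    ((congrArg (fun q => q ≫ pullback.fst Y.hom ξ) hl).trans (pullback.lift_fst t.1 _ _))

/-- A finite étale algebra over a reduced ring is reduced. -/
theorem isReduced_of_finite_etale (A B : Type u) [CommRing A] [CommRing B] [Algebra A B]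
    [Module.Finite A B] [Algebra.Etale A B] [_root_.IsReduced A] : _root_.IsReduced B := by
  haveI : Module.FinitePresentation A B :=
    Module.FinitePresentation.of_finite_of_finitePresentation A B
  haveI : Module.Projective A B := Module.Flat.projective_of_finitePresentation
  refine ⟨fun b hb => ?_⟩
  rw [← Module.forall_dual_apply_eq_zero_iff A]
  intro l
  have hnil : l b ∈ nilradical A := by
    rw [nilradical_eq_sInf, Ideal.mem_sInf]
    intro P hP
    haveI : P.IsPrime := hP
    haveI : _root_.IsReduced (P.ResidueField ⊗[A] B) :=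
      Algebra.FormallyUnramified.isReduced_of_field P.ResidueField _
    have h0 : (1 : P.ResidueField) ⊗ₜ[A] b = 0 :=
      IsNilpotent.eq_zero (hb.map (Algebra.TensorProduct.includeRight : B →ₐ[A] _))
    have h1 := congrArg (TensorProduct.rid A P.ResidueField) (congrArg (LinearMap.lTensor P.ResidueField l) h0)
    simp only [LinearMap.lTensor_tmul, map_zero, TensorProduct.rid_tmul] at h1
    rw [Algebra.smul_def, mul_one] at h1
    exact (Ideal.algebraMap_residueField_eq_zero).1 h1
  rwa [nilradical_eq_zero] at hnil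

theorem isReduced_of_finite_etale_scheme {X S : Scheme.{u}} (φ : X ⟶ S) [IsFinite φ] [Etale φ]
    [AlgebraicGeometry.IsReduced S] : AlgebraicGeometry.IsReduced X := by
  have key : ∀ U : S.affineOpens,
      AlgebraicGeometry.IsReduced (Scheme.Opens.toScheme (φ ⁻¹ᵁ U.1)) := fun U => by
    haveI := U.2
    have hV : IsAffineOpen (φ ⁻¹ᵁ U.1) := U.2.preimage φ
    algebraize [(φ.app U.1).hom]
    haveI : Module.Finite Γ(S, U.1) Γ(X, φ ⁻¹ᵁ U.1) :=
      RingHom.finite_algebraMap.1 (IsFinite.finite_app (f := φ) U.1 U.2)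
    haveI : Algebra.Etale Γ(S, U.1) Γ(X, φ ⁻¹ᵁ U.1) := by
      have h := HasRingHomProperty.appLE @Etale φ inferInstance U ⟨_, hV⟩ le_rfl
      change (φ.app U.1).hom.Etale
      rw [Scheme.Hom.app_eq_appLE]
      exact h
    haveI := isReduced_of_finite_etale Γ(S, U.1) Γ(X, φ ⁻¹ᵁ U.1)
    exact isReduced_of_isOpenImmersion hV.isoSpec.hom
  exact @IsReduced.of_openCover _ (X.openCoverOfIsOpenCover (fun U : S.affineOpens => φ ⁻¹ᵁ U.1)
    (.mk (top_unique fun x _ => by
      obtain ⟨U, hxU⟩ := exists_isAffineOpen_mem_and_subset (x := φ.base x) (U := ⊤) trivial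
      exact TopologicalSpace.Opens.mem_iSup.mpr ⟨⟨U, hxU.1⟩, hxU.2.1⟩))) key

end Groth.Agent.Pi1X
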