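import Groth.Agent.Pi1X.FEtBasic
import Mathlib.AlgebraicGeometry.Morphisms.UniversallyInjective
import Mathlib.AlgebraicGeometry.Morphisms.ClosedImmersion

/-!
A criterion for the full faithfulness of restriction of finite étale covers, by clopen subsets.
-/

universe u

open CategoryTheory CategoryTheory.Limits AlgebraicGeometry

set_option linter.style.haveILetI false

namespace Groth.Agent.Pi1X

/-- An étale universally injective morphism is an open immersion. -/
theorem isOpenImmersion_of_etale_universallyInjective {X Y : Scheme.{u}} (f : X ⟶ Y) [Etale f]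
    [UniversallyInjective f] : IsOpenImmersion f := by
  haveI : Surjective (pullback.diagonal f) := (UniversallyInjective.iff_diagonal f).1 inferInstance
  haveI : IsIso (pullback.diagonal f) :=
    (isIso_iff_isOpenImmersion_and_surjective _).2 ⟨inferInstance, inferInstance⟩
  haveI : Mono f := (pullback.isIso_diagonal_iff f).1 inferInstance
  exact IsOpenImmersion.of_flat_of_mono f

theorem isClopen_range {X Y : Scheme.{u}} {f : X ⟶ Y} (hf : FEt.prop f) : IsClopen (Set.range f.base) := by
  haveI := hf.1
  haveI := hf.2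
  exact ⟨f.isClosedMap.isClosed_range, f.isOpenMap.isOpen_range⟩

/-- The finite étale inclusion of a clopen subset. -/
theorem prop_ι_of_isClopen {X : Scheme.{u}} (U : X.Opens) (hU : IsClosed (U : Set X)) : FEt.prop U.ι := by
  haveI : IsClosedImmersion U.ι := IsClosedImmersion.of_isPreimmersion U.ι (by rwa [Scheme.Opens.range_ι])
  exact ⟨inferInstance, inferInstance⟩

set_option backward.isDefEq.respectTransparency false in
/-- Restriction is full if moreover all clopen subsets of restricted covers extend. -/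
theorem restrict_full {X S : Scheme.{u}} (i : X ⟶ S)
    (h : ∀ C : Set S, IsClopen C → C.Nonempty → (C ∩ Set.range i.base).Nonempty)
    (hs : ∀ (W : FEt.Cat S) (C : Set ↥(pullback W.hom i)), IsClopen C →
      ∃ G : Set W.left, IsClopen G ∧ (pullback.fst W.hom i).base ⁻¹' G = C) :
    (FEt.restrict i).Full := by
  refine ⟨fun {Y Z} ψ => ?_⟩
  let ψ₀ : pullback Y.hom i ⟶ pullback Z.hom i := ψ.left
  have hψ₀ : ψ₀ ≫ pullback.snd Z.hom i = pullback.snd Y.hom i := MorphismProperty.Over.w ψ
  let P : Scheme.{u} := pullback Y.hom Z.hom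
  have hP : FEt.prop (pullback.fst Y.hom Z.hom ≫ Y.hom) :=
    MorphismProperty.comp_mem _ _ _ (MorphismProperty.pullback_fst _ _ Z.prop) Y.prop
  let W : FEt.Cat S := MorphismProperty.Over.mk ⊤ (pullback.fst Y.hom Z.hom ≫ Y.hom) hP
  let σ : pullback Y.hom i ⟶ pullback W.hom i :=
    pullback.lift (pullback.lift (pullback.fst Y.hom i) (ψ₀ ≫ pullback.fst Z.hom i) (by
      rw [Category.assoc, pullback.condition, pullback.condition, reassoc_of% hψ₀]))
      (pullback.snd Y.hom i) (by
        show pullback.lift _ _ _ ≫ pullback.fst Y.hom Z.hom ≫ Y.hom = _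
        rw [pullback.lift_fst_assoc, pullback.condition])
  have hσ : FEt.prop σ := prop_of_comp σ (pullback.snd W.hom i)
    (MorphismProperty.pullback_snd _ _ W.prop) (by
      rw [pullback.lift_snd]
      exact MorphismProperty.pullback_snd _ _ Y.prop)
  obtain ⟨G, hG, hGσ⟩ := hs W _ (isClopen_range hσ)
  let U : P.Opens := ⟨G, hG.2⟩
  let p : (U : Scheme.{u}) ⟶ Y.left := U.ι ≫ pullback.fst Y.hom Z.hom
  have hp : FEt.prop p := MorphismProperty.comp_mem _ _ _ (prop_ι_of_isClopen U hG.1)
    (MorphismProperty.pullback_fst _ _ Z.prop)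
  haveI := hp.1
  haveI := hp.2
  -- `σ` is a monomorphism
  haveI : Mono σ := by
    refine ⟨fun a b hab => pullback.hom_ext ?_ ?_⟩
    · have h1 := congrArg (fun t => t ≫ pullback.fst W.hom i ≫ pullback.fst Y.hom Z.hom) hab
      simpa [σ, W] using h1
    · have h1 := congrArg (fun t => t ≫ pullback.snd W.hom i) hab
      simpa [σ] using h1
  haveI := hσ.2
  have hσ1 : σ ≫ pullback.fst W.hom i ≫ pullback.fst Y.hom Z.hom = pullback.fst Y.hom i := by
    simp [σ, W]
  have hσ2 : σ ≫ pullback.snd W.hom i = pullback.snd Y.hom i := by simp [σ]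
  haveI : IsOpenImmersion σ := IsOpenImmersion.of_flat_of_mono σ
  -- universal injectivity
  haveI : UniversallyInjective p := by
    rw [UniversallyInjective.iff_diagonal]
    refine ⟨Set.range_eq_univ.1 ?_⟩
    have hΔ : FEt.prop (pullback.diagonal p) := prop_of_comp _ (pullback.fst p p)
      (MorphismProperty.pullback_fst _ _ hp) (by
        rw [pullback.diagonal_fst]; exact MorphismProperty.id_mem _ _)
    by_contra hne
    let q : pullback p p ⟶ S := pullback.fst p p ≫ p ≫ Y.hom
    have hq : FEt.prop q := MorphismProperty.comp_mem _ _ _ (MorphismProperty.pullback_fst _ _ hp)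
      (MorphismProperty.comp_mem _ _ _ hp Y.prop)
    haveI := hq.1
    haveI := hq.2
    have hC : IsClopen (q.base '' (Set.range (pullback.diagonal p).base)ᶜ) :=
      ⟨q.isClosedMap _ (isClopen_range hΔ).compl.1, q.isOpenMap _ (isClopen_range hΔ).compl.2⟩
    obtain ⟨_, ⟨c, hc, rfl⟩, x, hx⟩ := h _ hC ((Set.nonempty_compl.2 hne).image _)
    obtain ⟨w, hw, -⟩ := Scheme.Pullback.exists_preimage_pullback c x hx.symm
    let z := (pullback q i).fromSpecResidueField w
    let a : Spec ((pullback q i).residueField w) ⟶ pullback W.hom i := z ≫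
      pullback.lift (pullback.fst q i ≫ pullback.fst p p ≫ U.ι) (pullback.snd q i) (by
        simpa [q, p, W] using pullback.condition (f := q) (g := i))
    let b : Spec ((pullback q i).residueField w) ⟶ pullback W.hom i := z ≫
      pullback.lift (pullback.fst q i ≫ pullback.snd p p ≫ U.ι) (pullback.snd q i) (by
        have hq' : pullback.snd p p ≫ p ≫ Y.hom = q := (pullback.condition_assoc Y.hom).symm
        rw [← pullback.condition, show (pullback.fst q i ≫ pullback.snd p p ≫ U.ι) ≫ W.hom =
          pullback.fst q i ≫ pullback.snd p p ≫ p ≫ Y.hom by simp [p, W], hq'])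
    have hrange : ∀ (t : Spec ((pullback q i).residueField w) ⟶ (U : Scheme.{u}))
        (t' : Spec ((pullback q i).residueField w) ⟶ pullback W.hom i),
        t' ≫ pullback.fst W.hom i = t ≫ U.ι → Set.range t'.base ⊆ Set.range σ.base := by
      rintro t t' htt _ ⟨y, rfl⟩
      rw [← hGσ, Set.mem_preimage, ← Scheme.Hom.comp_apply, htt, Scheme.Hom.comp_apply]
      exact (t.base y).2
    have ha : a ≫ pullback.fst W.hom i = (z ≫ pullback.fst q i ≫ pullback.fst p p) ≫ U.ι := by
      simp [a]
    have hb : b ≫ pullback.fst W.hom i = (z ≫ pullback.fst q i ≫ pullback.snd p p) ≫ U.ι := by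
      simp [b]
    have hya := IsOpenImmersion.lift_fac σ a (hrange _ _ ha)
    have hyb := IsOpenImmersion.lift_fac σ b (hrange _ _ hb)
    have hyy : IsOpenImmersion.lift σ a (hrange _ _ ha) = IsOpenImmersion.lift σ b (hrange _ _ hb) := by
      refine pullback.hom_ext ?_ ?_
      · have h1 : IsOpenImmersion.lift σ a (hrange _ _ ha) ≫ pullback.fst Y.hom i =
            a ≫ pullback.fst W.hom i ≫ pullback.fst Y.hom Z.hom := by
          rw [← hσ1, reassoc_of% hya]
        have h2 : IsOpenImmersion.lift σ b (hrange _ _ hb) ≫ pullback.fst Y.hom i =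
            b ≫ pullback.fst W.hom i ≫ pullback.fst Y.hom Z.hom := by
          rw [← hσ1, reassoc_of% hyb]
        rw [h1, h2, reassoc_of% ha, reassoc_of% hb]
        exact congrArg (fun t => z ≫ pullback.fst q i ≫ t) (pullback.condition (f := p) (g := p))
      · have h1 : IsOpenImmersion.lift σ a (hrange _ _ ha) ≫ pullback.snd Y.hom i =
            a ≫ pullback.snd W.hom i := by
          rw [← hσ2, reassoc_of% hya]
        have h2 : IsOpenImmersion.lift σ b (hrange _ _ hb) ≫ pullback.snd Y.hom i =
            b ≫ pullback.snd W.hom i := by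
          rw [← hσ2, reassoc_of% hyb]
        rw [h1, h2]
        simp [a, b]
    have hab : a = b := by rw [← hya, ← hyb, hyy]
    have heq : z ≫ pullback.fst q i ≫ pullback.fst p p = z ≫ pullback.fst q i ≫ pullback.snd p p := by
      rw [← cancel_mono U.ι]
      have h1 := congrArg (fun t => t ≫ pullback.fst W.hom i) hab
      simpa [a, b] using h1
    have hz : z ≫ pullback.fst q i =
        (z ≫ pullback.fst q i ≫ pullback.fst p p) ≫ pullback.diagonal p := by
      refine pullback.hom_ext ?_ ?_ <;> simp [heq]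
    refine hc ⟨(z ≫ pullback.fst q i ≫ pullback.fst p p).base (IsLocalRing.closedPoint _), ?_⟩
    rw [← Scheme.Hom.comp_apply, ← hz, Scheme.Hom.comp_apply]
    rw [show z.base (IsLocalRing.closedPoint _) = w from Scheme.fromSpecResidueField_apply w _]
    exact hw
  haveI : IsOpenImmersion p := isOpenImmersion_of_etale_universallyInjective p
  -- the restriction of `p`
  have hσU : Set.range (σ ≫ pullback.fst W.hom i).base ⊆ Set.range U.ι.base := by
    rintro _ ⟨y, rfl⟩
    rw [Scheme.Opens.range_ι, Scheme.Hom.comp_apply]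
    exact Set.ext_iff.1 hGσ (σ.base y) |>.2 ⟨y, rfl⟩
  let τ : pullback Y.hom i ⟶ (U : Scheme.{u}) := IsOpenImmersion.lift U.ι _ hσU
  have hτ : τ ≫ U.ι = σ ≫ pullback.fst W.hom i := IsOpenImmersion.lift_fac _ _ _
  have hτp : τ ≫ p = pullback.fst Y.hom i := by
    simp only [p, reassoc_of% hτ]
    simp [σ, W]
  haveI : Surjective p := by
    refine ⟨Set.range_eq_univ.1 ?_⟩
    by_contra hne
    have hC : IsClopen (Y.hom.base '' (Set.range p.base)ᶜ) :=
      ⟨Y.hom.isClosedMap _ (isClopen_range hp).compl.1, Y.hom.isOpenMap _ (isClopen_range hp).compl.2⟩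
    obtain ⟨_, ⟨y, hy, rfl⟩, x, hx⟩ := h _ hC ((Set.nonempty_compl.2 hne).image _)
    obtain ⟨w, hw, -⟩ := Scheme.Pullback.exists_preimage_pullback y x hx.symm
    exact hy ⟨τ.base w, by rw [← Scheme.Hom.comp_apply, hτp]; exact hw⟩
  haveI : IsIso p := (isIso_iff_isOpenImmersion_and_surjective _).2 ⟨inferInstance, inferInstance⟩
  have hφw : (inv p ≫ U.ι ≫ pullback.snd Y.hom Z.hom) ≫ Z.hom = Y.hom := by
    rw [Category.assoc, Category.assoc, ← pullback.condition, ← Category.assoc U.ι]
    exact IsIso.inv_hom_id_assoc p Y.hom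
  refine ⟨MorphismProperty.Over.homMk (inv p ≫ U.ι ≫ pullback.snd Y.hom Z.hom) hφw,
    MorphismProperty.Over.Hom.ext ?_⟩
  show _ = ψ₀
  refine pullback.hom_ext ?_ ?_
  · have h1 : pullback.fst Y.hom i ≫ inv p ≫ U.ι ≫ pullback.snd Y.hom Z.hom =
        ψ₀ ≫ pullback.fst Z.hom i := by
      rw [← hτp, Category.assoc, IsIso.hom_inv_id_assoc, reassoc_of% hτ]
      simp [σ, W]
    simpa [FEt.restrict] using h1
  · simpa [FEt.restrict] using hψ₀.symm

/-- Restriction along a universal homeomorphism is fully faithful. -/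
theorem restrict_fullyFaithful_of_homeo {X S : Scheme.{u}} (i : X ⟶ S) [IsIntegralHom i]
    [UniversallyInjective i] [Surjective i] : (FEt.restrict i).Full ∧ (FEt.restrict i).Faithful := by
  have h : ∀ C : Set S, IsClopen C → C.Nonempty → (C ∩ Set.range i.base).Nonempty := fun C _ hC => by
    rwa [i.surjective.range_eq, Set.inter_univ]
  refine ⟨restrict_full i h fun W C hC => ?_, restrict_faithful i h⟩
  let j := pullback.fst W.hom i
  haveI : UniversallyInjective j := MorphismProperty.pullback_fst _ _ ‹_›
  have hinj : Function.Injective j.base := j.injective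
  have hsurj : Function.Surjective j.base := j.surjective
  have hco : j.base '' Cᶜ = (j.base '' C)ᶜ := Set.image_compl_eq ⟨hinj, hsurj⟩
  refine ⟨j.base '' C, ⟨j.isClosedMap _ hC.1, ?_⟩, hinj.preimage_image _⟩
  rw [← isClosed_compl_iff, ← hco]
  exact j.isClosedMap _ hC.compl.1

end Groth.Agent.Pi1X
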