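import Groth.Agent.Pi1X.FEtPoints
import Groth.Agent.Pi1X.FEtFull
import Mathlib.CategoryTheory.Galois.Basic
import Mathlib.CategoryTheory.Limits.Types.Coproducts
import Mathlib.CategoryTheory.Limits.Types.Coequalizers
import Mathlib.FieldTheory.IsAlgClosed.AlgebraicClosure

/-!
The fibre functors of finite étale covers; finite étale covers form a Galois category.
-/

universe u

open CategoryTheory CategoryTheory.Limits AlgebraicGeometry

set_option linter.style.haveILetI false

namespace Groth.Agent.Pi1X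

noncomputable section

variable {S : Scheme.{u}}

/-- There are geometric points over every point. -/
theorem exists_geometric_point (x : S) :
    ∃ (Ω : Type u) (_ : Field Ω) (_ : IsAlgClosed Ω) (ξ : Spec (CommRingCat.of Ω) ⟶ S),
      ξ.base (IsLocalRing.closedPoint Ω) = x := by
  refine ⟨AlgebraicClosure (S.residueField x), inferInstance, inferInstance,
    Spec.map (CommRingCat.ofHom (algebraMap (S.residueField x) (AlgebraicClosure (S.residueField x)))) ≫
      S.fromSpecResidueField x, ?_⟩
  rw [Scheme.Hom.comp_apply]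
  exact Scheme.fromSpecResidueField_apply x _

/-- Morphisms injective on enough geometric fibres are open immersions. -/
theorem isOpenImmersion_of_fiber_injective {Y Z : FEt.Cat S} (φ : Y ⟶ Z)
    (h : ∀ C : Set S, IsClopen C → C.Nonempty → ∃ (Ω : Type u) (_ : Field Ω) (_ : IsSepClosed Ω)
      (ξ : Spec (CommRingCat.of Ω) ⟶ S), ξ.base (IsLocalRing.closedPoint Ω) ∈ C ∧
        Function.Injective ((FEt.fiber ξ).map φ)) : IsOpenImmersion φ.left := by
  let p := φ.left
  have hp : FEt.prop p := prop_left φ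
  have hpw : p ≫ Z.hom = Y.hom := MorphismProperty.Over.w φ
  haveI := hp.1
  haveI := hp.2
  haveI : UniversallyInjective p := by
    rw [UniversallyInjective.iff_diagonal]
    refine ⟨Set.range_eq_univ.1 ?_⟩
    have hΔ : FEt.prop (pullback.diagonal p) := prop_of_comp _ (pullback.fst p p)
      (MorphismProperty.pullback_fst _ _ hp) (by
        rw [pullback.diagonal_fst]; exact MorphismProperty.id_mem _ _)
    by_contra hne
    let q : pullback p p ⟶ S := pullback.fst p p ≫ Y.hom
    have hq : FEt.prop q := MorphismProperty.comp_mem _ _ _ (MorphismProperty.pullback_fst _ _ hp) Y.prop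
    haveI := hq.1
    haveI := hq.2
    obtain ⟨Ω, _, _, ξ, ⟨c, hc, hcξ⟩, hinj⟩ := h _
      ⟨q.isClosedMap _ (isClopen_range hΔ).compl.1, q.isOpenMap _ (isClopen_range hΔ).compl.2⟩
      ((Set.nonempty_compl.2 hne).image _)
    obtain ⟨⟨s, hs⟩, hsc⟩ := exists_lift_at ξ q c hcξ
    have hs2 : (s ≫ pullback.snd p p) ≫ Y.hom = ξ := by
      rw [Category.assoc, ← hpw, ← pullback.condition_assoc, hpw]
      exact hs
    have hs1 : (s ≫ pullback.fst p p) ≫ Y.hom = ξ := (Category.assoc _ _ _).trans hs
    have he : s ≫ pullback.fst p p = s ≫ pullback.snd p p :=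
      congrArg Subtype.val (hinj (a₁ := (⟨_, hs1⟩ : FEt.fiberObj ξ Y)) (a₂ := ⟨_, hs2⟩)
        (Subtype.ext (show (s ≫ pullback.fst p p) ≫ p = (s ≫ pullback.snd p p) ≫ p by
          rw [Category.assoc, Category.assoc, pullback.condition])))
    have hsd : s = (s ≫ pullback.fst p p) ≫ pullback.diagonal p :=
      pullback.hom_ext (by simp) (by simpa using he.symm)
    refine hc ⟨(s ≫ pullback.fst p p).base (IsLocalRing.closedPoint Ω), ?_⟩
    rw [← Scheme.Hom.comp_apply, ← hsd]
    exact hsc
  exact isOpenImmersion_of_etale_universallyInjective p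

/-- Morphisms bijective on enough geometric fibres are isomorphisms. -/
theorem isIso_of_fiber_bijective {Y Z : FEt.Cat S} (φ : Y ⟶ Z)
    (h : ∀ C : Set S, IsClopen C → C.Nonempty → ∃ (Ω : Type u) (_ : Field Ω) (_ : IsSepClosed Ω)
      (ξ : Spec (CommRingCat.of Ω) ⟶ S), ξ.base (IsLocalRing.closedPoint Ω) ∈ C ∧
        Function.Bijective ((FEt.fiber ξ).map φ)) : IsIso φ := by
  let p := φ.left
  have hp : FEt.prop p := prop_left φ
  have hpw : p ≫ Z.hom = Y.hom := MorphismProperty.Over.w φ
  haveI := hp.1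
  haveI := hp.2
  haveI : IsOpenImmersion p := isOpenImmersion_of_fiber_injective φ fun C hC hne => by
    obtain ⟨Ω, i1, i2, ξ, hξ, hb⟩ := h C hC hne
    exact ⟨Ω, i1, i2, ξ, hξ, hb.1⟩
  haveI : Surjective p := by
    refine ⟨Set.range_eq_univ.1 ?_⟩
    by_contra hne
    obtain ⟨Ω, _, _, ξ, ⟨c, hc, hcξ⟩, hbij⟩ := h _
      ⟨Z.hom.isClosedMap _ (isClopen_range hp).compl.1, Z.hom.isOpenMap _ (isClopen_range hp).compl.2⟩
      ((Set.nonempty_compl.2 hne).image _)
    obtain ⟨s, hsc⟩ := exists_lift_at ξ Z.hom c hcξ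
    obtain ⟨t, ht⟩ := hbij.2 s
    refine hc ⟨t.1.base (IsLocalRing.closedPoint Ω), ?_⟩
    rw [← Scheme.Hom.comp_apply]
    exact (congrArg (fun s : Spec (CommRingCat.of Ω) ⟶ Z.left => s.base (IsLocalRing.closedPoint Ω))
      (congrArg Subtype.val ht)).trans hsc
  haveI : IsIso p := (isIso_iff_isOpenImmersion_and_surjective _).2 ⟨inferInstance, inferInstance⟩
  exact ⟨MorphismProperty.Over.homMk (inv p) (by rw [← hpw, IsIso.inv_hom_id_assoc]),
    MorphismProperty.Over.Hom.ext (IsIso.hom_inv_id p), MorphismProperty.Over.Hom.ext (IsIso.inv_hom_id p)⟩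

variable {Ω : Type u} [Field Ω] (ξ : Spec (CommRingCat.of Ω) ⟶ S)

/-- The fibre functor is corepresentable in schemes over the base. -/
def fiberIsoCoyoneda : FEt.fiber ξ ≅
    MorphismProperty.Over.forget FEt.prop ⊤ S ⋙ coyoneda.obj (Opposite.op (Over.mk ξ)) :=
  NatIso.ofComponents (fun Y => Equiv.toIso
    { toFun := fun s => Over.homMk s.1 s.2
      invFun := fun f => ⟨f.left, Over.w f⟩
      left_inv := fun _ => rfl
      right_inv := fun _ => Over.OverMorphism.ext rfl })
    (fun φ => by ext s; exact Over.OverMorphism.ext rfl)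

instance preservesFiniteLimits_fiber : PreservesFiniteLimits (FEt.fiber ξ) :=
  preservesFiniteLimits_of_natIso (fiberIsoCoyoneda ξ).symm

theorem eq_closedPoint (x : Spec (CommRingCat.of Ω)) : x = IsLocalRing.closedPoint Ω :=
  Subsingleton.elim _ _

/-- A geometric point landing in an open immersion factors through it. -/
theorem exists_factor {A B : Scheme.{u}} (j : A ⟶ B) [IsOpenImmersion j] (g : B ⟶ S)
    (s : Spec (CommRingCat.of Ω) ⟶ B) (hs : s ≫ g = ξ)
    (h : s.base (IsLocalRing.closedPoint Ω) ∈ Set.range j.base) :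
    ∃ t : Spec (CommRingCat.of Ω) ⟶ A, t ≫ j ≫ g = ξ ∧ t ≫ j = s := by
  have hr : Set.range s.base ⊆ Set.range j.base := by
    rintro _ ⟨x, rfl⟩
    rw [eq_closedPoint x]
    exact h
  refine ⟨IsOpenImmersion.lift j s hr, ?_, IsOpenImmersion.lift_fac _ _ _⟩
  rw [← Category.assoc, IsOpenImmersion.lift_fac, hs]

instance preservesInitial_fiber : PreservesColimit (Functor.empty.{0} (FEt.Cat S)) (FEt.fiber ξ) := by
  refine preservesColimit_of_preserves_colimit_cocone (emptyCoverIsInitial S) ?_
  haveI hemp : IsEmpty ((FEt.fiber ξ).obj (emptyCover S)) :=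
    ⟨fun s => (initial_isEmpty.{u}).false (s.1.base (IsLocalRing.closedPoint Ω))⟩
  exact (isColimitMapCoconeEmptyCoconeEquiv _ _).symm
    ((Types.initial_iff_empty _).2 hemp).some

instance preservesPEmpty_fiber : PreservesColimitsOfShape (Discrete PEmpty.{1}) (FEt.fiber ξ) :=
  preservesColimitsOfShape_pempty_of_preservesInitial (FEt.fiber ξ)

instance preservesBinary_fiber : PreservesColimitsOfShape (Discrete WalkingPair) (FEt.fiber ξ) := by
  have key : ∀ Y Z : FEt.Cat S, PreservesColimit (pair Y Z) (FEt.fiber ξ) := fun Y Z => by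
    refine preservesColimit_of_preserves_colimit_cocone (binCofanIsColimit Y Z) ?_
    refine (isColimitMapCoconeBinaryCofanEquiv _ _ _).symm ?_
    refine Nonempty.some ((Types.binaryCofan_isColimit_iff _).2 ⟨?_, ?_, ?_⟩)
    · intro a b hab
      have h1 := congrArg Subtype.val hab
      exact Subtype.ext ((cancel_mono (coprod.inl : Y.left ⟶ Y.left ⨿ Z.left)).1 h1)
    · intro a b hab
      have h1 := congrArg Subtype.val hab
      exact Subtype.ext ((cancel_mono (coprod.inr : Z.left ⟶ Y.left ⨿ Z.left)).1 h1)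
    · have hc := isCompl_range_inl_inr Y.left Z.left
      constructor
      · rw [Set.disjoint_left]
        rintro _ ⟨a, rfl⟩ ⟨b, hb⟩
        have h1 : b.1 ≫ (coprod.inr : Z.left ⟶ Y.left ⨿ Z.left) = a.1 ≫ coprod.inl := congrArg Subtype.val hb
        have h2 := congrArg (fun s : Spec (CommRingCat.of Ω) ⟶ Y.left ⨿ Z.left =>
          s.base (IsLocalRing.closedPoint Ω)) h1
        exact Set.disjoint_left.1 hc.1 ⟨_, rfl⟩ ⟨_, h2⟩
      · rw [codisjoint_iff, eq_top_iff]
        rintro ⟨s, hs⟩ -
        have hcov : s.base (IsLocalRing.closedPoint Ω) ∈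
            Set.range (coprod.inl : Y.left ⟶ Y.left ⨿ Z.left).base ∪
              Set.range (coprod.inr : Z.left ⟶ Y.left ⨿ Z.left).base := by
          have := hc.2.eq_top
          exact this.ge (Set.mem_univ _)
        rcases hcov with hl | hr
        · obtain ⟨t, ht1, ht2⟩ := exists_factor ξ (coprod.inl : Y.left ⟶ Y.left ⨿ Z.left)
            (coprod.desc Y.hom Z.hom) s hs hl
          exact Or.inl ⟨⟨t, (congrArg (t ≫ ·) (coprod.inl_desc _ _)).symm.trans ht1⟩, Subtype.ext ht2⟩
        · obtain ⟨t, ht1, ht2⟩ := exists_factor ξ (coprod.inr : Z.left ⟶ Y.left ⨿ Z.left)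
            (coprod.desc Y.hom Z.hom) s hs hr
          exact Or.inr ⟨⟨t, (congrArg (t ≫ ·) (coprod.inr_desc _ _)).symm.trans ht1⟩, Subtype.ext ht2⟩
  exact ⟨fun {K} => by
    haveI := key (K.obj ⟨WalkingPair.left⟩) (K.obj ⟨WalkingPair.right⟩)
    exact preservesColimit_of_iso_diagram _ (diagramIsoPair K).symm⟩

instance preservesFiniteCoproducts_fiber : PreservesFiniteCoproducts (FEt.fiber ξ) :=
  ⟨fun n => PreservesFiniteCoproducts.of_preserves_binary_and_initial (FEt.fiber ξ) (Fin n)⟩

variable [IsSepClosed Ω]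

instance preservesCoequalizers_fiber :
    PreservesColimitsOfShape WalkingParallelPair (FEt.fiber ξ) := by
  have key : ∀ {Y Z : FEt.Cat S} (φ ψ : Z ⟶ Y), PreservesColimit (parallelPair φ ψ) (FEt.fiber ξ) := by
    intro Y Z φ ψ
    have hcol : IsColimit (Cofork.ofπ (coeqπ φ ψ) (coeqπ_condition φ ψ)) :=
      Cofork.IsColimit.ofExistsUnique fun s => existsUnique_desc φ ψ s.π s.condition
    refine preservesColimit_of_preserves_colimit_cocone hcol ?_
    refine (isColimitMapCoconeCoforkEquiv _ _).symm ?_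
    have hbij := coeq_lifts_bijective ξ (toOver φ) (toOver ψ)
    let e := Equiv.ofBijective _ hbij
    refine Cofork.IsColimit.ofExistsUnique fun s => ?_
    let m₀ : Quot (fun x y : Lifts ξ Y.hom => ∃ z : Lifts ξ Z.hom,
        z.1 ≫ (toOver φ).1 = x.1 ∧ z.1 ≫ (toOver ψ).1 = y.1) → s.pt :=
      Quot.lift (fun x => s.π x) fun x y ⟨z, hx, hy⟩ => by
        have h1 := ConcreteCategory.congr_hom s.condition z
        simp only [types_comp_apply] at h1
        rw [show x = (FEt.fiber ξ).map φ z from Subtype.ext hx.symm,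
          show y = (FEt.fiber ξ).map ψ z from Subtype.ext hy.symm]
        exact h1
    refine ⟨↾fun c => m₀ (e.symm c), ?_, ?_⟩
    · ext x
      exact congrArg m₀ (e.symm_apply_apply (Quot.mk _ x))
    · intro m hm
      ext c
      show m c = m₀ (e.symm c)
      obtain ⟨x, rfl⟩ := e.surjective c
      rw [e.symm_apply_apply]
      induction x using Quot.ind with
      | _ x => exact ConcreteCategory.congr_hom hm x
  exact ⟨fun {K} => by
    haveI := key (K.map WalkingParallelPairHom.left) (K.map WalkingParallelPairHom.right)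
    exact preservesColimit_of_iso_diagram _ (diagramIsoParallelPair K).symm⟩

instance preservesFiniteColimits_fiber : PreservesFiniteColimits (FEt.fiber ξ) :=
  preservesFiniteColimits_of_preservesCoequalizers_and_finiteCoproducts _

end

noncomputable section

variable {S : Scheme.{u}}

/-- A cocone which is a colimit on all geometric fibres is a colimit. -/
theorem isColimit_of_fibers {J : Type} [SmallCategory J] [FinCategory J] {K : J ⥤ FEt.Cat S}
    (c : Cocone K)
    (h : ∀ (Ω : Type u) [Field Ω] [IsAlgClosed Ω] (ξ : Spec (CommRingCat.of Ω) ⟶ S),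
      Nonempty (IsColimit ((FEt.fiber ξ).mapCocone c))) : Nonempty (IsColimit c) := by
  haveI : IsIso (colimit.desc K c) := by
    refine isIso_of_fiber_bijective _ fun C _ ⟨x, hx⟩ => ?_
    obtain ⟨Ω, _, _, ξ, hξ⟩ := exists_geometric_point x
    refine ⟨Ω, inferInstance, inferInstance, ξ, hξ ▸ hx, ?_⟩
    obtain ⟨hc⟩ := h Ω ξ
    let h' := isColimitOfPreserves (FEt.fiber ξ) (colimit.isColimit K)
    have he : (FEt.fiber ξ).map (colimit.desc K c) = (h'.coconePointUniqueUpToIso hc).hom :=
      h'.hom_ext fun j => by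
        rw [IsColimit.comp_coconePointUniqueUpToIso_hom]
        show (FEt.fiber ξ).map _ ≫ _ = (FEt.fiber ξ).map _
        rw [← Functor.map_comp]
        exact congrArg _ (colimit.ι_desc c j)
    rw [he]
    exact (h'.coconePointUniqueUpToIso hc).toEquiv.bijective
  haveI : IsIso ((colimit.isColimit K).desc c) := ‹IsIso (colimit.desc K c)›
  exact ⟨IsColimit.ofPointIso (colimit.isColimit K)⟩

/-- Fibres of a restriction. -/
def restrictFiberIso {X : Scheme.{u}} (f : X ⟶ S) {Ω : Type u} [Field Ω]
    (ξ : Spec (CommRingCat.of Ω) ⟶ X) : FEt.restrict f ⋙ FEt.fiber ξ ≅ FEt.fiber (ξ ≫ f) :=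
  NatIso.ofComponents (fun Y => Equiv.toIso
    { toFun := fun s => ⟨s.1 ≫ pullback.fst Y.hom f, (Category.assoc _ _ _).trans
        ((congrArg (s.1 ≫ ·) pullback.condition).trans ((Category.assoc _ _ _).symm.trans
          (congrArg (· ≫ f) s.2)))⟩
      invFun := fun t => ⟨pullback.lift t.1 ξ t.2, pullback.lift_snd _ _ _⟩
      left_inv := fun s => Subtype.ext (pullback.hom_ext (pullback.lift_fst _ _ _)
        ((pullback.lift_snd _ _ _).trans s.2.symm))
      right_inv := fun t => Subtype.ext (pullback.lift_fst _ _ _) })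
    (fun φ => by
      ext s
      refine Subtype.ext ?_
      show (s.1 ≫ ((FEt.restrict f).map φ).left) ≫ pullback.fst _ f = (s.1 ≫ pullback.fst _ f) ≫ φ.left
      rw [Category.assoc, Category.assoc]
      congr 1
      simp [FEt.restrict]
      erw [pullback.lift_fst]
      rfl)

instance preservesFiniteColimits_restrict {X : Scheme.{u}} (f : X ⟶ S) :
    PreservesFiniteColimits (FEt.restrict f) where
  preservesFiniteColimits J _ _ :=
    { preservesColimit := fun {K} =>
        { preserves := fun {c} hc => isColimit_of_fibers _ fun Ω _ _ ξ => by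
            haveI : PreservesColimitsOfShape J (FEt.restrict f ⋙ FEt.fiber ξ) :=
              preservesColimitsOfShape_of_natIso (restrictFiberIso f ξ).symm
            exact ⟨isColimitOfPreserves (FEt.restrict f ⋙ FEt.fiber ξ) hc⟩ } }

/-- Covers form a pre-Galois category. -/
instance preGaloisCategory (S : Scheme.{u}) : PreGaloisCategory (FEt.Cat S) where
  hasQuotientsByFiniteGroups G _ _ := by
    obtain ⟨G', hg, hf, ⟨e⟩⟩ := Finite.exists_type_univ_nonempty_mulEquiv.{u, 0} G
    exact Limits.hasColimitsOfShape_of_equivalence e.toSingleObjEquiv.symm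
  monoInducesIsoOnDirectSummand {Y Z} i _ := by
    have hp := prop_left i
    haveI : IsOpenImmersion i.left := isOpenImmersion_of_fiber_injective i fun C _ ⟨x, hx⟩ => by
      obtain ⟨Ω, _, _, ξ, hξ⟩ := exists_geometric_point x
      exact ⟨Ω, inferInstance, inferInstance, ξ, hξ ▸ hx,
        (mono_iff_injective ((FEt.fiber ξ).map i)).1 inferInstance⟩
    let U : Z.left.Opens := ⟨(Set.range i.left.base)ᶜ, (isClopen_range hp).compl.2⟩
    let W : FEt.Cat S := MorphismProperty.Over.mk ⊤ (U.ι ≫ Z.hom)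
      (MorphismProperty.comp_mem _ _ _ (prop_ι_of_isClopen U (isClopen_range hp).compl.1) Z.prop)
    let u : W ⟶ Z := MorphismProperty.Over.homMk U.ι rfl
    refine ⟨W, u, isColimit_of_fibers _ fun Ω _ _ ξ => ⟨(isColimitMapCoconeBinaryCofanEquiv _ _ _).symm
      (Nonempty.some ((Types.binaryCofan_isColimit_iff _).2 ⟨?_, ?_, ?_⟩))⟩⟩
    · exact (mono_iff_injective ((FEt.fiber ξ).map i)).1 inferInstance
    · intro a b hab
      exact Subtype.ext ((cancel_mono U.ι).1 (congrArg Subtype.val hab))
    · constructor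
      · rw [Set.disjoint_left]
        rintro _ ⟨a, rfl⟩ ⟨b, hb⟩
        have h1 : b.1 ≫ U.ι = a.1 ≫ i.left := congrArg Subtype.val hb
        have h2 := congrArg (fun s : Spec (CommRingCat.of Ω) ⟶ Z.left =>
          s.base (IsLocalRing.closedPoint Ω)) h1
        exact (b.1.base (IsLocalRing.closedPoint Ω)).2 ⟨_, h2.symm⟩
      · rw [codisjoint_iff, eq_top_iff]
        rintro s -
        by_cases hs : s.1.base (IsLocalRing.closedPoint Ω) ∈ Set.range i.left.base
        · obtain ⟨t, ht1, ht2⟩ := exists_factor ξ i.left Z.hom s.1 s.2 hs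
          exact Or.inl ⟨⟨t, (congrArg (t ≫ ·) (MorphismProperty.Over.w i)).symm.trans ht1⟩, Subtype.ext ht2⟩
        · obtain ⟨t, ht1, ht2⟩ := exists_factor ξ U.ι Z.hom s.1 s.2 (U.range_ι.ge hs)
          exact Or.inr ⟨⟨t, ht1⟩, Subtype.ext ht2⟩

end

end Groth.Agent.Pi1X
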