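import Groth.Agent.Pi1X.EtEqualizer
import Mathlib.RingTheory.Trace.Basic
import Mathlib.RingTheory.Artinian.Module
import Mathlib.RingTheory.Unramified.Field
import Mathlib.RingTheory.Localization.Integral
import Mathlib.RingTheory.IntegralClosure.IntegrallyClosed
import Mathlib.LinearAlgebra.Trace

/-!
Finite étale algebras over a normal domain are normal.
-/

universe u

open TensorProduct

set_option linter.style.haveILetI false

namespace Groth.Agent.Pi1X

theorem trace_pi {D : Type u} [CommRing D] (n : ℕ) (z : Fin n → D) :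
    Algebra.trace D (Fin n → D) z = ∑ i, z i := by
  rw [Algebra.trace_eq_matrix_trace (Pi.basisFun D (Fin n)), Matrix.trace]
  refine Finset.sum_congr rfl fun i _ => ?_
  rw [Matrix.diag_apply, Algebra.leftMulMatrix_eq_repr_mul, Pi.basisFun_repr]
  simp [Pi.basisFun_apply]

/-- The trace of an integral element of a finite étale algebra over the fraction field is integral. -/
theorem isIntegral_trace_of_finite_etale {A K L : Type u} [CommRing A] [Field K] [CommRing L]
    [Algebra A K] [Algebra K L] [Algebra A L] [IsScalarTower A K L] [Module.Finite K L]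
    [Algebra.Etale K L] {y : L} (hy : IsIntegral A y) : IsIntegral A (Algebra.trace K L y) := by
  obtain ⟨D, _, _, _, ⟨r, -⟩, n, ⟨β⟩⟩ := exists_split _ K L ⊥ rfl
  haveI : Nontrivial D := PrimeSpectrum.nonempty_iff_nontrivial.1 ⟨r⟩
  letI : Algebra A D := ((algebraMap K D).comp (algebraMap A K)).toAlgebra
  haveI : IsScalarTower A K D := IsScalarTower.of_algebraMap_eq fun _ => rfl
  refine (isIntegral_algHom_iff (IsScalarTower.toAlgHom A K D) (algebraMap K D).injective).1 ?_
  show IsIntegral A (algebraMap K D (Algebra.trace K L y))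
  have h : algebraMap K D (Algebra.trace K L y) = ∑ i, β (1 ⊗ₜ y) i := by
    rw [← trace_pi, Algebra.trace_eq_of_algEquiv β, Algebra.trace_apply, Algebra.trace_apply,
      ← LinearMap.trace_baseChange]
    congr 1
    ext l
    simp
  rw [h]
  refine IsIntegral.sum _ fun i _ => ?_
  exact hy.map (((Pi.evalAlgHom D (fun _ => D) i).comp β.toAlgHom).restrictScalars A |>.comp
    ((Algebra.TensorProduct.includeRight (R := K) (A := D) (B := L)).restrictScalars A))

variable {A B K : Type u} [CommRing A] [CommRing B] [Algebra A B] [Module.Finite A B]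
  [Algebra.Etale A B] [Field K] [Algebra A K]

/-- A finite étale algebra over a normal domain is integrally closed in its generic fibre. -/
theorem mem_range_of_isIntegral [IsDomain A] [IsIntegrallyClosed A] [IsFractionRing A K]
    {y : K ⊗[A] B} (hy : IsIntegral A y) :
    y ∈ (Algebra.TensorProduct.includeRight : B →ₐ[A] K ⊗[A] B).range := by
  classical
  let L := K ⊗[A] B
  let ι : B →ₐ[A] L := Algebra.TensorProduct.includeRight
  obtain ⟨S, hS⟩ := TensorProduct.exists_finset (Algebra.FormallyUnramified.elem A B)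
  let ιι : B ⊗[A] B →ₐ[A] L ⊗[K] L :=
    Algebra.TensorProduct.lift
      ((Algebra.TensorProduct.includeLeft (R := K) (S := A) (A := L) (B := L)).comp ι)
      (((Algebra.TensorProduct.includeRight (R := K) (A := L) (B := L)).restrictScalars A).comp ι)
      (fun _ _ => Commute.all _ _)
  let e : L ⊗[K] L := ιι (Algebra.FormallyUnramified.elem A B)
  have he : e = ∑ k ∈ S, ι k.1 ⊗ₜ[K] ι k.2 := by
    simp only [e]
    rw [hS]
    simp [ιι]
  let μ : L ⊗[K] L →ₐ[L] L :=
    Algebra.TensorProduct.lift (AlgHom.id L L) (AlgHom.id K L) fun _ _ => Commute.all _ _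
  have hμe : μ e = 1 := by
    have h : ∀ x, μ (ιι x) = ι (Algebra.TensorProduct.lmul' A x) := fun x => by
      induction x using TensorProduct.induction_on with
      | zero => simp
      | tmul s t => simp [μ, ιι, ι]
      | add a b ha hb => simp only [map_add, ha, hb]
    rw [h, Algebra.FormallyUnramified.lmul_elem, map_one]
  have hswap : ∀ t : L, ((1 : L) ⊗ₜ[K] t) * e = (t ⊗ₜ[K] (1 : L)) * e := fun t => by
    induction t using TensorProduct.induction_on with
    | zero => simp
    | tmul c b =>
      have hb : ((1 : L) ⊗ₜ[K] ι b) * e = (ι b ⊗ₜ[K] (1 : L)) * e := by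
        have h := congrArg ιι (Algebra.FormallyUnramified.one_tmul_mul_elem (R := A) b)
        simpa [ιι, e] using h
      have hc : (c ⊗ₜ[A] b : L) = c • ι b := by
        show _ = c • ((1 : K) ⊗ₜ[A] b)
        rw [smul_tmul', smul_eq_mul, mul_one]
      rw [hc, TensorProduct.tmul_smul, ← smul_tmul', smul_mul_assoc, smul_mul_assoc, hb]
    | add a b ha hb => rw [tmul_add, add_tmul, add_mul, add_mul, ha, hb]
  have key : ∀ z, z * e = ((μ z) ⊗ₜ[K] (1 : L)) * e := fun z => by
    induction z using TensorProduct.induction_on with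
    | zero => simp
    | tmul s t =>
      calc (s ⊗ₜ[K] t) * e = (s ⊗ₜ[K] (1 : L)) * (((1 : L) ⊗ₜ[K] t) * e) := by rw [← mul_assoc]; simp
        _ = (s ⊗ₜ[K] (1 : L)) * ((t ⊗ₜ[K] (1 : L)) * e) := by rw [hswap]
        _ = _ := by rw [← mul_assoc]; simp [μ]
    | add a b ha hb => rw [add_mul, ha, hb, map_add, add_tmul, add_mul]
  -- the trace of multiplication by `(1 ⊗ y) * e` computed in two ways
  have h1 : Algebra.trace L (L ⊗[K] L) (((1 : L) ⊗ₜ[K] y) * e) = y := by
    have hm : Algebra.lmul L (L ⊗[K] L) (((1 : L) ⊗ₜ[K] y) * e) =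
        μ.toLinearMap.smulRight ((y ⊗ₜ[K] (1 : L)) * e) := by
      refine LinearMap.ext fun z => ?_
      show ((1 : L) ⊗ₜ[K] y) * e * z = μ z • ((y ⊗ₜ[K] (1 : L)) * e)
      rw [hswap, mul_assoc, mul_comm e z, key]
      conv_rhs => rw [← one_mul ((y ⊗ₜ[K] (1 : L)) * e), ← smul_mul_assoc,
        Algebra.TensorProduct.one_def, smul_tmul', smul_eq_mul, mul_one]
      rw [← mul_assoc, ← mul_assoc, mul_comm (y ⊗ₜ[K] (1 : L)) (μ z ⊗ₜ[K] (1 : L))]
    rw [Algebra.trace_apply, hm, LinearMap.trace_smulRight]
    show μ ((y ⊗ₜ[K] (1 : L)) * e) = y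
    rw [map_mul, hμe, mul_one]
    simp [μ]
  have htr : ∀ s t : L, Algebra.trace L (L ⊗[K] L) (s ⊗ₜ[K] t) = Algebra.trace K L t • s := fun s t => by
    rw [show (s ⊗ₜ[K] t) = s • ((1 : L) ⊗ₜ[K] t) by rw [smul_tmul', smul_eq_mul, mul_one], map_smul]
    have h : Algebra.trace L (L ⊗[K] L) ((1 : L) ⊗ₜ[K] t) = algebraMap K L (Algebra.trace K L t) := by
      rw [Algebra.trace_apply, Algebra.trace_apply, ← LinearMap.trace_baseChange]
      congr 1
      ext l
      simp
      show ((1 : L) ⊗ₜ[K] t) * ((1 : L) ⊗ₜ[K] _) = _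
      rw [Algebra.TensorProduct.tmul_mul_tmul, one_mul]
    rw [h, smul_eq_mul, Algebra.smul_def, mul_comm]
  have h2 : y = ∑ k ∈ S, Algebra.trace K L (y * ι k.2) • ι k.1 := by
    conv_lhs => rw [← h1]
    rw [he, Finset.mul_sum, map_sum]
    refine Finset.sum_congr rfl fun k _ => ?_
    rw [Algebra.TensorProduct.tmul_mul_tmul, one_mul, htr]
  rw [h2]
  refine sum_mem fun k _ => ?_
  haveI : Algebra.IsIntegral A B := inferInstance
  have hint : IsIntegral A (y * ι k.2) := hy.mul ((Algebra.IsIntegral.isIntegral k.2).map ι)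
  obtain ⟨a, ha⟩ := IsIntegrallyClosed.isIntegral_iff.1 (isIntegral_trace_of_finite_etale (K := K) hint)
  rw [← ha, algebraMap_smul]
  exact Subalgebra.smul_mem _ ((AlgHom.mem_range _).2 ⟨k.1, rfl⟩) a

/-- Local rings of a finite étale algebra over a normal domain are normal domains, and each prime
contains exactly one prime of the generic fibre. -/
theorem isDomain_isIntegrallyClosed_atPrime [IsDomain A] [IsIntegrallyClosed A]
    (q : Ideal B) [q.IsPrime] :
    IsDomain (Localization.AtPrime q) ∧ IsIntegrallyClosed (Localization.AtPrime q) := by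
  classical
  let K := FractionRing A
  let L := K ⊗[A] B
  let ι : B →ₐ[A] L := Algebra.TensorProduct.includeRight
  have hι : Function.Injective ι :=
    Algebra.TensorProduct.includeRight_injective (IsFractionRing.injective A K)
  haveI : _root_.IsReduced L := Algebra.FormallyUnramified.isReduced_of_field K L
  haveI : IsArtinianRing L := IsArtinianRing.of_finite K L
  haveI : Finite (MaximalSpectrum L) := inferInstance
  cases nonempty_fintype (MaximalSpectrum L)
  let Φ := IsArtinianRing.equivPi L
  let c : MaximalSpectrum L → L := fun P => Φ.symm (Pi.single P 1)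
  have hc : ∀ P, ∃ b : B, ι b = c P := fun P => by
    refine mem_range_of_isIntegral (y := c P) ⟨Polynomial.X ^ 2 - Polynomial.X, ?_, ?_⟩
    · exact Polynomial.monic_X_pow_sub (by rw [Polynomial.degree_X]; exact mod_cast one_lt_two)
    · simp only [sq, Polynomial.eval₂_sub, Polynomial.eval₂_mul, Polynomial.eval₂_X, c]
      rw [← map_mul, ← Pi.single_mul, mul_one, sub_self]
  choose e he using hc
  have hsum : ∑ P, e P = 1 := hι (by
    rw [map_sum, map_one]
    simp only [he, c]
    rw [← map_sum, show ∑ P : MaximalSpectrum L, (Pi.single P 1 : ∀ Q : MaximalSpectrum L, L ⧸ Q.asIdeal) = 1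
      from by simpa using Finset.univ_sum_single (1 : ∀ Q : MaximalSpectrum L, L ⧸ Q.asIdeal)]
    exact map_one Φ.symm)
  obtain ⟨P, hP⟩ : ∃ P, e P ∉ q := by
    by_contra hne
    push Not at hne
    exact Ideal.IsPrime.ne_top ‹_› ((Ideal.eq_top_iff_one q).2 (hsum ▸ sum_mem fun P _ => hne P))
  let F := L ⧸ P.asIdeal
  haveI := P.isMaximal
  letI : Field F := Ideal.Quotient.field P.asIdeal
  let π : B →+* F := (Ideal.Quotient.mk P.asIdeal).comp ι.toRingHom
  have hker : ∀ b, π b = 0 → b * e P = 0 := fun b hb => hι (by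
    rw [map_mul, he, map_zero]
    refine Φ.injective (funext fun Q => ?_)
    rw [map_mul, map_zero, Pi.mul_apply, IsArtinianRing.equivPi_apply]
    by_cases hQ : Q = P
    · subst hQ
      rw [show ((ι b : L) : L ⧸ Q.asIdeal) = π b from rfl, hb, zero_mul]
      rfl
    · simp [c, hQ])
  have hunit : ∀ s : q.primeCompl, IsUnit (π s) := fun s => by
    rw [isUnit_iff_ne_zero]
    intro h0
    have := hker _ h0
    rcases Ideal.IsPrime.mem_or_mem ‹_› (show (s : B) * e P ∈ q by rw [this]; exact q.zero_mem) with h | h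
    · exact s.2 h
    · exact hP h
  let Bq := Localization.AtPrime q
  let g : Bq →+* F := IsLocalization.lift hunit
  have hg : Function.Injective g := by
    rw [IsLocalization.lift_injective_iff]
    intro x y
    refine ⟨fun h => ?_, fun h => ?_⟩
    · obtain ⟨t, ht⟩ := (IsLocalization.eq_iff_exists q.primeCompl Bq).1 h
      have := congrArg π ht
      simpa [(hunit t).ne_zero] using this
    · refine (IsLocalization.eq_iff_exists q.primeCompl Bq).2 ⟨⟨e P, hP⟩, ?_⟩
      have := hker (x - y) (by rw [map_sub, h, sub_self])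
      rw [sub_mul, sub_eq_zero] at this
      simpa [mul_comm] using this
  haveI : IsDomain Bq := hg.isDomain g
  refine ⟨inferInstance, ?_⟩
  letI : Algebra Bq F := g.toAlgebra
  haveI : FaithfulSMul Bq F := (faithfulSMul_iff_algebraMap_injective _ _).2 hg
  haveI : IsFractionRing Bq F := by
    refine IsFractionRing.of_field Bq F fun z => ?_
    obtain ⟨w, rfl⟩ := Ideal.Quotient.mk_surjective z
    obtain ⟨⟨a, s⟩, h⟩ : ∃ x : B × (nonZeroDivisors A), w * algebraMap A L x.2 = ι x.1 := by
      induction w using TensorProduct.induction_on with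
      | zero => exact ⟨(0, 1), by simp⟩
      | tmul k b =>
        obtain ⟨⟨m, t⟩, hk⟩ := IsLocalization.surj (nonZeroDivisors A) k
        refine ⟨(m • b, t), ?_⟩
        rw [Algebra.TensorProduct.algebraMap_apply, Algebra.TensorProduct.tmul_mul_tmul, mul_one, hk,
          Algebra.algebraMap_eq_smul_one, TensorProduct.smul_tmul]
        rfl
      | add u v hu hv =>
        obtain ⟨⟨a, s⟩, hu⟩ := hu
        obtain ⟨⟨b, t⟩, hv⟩ := hv
        refine ⟨((t : A) • a + (s : A) • b, s * t), ?_⟩
        rw [Submonoid.coe_mul, map_mul, map_add, map_smul, map_smul, ← algebraMap_smul L (t : A) (ι a),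
          ← algebraMap_smul L (s : A) (ι b), smul_eq_mul, smul_eq_mul, ← hu, ← hv]
        ring
    refine ⟨algebraMap B Bq a, algebraMap B Bq (algebraMap A B s), ?_⟩
    simp only [RingHom.algebraMap_toAlgebra, g, IsLocalization.lift_eq]
    have hs : π (algebraMap A B s) ≠ 0 := by
      show Ideal.Quotient.mk P.asIdeal (ι (algebraMap A B s)) ≠ 0
      rw [AlgHom.commutes, IsScalarTower.algebraMap_apply A K L, Ne, Ideal.Quotient.eq_zero_iff_mem]
      exact fun hmem => P.isMaximal.ne_top (Ideal.eq_top_of_isUnit_mem _ hmem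
        ((IsUnit.mk0 _ (IsFractionRing.to_map_ne_zero_of_mem_nonZeroDivisors s.2)).map _))
    rw [eq_div_iff hs]
    show _ * Ideal.Quotient.mk P.asIdeal (ι _) = Ideal.Quotient.mk P.asIdeal (ι a)
    rw [← map_mul, ← h, AlgHom.commutes]
  rw [isIntegrallyClosed_iff F]
  intro z hz
  letI : Algebra B F := π.toAlgebra
  haveI : IsScalarTower B Bq F := IsScalarTower.of_algebraMap_eq fun b => (IsLocalization.lift_eq hunit b).symm
  obtain ⟨s, hs⟩ := IsIntegral.exists_multiple_integral_of_isLocalization q.primeCompl z hz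
  haveI : IsScalarTower A B F := IsScalarTower.of_algebraMap_eq fun a =>
    (congrArg (Ideal.Quotient.mk P.asIdeal) (ι.commutes a)).symm
  have hsA : IsIntegral A (s • z) := isIntegral_trans (R := A) _ hs
  -- lift to the generic fibre
  let y : L := Φ.symm (Pi.single P (s • z))
  have hyv : ∀ Q : MaximalSpectrum L,
      Ideal.Quotient.mk Q.asIdeal y = (Pi.single P (s • z) : ∀ Q : MaximalSpectrum L, L ⧸ Q.asIdeal) Q :=
    fun Q => (IsArtinianRing.equivPi_apply (R := L) y Q).symm.trans (congrFun (Φ.apply_symm_apply _) Q)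
  have hy : IsIntegral A y := by
    obtain ⟨p, hp, hp0⟩ := hsA
    refine ⟨p * Polynomial.X, hp.mul Polynomial.monic_X, ?_⟩
    refine Φ.injective (funext fun Q => ?_)
    rw [IsArtinianRing.equivPi_apply, map_zero, ← Ideal.Quotient.algebraMap_eq, Polynomial.hom_eval₂]
    by_cases hQ : Q = P
    · subst hQ
      have hy' : algebraMap L (L ⧸ Q.asIdeal) y = s • z := (hyv Q).trans (Pi.single_eq_same _ _)
      rw [hy', Polynomial.eval₂_mul, ← IsScalarTower.algebraMap_eq A L (L ⧸ Q.asIdeal), hp0, zero_mul]
      rfl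
    · have hy' : algebraMap L (L ⧸ Q.asIdeal) y = 0 := (hyv Q).trans (Pi.single_eq_of_ne hQ _)
      rw [hy', Polynomial.eval₂_mul, Polynomial.eval₂_X, mul_zero]
      rfl
  obtain ⟨b, hb⟩ := mem_range_of_isIntegral hy
  refine ⟨IsLocalization.mk' Bq b s, ?_⟩
  rw [RingHom.algebraMap_toAlgebra]
  show IsLocalization.lift hunit _ = z
  rw [IsLocalization.lift_mk'_spec]
  show Ideal.Quotient.mk P.asIdeal (ι b) = _
  rw [show ι b = y from hb, hyv, Pi.single_eq_same]
  simp [Submonoid.smul_def, Algebra.smul_def, RingHom.algebraMap_toAlgebra]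

end Groth.Agent.Pi1X
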