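import Groth.Agent.Pi1X.FEtFull
import Groth.Agent.Pi1X.NormalEtale
import Groth.Prelude.Def_Pi1
import Mathlib.RingTheory.LocalProperties.IntegrallyClosed
import Mathlib.AlgebraicGeometry.Morphisms.QuasiFinite
import Mathlib.AlgebraicGeometry.Stalk

/-!
Finite étale covers of normal integral schemes.
-/

universe u

open CategoryTheory CategoryTheory.Limits AlgebraicGeometry

set_option linter.style.haveILetI false

namespace Groth.Agent.Pi1X

/-- A finite étale cover of a normal scheme is normal. -/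
theorem isNormalScheme_of_finite_etale {X : Scheme.{u}} [IsIntegral X] (hX : Pi1.IsNormalScheme X)
    {W : Scheme.{u}} (h : W ⟶ X) [IsFinite h] [Etale h] : Pi1.IsNormalScheme W := by
  intro y
  obtain ⟨U, hU, hyU, -⟩ := exists_isAffineOpen_mem_and_subset (x := h.base y) (U := ⊤) trivial
  haveI : Nonempty (U : Scheme.{u}) := ⟨⟨_, hyU⟩⟩
  haveI : IsDomain Γ(X, U) := IsIntegral.component_integral U
  have hV : IsAffineOpen (h ⁻¹ᵁ U) := hU.preimage h
  algebraize [(h.app U).hom]
  haveI : Module.Finite Γ(X, U) Γ(W, h ⁻¹ᵁ U) :=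
    RingHom.finite_algebraMap.1 (IsFinite.finite_app (f := h) U hU)
  haveI : Algebra.Etale Γ(X, U) Γ(W, h ⁻¹ᵁ U) := by
    have h' := HasRingHomProperty.appLE @Etale h inferInstance ⟨U, hU⟩ ⟨_, hV⟩ le_rfl
    change (h.app U).hom.Etale
    rw [Scheme.Hom.app_eq_appLE]
    exact h'
  haveI : IsIntegrallyClosed Γ(X, U) := by
    refine IsIntegrallyClosed.of_localization_maximal fun p _ hpm => ?_
    let q : PrimeSpectrum Γ(X, U) := ⟨p, hpm.isPrime⟩
    have hq : hU.fromSpec q ∈ U := hU.opensRange_fromSpec.le ⟨q, rfl⟩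
    letI := TopCat.Presheaf.algebra_section_stalk X.presheaf (⟨hU.fromSpec q, hq⟩ : U)
    haveI : IsLocalization.AtPrime (X.presheaf.stalk (hU.fromSpec q)) p := hU.isLocalization_stalk' q hq
    haveI := (hX (hU.fromSpec q)).2
    exact IsIntegrallyClosed.of_equiv (IsLocalization.algEquiv p.primeCompl
      (X.presheaf.stalk (hU.fromSpec q)) (Localization.AtPrime p)).toRingEquiv
  let P := hV.primeIdealOf ⟨y, hyU⟩
  obtain ⟨hd, hn⟩ := isDomain_isIntegrallyClosed_atPrime (A := Γ(X, U)) P.asIdeal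
  letI := TopCat.Presheaf.algebra_section_stalk W.presheaf (⟨y, hyU⟩ : (h ⁻¹ᵁ U : W.Opens))
  haveI : IsLocalization.AtPrime (W.presheaf.stalk y) P.asIdeal := hV.isLocalization_stalk ⟨y, hyU⟩
  let e : W.presheaf.stalk y ≃+* Localization.AtPrime P.asIdeal :=
    (IsLocalization.algEquiv P.asIdeal.primeCompl (W.presheaf.stalk y)
      (Localization.AtPrime P.asIdeal)).toRingEquiv
  exact ⟨e.toMulEquiv.isDomain _, IsIntegrallyClosed.of_equiv e.symm⟩

/-- Every point of a finite étale cover of a normal integral scheme has exactly one generization over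
the generic point. -/
theorem exists_unique_generization {X : Scheme.{u}} [IsIntegral X] (hX : Pi1.IsNormalScheme X)
    {W : Scheme.{u}} (h : W ⟶ X) [IsFinite h] [Etale h] (y : W) :
    ∃! η : W, h.base η = genericPoint X ∧ η ⤳ y := by
  haveI : IsDomain (W.presheaf.stalk y) := (isNormalScheme_of_finite_etale hX h y).1
  haveI : Flat h := inferInstance
  let g₀ : W := (W.fromSpecStalk y).base ⟨⊥, Ideal.isPrime_bot⟩
  have hg₀ : g₀ ⤳ y := by
    have hmem : g₀ ∈ Set.range (W.fromSpecStalk y).base := ⟨_, rfl⟩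
    rwa [Scheme.range_fromSpecStalk] at hmem
  have key : ∀ η : W, h.base η = genericPoint X → η ⤳ y → η = g₀ := by
    intro η hη hηy
    have hmem : η ∈ Set.range (W.fromSpecStalk y).base := by
      rw [Scheme.range_fromSpecStalk]
      exact hηy
    obtain ⟨p, rfl⟩ := hmem
    have hs : g₀ ⤳ (W.fromSpecStalk y).base p :=
      ((PrimeSpectrum.le_iff_specializes (⟨⊥, Ideal.isPrime_bot⟩ : PrimeSpectrum _) p).1
        (bot_le (a := p.asIdeal))).map (W.fromSpecStalk y).continuous
    have hs' : h.base g₀ = genericPoint X := by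
      refine (((genericPoint_specializes (h.base g₀))).antisymm ?_).eq.symm
      exact hη ▸ hs.map h.continuous
    have hd := (h.isDiscrete_preimage_singleton (genericPoint X)).to_subtype
    let a : ↥(h.base ⁻¹' {genericPoint X}) := ⟨g₀, hs'⟩
    let b : ↥(h.base ⁻¹' {genericPoint X}) := ⟨_, hη⟩
    have hss : a ⤳ b := (subtype_specializes_iff a b).2 hs
    have he : a = b := hss.eq
    exact (congrArg Subtype.val he).symm
  obtain ⟨η, hη1, hη2⟩ : ∃ η, η ⤳ y ∧ h.base η = genericPoint X := by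
    obtain ⟨η, h1, h2⟩ := (Flat.generalizingMap h) (genericPoint_specializes (h.base y))
    exact ⟨η, h1, h2⟩
  exact ⟨η, ⟨hη2, hη1⟩, fun η' h' => (key η' h'.1 h'.2).trans (key η hη2 hη1).symm⟩

theorem isClopen_closure_generic {X : Scheme.{u}} [IsIntegral X] (hX : Pi1.IsNormalScheme X)
    {W : Scheme.{u}} (h : W ⟶ X) [IsFinite h] [Etale h] (s : Set W)
    (hs : s ⊆ h.base ⁻¹' {genericPoint X}) : IsClopen {y : W | ∃ η ∈ s, η ⤳ y} := by
  have hfin : (h.base ⁻¹' {genericPoint X}).Finite := h.finite_preimage_singleton _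
  have hcl : ∀ t ⊆ h.base ⁻¹' {genericPoint X}, IsClosed {y : W | ∃ η ∈ t, η ⤳ y} := by
    intro t ht
    have : {y : W | ∃ η ∈ t, η ⤳ y} = ⋃ η ∈ t, closure {η} := by
      ext y
      simp [specializes_iff_mem_closure]
    rw [this]
    exact (hfin.subset ht).isClosed_biUnion fun _ _ => isClosed_closure
  refine ⟨hcl s hs, ?_⟩
  rw [← isClosed_compl_iff]
  have : {y : W | ∃ η ∈ s, η ⤳ y}ᶜ = {y : W | ∃ η ∈ h.base ⁻¹' {genericPoint X} \ s, η ⤳ y} := by
    ext y
    obtain ⟨η, ⟨hη, hηy⟩, huniq⟩ := exists_unique_generization hX h y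
    refine ⟨fun hy => ⟨η, ⟨hη, fun hmem => hy ⟨η, hmem, hηy⟩⟩, hηy⟩, ?_⟩
    rintro ⟨η₁, ⟨h1, h1'⟩, h1y⟩ ⟨η₂, h2, h2y⟩
    exact h1' (((huniq η₁ ⟨h1, h1y⟩).trans (huniq η₂ ⟨hs h2, h2y⟩).symm) ▸ h2)
  rw [this]
  exact hcl _ Set.diff_subset

/-- A connected finite étale cover of a normal integral scheme is integral. -/
theorem isIntegral_of_connected {X : Scheme.{u}} [IsIntegral X] (hX : Pi1.IsNormalScheme X)
    {W : Scheme.{u}} (h : W ⟶ X) [IsFinite h] [Etale h] [ConnectedSpace W] : IsIntegral W := by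
  haveI : ∀ x : W, _root_.IsReduced (W.presheaf.stalk x) := fun x => by
    haveI := (isNormalScheme_of_finite_etale hX h x).1
    infer_instance
  haveI : IsReduced W := isReduced_of_isReduced_stalk W
  obtain ⟨y₀⟩ := (inferInstance : Nonempty W)
  obtain ⟨η, ⟨hη, hη₀⟩, -⟩ := exists_unique_generization hX h y₀
  have huniv : closure {η} = Set.univ := by
    have hc := (isClopen_closure_generic hX h {η} (by simpa using hη)).eq_univ ⟨y₀, η, rfl, hη₀⟩
    rw [← hc]
    ext y
    simp [specializes_iff_mem_closure]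
  haveI : IrreducibleSpace W := by
    rw [irreducibleSpace_def, Set.top_eq_univ, ← huniv]
    exact isIrreducible_singleton.closure
  exact (isIntegral_iff_irreducibleSpace_and_isReduced W).2 ⟨inferInstance, inferInstance⟩

/-- Restriction to a subspace containing the generic point is fully faithful. -/
theorem restrict_fullyFaithful_of_normal {P X : Scheme.{u}} [IsIntegral X] (hX : Pi1.IsNormalScheme X)
    (i : P ⟶ X) [IsPreimmersion i] (hi : genericPoint X ∈ Set.range i.base) :
    (FEt.restrict i).Full ∧ (FEt.restrict i).Faithful := by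
  have h : ∀ C : Set X, IsClopen C → C.Nonempty → (C ∩ Set.range i.base).Nonempty :=
    fun C hC ⟨x, hx⟩ => ⟨genericPoint X, (genericPoint_specializes x).mem_open hC.2 hx, hi⟩
  refine ⟨restrict_full i h fun W C hC => ?_, restrict_faithful i h⟩
  let j := pullback.fst W.hom i
  have hind : Topology.IsInducing j.base := (Scheme.Hom.isEmbedding j).isInducing
  let s : Set W.left := j.base '' C ∩ W.hom.base ⁻¹' {genericPoint X}
  refine ⟨_, isClopen_closure_generic hX W.hom s Set.inter_subset_right, ?_⟩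
  ext p
  obtain ⟨η, ⟨hη, hηp⟩, huniq⟩ := exists_unique_generization hX W.hom (j.base p)
  obtain ⟨q, hq⟩ : η ∈ Set.range j.base := by
    rw [Scheme.Pullback.range_fst, Set.mem_preimage, hη]
    exact hi
  have hqp : q ⤳ p := hind.specializes_iff.1 (hq ▸ hηp)
  constructor
  · rintro ⟨η', ⟨⟨q', hq', rfl⟩, hη'⟩, h'⟩
    exact (hind.specializes_iff.1 h').mem_closed hC.1 hq'
  · intro hp
    exact ⟨η, ⟨⟨q, hqp.mem_open hC.2 hp, hq⟩, hη⟩, hηp⟩

end Groth.Agent.Pi1X
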