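import Groth.Agent.Pi1X.FEtFull
import Groth.Agent.FBaseLib.Basic
import Mathlib.AlgebraicGeometry.Geometrically.Connected
import Mathlib.AlgebraicGeometry.Morphisms.UniversallyOpen

/-!
Restriction along universally open morphisms with geometrically connected fibres is fully faithful.
-/

universe u

open CategoryTheory CategoryTheory.Limits AlgebraicGeometry

set_option linter.style.haveILetI false

namespace Groth.Agent.Pi1X

/-- Geometric connectedness may be checked on algebraically closed fields. -/
theorem geometricallyConnected_of_isAlgClosed {X S : Scheme.{u}} (f : X ⟶ S)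
    (h : ∀ (Ω : Type u) [Field Ω] [IsAlgClosed Ω] (s : Spec (CommRingCat.of Ω) ⟶ S), ConnectedSpace ↥(pullback f s)) :
    GeometricallyConnected f := by
  refine ⟨geometrically_iff_of_isClosedUnderIsomorphisms.mpr fun K _ y => ?_⟩
  let i := Spec.map (CommRingCat.ofHom (algebraMap K (AlgebraicClosure K)))
  haveI : Surjective i := GrpSchLib.surjective_spec_map_field _
  haveI := h (AlgebraicClosure K) (i ≫ y)
  let q : pullback f (i ≫ y) ⟶ pullback f y :=
    pullback.lift (pullback.fst f (i ≫ y)) (pullback.snd f (i ≫ y) ≫ i) (by rw [pullback.condition, Category.assoc])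
  have H : IsPullback q (pullback.snd f (i ≫ y)) (pullback.snd f y) i :=
    IsPullback.of_right (v₁₃ := f) (h₁₂ := pullback.fst f y) (h₂₂ := y)
      (by rw [pullback.lift_fst]; exact IsPullback.of_hasPullback f (i ≫ y))
      (pullback.lift_snd _ _ _) (IsPullback.of_hasPullback f y)
  haveI : Surjective q := MorphismProperty.of_isPullback (P := @Surjective) H.flip inferInstance
  exact FBaseLib.connectedSpace_of_surjective q

/-- Restriction along a universally open geometrically connected morphism is fully faithful. -/
theorem restrict_full_faithful_of_geomConnected {X S : Scheme.{u}} (f : X ⟶ S) [GeometricallyConnected f]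
    [UniversallyOpen f] : (FEt.restrict f).Full ∧ (FEt.restrict f).Faithful := by
  have hC : ∀ C : Set S, IsClopen C → C.Nonempty → (C ∩ Set.range f.base).Nonempty :=
    fun C _ hne => by rwa [f.surjective.range_eq, Set.inter_univ]
  refine ⟨restrict_full f hC fun W C hWC => ?_, restrict_faithful f hC⟩
  let g : W.left ⟶ S := W.hom
  let j := pullback.fst g f
  haveI : GeometricallyConnected j := inferInstance
  haveI : UniversallyOpen j := MorphismProperty.pullback_fst g f inferInstance
  have hsat : ∀ p p', j p = j p' → p ∈ C → p' ∈ C := fun p p' he hp =>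
    (j.isConnected_preimage_singleton (j p)).isPreconnected.subset_isClopen hWC ⟨p, rfl, hp⟩ he.symm
  have hco : (j '' C)ᶜ = j '' Cᶜ := by
    ext w
    obtain ⟨p, rfl⟩ := j.surjective w
    constructor
    · exact fun h => ⟨p, fun hp => h ⟨p, hp, rfl⟩, rfl⟩
    · rintro ⟨p', hp', he⟩ ⟨q, hq, he'⟩
      exact hp' (hsat q p' (he'.trans he.symm) hq)
  refine ⟨j '' C, ⟨?_, j.isOpenMap _ hWC.2⟩, ?_⟩
  · rw [← isOpen_compl_iff, hco]
    exact j.isOpenMap _ hWC.compl.2
  · ext p
    exact ⟨fun ⟨q, hq, he⟩ => hsat q p he hq, fun hp => ⟨p, hp, rfl⟩⟩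

end Groth.Agent.Pi1X
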