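import Groth.Agent.Pi1X.FEtFull
import Groth.Agent.HensCouple7.Gamma
import Groth.Agent.Hartogs.Basic
import Groth.Agent.SkDesc.Basic
import Mathlib.AlgebraicGeometry.Morphisms.Etale
import Mathlib.RingTheory.Unramified.LocalRing

/-!
Full faithfulness of restriction of finite étale covers from global functions.
-/

universe u

open CategoryTheory CategoryTheory.Limits AlgebraicGeometry TopologicalSpace

set_option linter.style.haveILetI false

namespace Groth.Agent.Pi1X

/-- Clopen sets descend along a map inducing a bijection on global functions. -/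
theorem exists_isClopen_preimage {P W : Scheme.{u}} (j : P ⟶ W) (hj : Function.Bijective j.appTop)
    (C : Set P) (hC : IsClopen C) : ∃ G : Set W, IsClopen G ∧ j.base ⁻¹' G = C := by
  obtain ⟨e, he, heC⟩ := HensCouple7.exists_idempotent_of_isClopen hC
  obtain ⟨t, ht⟩ := hj.2 e
  have ht2 : t * t = t := hj.1 (by rw [map_mul, ht, he])
  refine ⟨(W.basicOpen t : Set W), ⟨?_, (W.basicOpen t).isOpen⟩, ?_⟩
  · rw [← isOpen_compl_iff, ← HensCouple7.basicOpen_compl_of_idem ht2]
    exact (W.basicOpen (1 - t)).isOpen
  · rw [← heC, ← ht, ← Scheme.preimage_basicOpen_top]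
    rfl

/-- An open immersion whose range contains all points of depth less than two induces a bijection
on global functions. -/
theorem appTop_bijective_of_depth {P W : Scheme.{u}} [IsLocallyNoetherian W] (j : P ⟶ W) [IsOpenImmersion j]
    (h : ∀ w : W, w ∉ Set.range j.base → (2 : ℕ∞) ≤ LocCoh.depth (W.presheaf.stalk w) (W.presheaf.stalk w)) :
    Function.Bijective j.appTop := by
  have h1 := Hartogs.restrict_bijective j.opensRange (fun w hw => h w hw) ⊤
  haveI : IsIso (j.app (⊤ ⊓ j.opensRange)) := j.isIso_app _ inf_le_right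
  have h2 := ConcreteCategory.bijective_of_isIso (j.app (⊤ ⊓ j.opensRange))
  have hle : (⊤ : P.Opens) ≤ j ⁻¹ᵁ (⊤ ⊓ j.opensRange) := fun x _ => ⟨trivial, ⟨x, rfl⟩⟩
  haveI : IsIso (P.presheaf.map (homOfLE hle).op) := by
    have h : j ⁻¹ᵁ (⊤ ⊓ j.opensRange) = ⊤ := le_antisymm le_top hle
    rw [Subsingleton.elim (homOfLE hle) (eqToHom h.symm)]
    infer_instance
  have h3 := ConcreteCategory.bijective_of_isIso (P.presheaf.map (homOfLE hle).op)
  have e : ∀ s, j.appTop s = P.presheaf.map (homOfLE hle).op (j.app (⊤ ⊓ j.opensRange)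
      (W.presheaf.map (homOfLE (inf_le_left : ⊤ ⊓ j.opensRange ≤ ⊤)).op s)) := fun s => by
    rw [← ConcreteCategory.comp_apply, ← ConcreteCategory.comp_apply, Scheme.Hom.naturality_assoc,
      ← P.presheaf.map_comp]
    generalize (((Opens.map j.base).map _).op ≫ (homOfLE hle).op) = q
    rw [Subsingleton.elim q (𝟙 _)]
    erw [P.presheaf.map_id, Category.comp_id]
  rw [show (j.appTop : _ → _) = _ from _root_.funext e]
  exact h3.comp (h2.comp h1)

/-- Étale morphisms do not lower the depth. -/
theorem depth_stalk_le {W X : Scheme.{u}} [IsLocallyNoetherian W] [IsLocallyNoetherian X] (f : W ⟶ X) [Etale f]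
    (w : W) :
    LocCoh.depth (X.presheaf.stalk (f.base w)) (X.presheaf.stalk (f.base w)) ≤
      LocCoh.depth (W.presheaf.stalk w) (W.presheaf.stalk w) := by
  letI : Algebra (X.presheaf.stalk (f.base w)) (W.presheaf.stalk w) := (f.stalkMap w).hom.toAlgebra
  haveI : IsLocalHom (algebraMap (X.presheaf.stalk (f.base w)) (W.presheaf.stalk w)) :=
    inferInstanceAs <| IsLocalHom (f.stalkMap w).hom
  haveI : Module.Flat (X.presheaf.stalk (f.base w)) (W.presheaf.stalk w) := Flat.stalkMap f w
  haveI : Algebra.EssFiniteType (X.presheaf.stalk (f.base w)) (W.presheaf.stalk w) := by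
    rw [← RingHom.essFiniteType_algebraMap, RingHom.algebraMap_toAlgebra]
    exact LocallyOfFiniteType.stalkMap f w
  haveI : Algebra.FormallyUnramified (X.presheaf.stalk (f.base w)) (W.presheaf.stalk w) := by
    rw [← RingHom.formallyUnramified_algebraMap, RingHom.algebraMap_toAlgebra]
    exact FormallyUnramified.stalkMap f w
  refine (SkDesc.depth_eq (R := X.presheaf.stalk (f.base w)) (W.presheaf.stalk w) fun P hP hle => ?_).ge
  rw [Algebra.FormallyUnramified.map_maximalIdeal] at hle
  exact le_antisymm (IsLocalRing.le_maximalIdeal hP.ne_top) hle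

/-- Restriction to an open subscheme containing all points of depth less than two. -/
theorem restrict_open_full_faithful {X : Scheme.{u}} [IsLocallyNoetherian X] (U : X.Opens)
    (hU : Dense (U : Set X))
    (h : ∀ x : X, x ∉ U → (2 : ℕ∞) ≤ LocCoh.depth (X.presheaf.stalk x) (X.presheaf.stalk x)) :
    (FEt.restrict U.ι).Full ∧ (FEt.restrict U.ι).Faithful := by
  have hC : ∀ C : Set X, IsClopen C → C.Nonempty → (C ∩ Set.range U.ι.base).Nonempty := fun C hC hne => by
    rw [Scheme.Opens.range_ι]
    exact hU.inter_open_nonempty C hC.2 hne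
  refine ⟨restrict_full _ hC fun W C hWC => ?_, restrict_faithful _ hC⟩
  haveI : Etale W.hom := W.prop.2
  let g : W.left ⟶ X := W.hom
  haveI : Etale g := W.prop.2
  haveI : IsLocallyNoetherian W.left := LocallyOfFiniteType.isLocallyNoetherian g
  refine exists_isClopen_preimage _ (appTop_bijective_of_depth _ fun w hw => ?_) C hWC
  rw [Scheme.Pullback.range_fst, Scheme.Opens.range_ι] at hw
  exact (h (g.base w) hw).trans (depth_stalk_le g w)

end Groth.Agent.Pi1X
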