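import Groth.Agent.Pi1X.FEtCoeq
import Mathlib.CategoryTheory.Limits.Constructions.FiniteProductsOfBinaryProducts
import Mathlib.AlgebraicGeometry.Limits

/-!
Finite colimits of finite étale covers.
-/

universe u

open CategoryTheory CategoryTheory.Limits AlgebraicGeometry

set_option linter.style.haveILetI false

namespace Groth.Agent.Pi1X

noncomputable section

variable {S : Scheme.{u}}

theorem prop_of_isEmpty {E : Scheme.{u}} [IsEmpty E] (f : E ⟶ S) : FEt.prop f := by
  haveI : IsOpenImmersion f := inferInstance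
  haveI : IsClosedImmersion f := IsClosedImmersion.of_isPreimmersion f
    (by rw [Set.range_eq_empty]; exact isClosed_empty)
  exact ⟨inferInstance, inferInstance⟩

theorem prop_coprodDesc {Y Z : Scheme.{u}} {f : Y ⟶ S} {g : Z ⟶ S} (hf : FEt.prop f) (hg : FEt.prop g) :
    FEt.prop (coprod.desc f g) := by
  haveI := hf.1
  haveI := hg.1
  haveI := hf.2
  haveI := hg.2
  haveI : Etale (coprod.desc f g) := by
    refine IsZariskiLocalAtSource.of_openCover (coprodOpenCover.{u, u} Y Z) fun i => ?_
    rcases i with ⟨⟩ | ⟨⟩ <;> simp [coprodOpenCover]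
    · erw [coprod.inl_desc]; infer_instance
    · erw [coprod.inr_desc]; infer_instance
  exact ⟨inferInstance, inferInstance⟩

/-- The coproduct of two covers. -/
abbrev binCoprod (Y Z : FEt.Cat S) : FEt.Cat S :=
  MorphismProperty.Over.mk ⊤ (coprod.desc Y.hom Z.hom) (prop_coprodDesc Y.prop Z.prop)

/-- The coproduct cofan. -/
abbrev binCofan (Y Z : FEt.Cat S) : BinaryCofan Y Z :=
  BinaryCofan.mk (P := binCoprod Y Z)
    (MorphismProperty.Over.homMk coprod.inl (coprod.inl_desc _ _))
    (MorphismProperty.Over.homMk coprod.inr (coprod.inr_desc _ _))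

/-- It is a colimit. -/
def binCofanIsColimit (Y Z : FEt.Cat S) : IsColimit (binCofan Y Z) :=
  BinaryCofan.isColimitMk
    (fun s => MorphismProperty.Over.homMk (coprod.desc s.inl.left s.inr.left) (by
      refine coprod.hom_ext ?_ ?_
      · exact (coprod.inl_desc_assoc _ _ _).trans
          ((MorphismProperty.Over.w s.inl).trans (coprod.inl_desc _ _).symm)
      · exact (coprod.inr_desc_assoc _ _ _).trans
          ((MorphismProperty.Over.w s.inr).trans (coprod.inr_desc _ _).symm)))
    (fun s => MorphismProperty.Over.Hom.ext (coprod.inl_desc _ _))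
    (fun s => MorphismProperty.Over.Hom.ext (coprod.inr_desc _ _))
    (fun s m h1 h2 => MorphismProperty.Over.Hom.ext (coprod.hom_ext
      ((congrArg (fun t => t.left) h1).trans (coprod.inl_desc _ _).symm)
      ((congrArg (fun t => t.left) h2).trans (coprod.inr_desc _ _).symm)))

/-- The empty cover. -/
abbrev emptyCover (S : Scheme.{u}) : FEt.Cat S :=
  MorphismProperty.Over.mk ⊤ (initial.to S) (prop_of_isEmpty _)

/-- It is initial. -/
def emptyCoverIsInitial (S : Scheme.{u}) : IsInitial (emptyCover S) :=
  IsInitial.ofUniqueHom (fun Y => MorphismProperty.Over.homMk (initial.to Y.left) (initial.hom_ext _ _))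
    fun _ _ => MorphismProperty.Over.Hom.ext (initial.hom_ext _ _)

instance hasBinaryCoproducts : HasBinaryCoproducts (FEt.Cat S) :=
  haveI : ∀ {Y Z : FEt.Cat S}, HasColimit (pair Y Z) := fun {Y Z} => ⟨⟨⟨_, binCofanIsColimit Y Z⟩⟩⟩
  hasBinaryCoproducts_of_hasColimit_pair _

instance hasInitial : HasInitial (FEt.Cat S) := (emptyCoverIsInitial S).hasInitial

instance hasFiniteCoproducts : HasFiniteCoproducts (FEt.Cat S) :=
  hasFiniteCoproducts_of_has_binary_and_initial

instance hasFiniteColimits : HasFiniteColimits (FEt.Cat S) :=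
  hasFiniteColimits_of_hasCoequalizers_and_finite_coproducts

end

end Groth.Agent.Pi1X
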