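import Mathlib.RingTheory.Etale.Descent
import Mathlib.RingTheory.Etale.Pi
import Mathlib.RingTheory.Smooth.Fiber
import Mathlib.RingTheory.Unramified.Finite
import Mathlib.RingTheory.Flat.Equalizer
import Mathlib.RingTheory.Flat.EquationalCriterion
import Mathlib.RingTheory.Flat.FaithfullyFlat.Algebra
import Mathlib.RingTheory.Finiteness.Descent
import Mathlib.RingTheory.Finiteness.ModuleFinitePresentation
import Mathlib.RingTheory.Spectrum.Prime.FreeLocus
import Mathlib.RingTheory.Spectrum.Prime.Chevalley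
import Mathlib.RingTheory.TensorProduct.Pi
import Mathlib.FieldTheory.IsSepClosed
import Mathlib.RingTheory.LocalRing.ResidueField.Ideal
import Mathlib.RingTheory.Unramified.LocalRing

/-!
Finite étale algebras split étale locally; their equalizers are finite étale.
-/

universe u

open TensorProduct

set_option linter.style.haveILetI false

namespace Groth.Agent.Pi1X

theorem projective_of_finite_etale (A B : Type u) [CommRing A] [CommRing B] [Algebra A B]
    [Module.Finite A B] [Algebra.Etale A B] :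
    Module.FinitePresentation A B ∧ Module.Projective A B := by
  haveI : Module.FinitePresentation A B :=
    Module.FinitePresentation.of_finite_of_finitePresentation A B
  exact ⟨inferInstance, Module.Flat.projective_of_finitePresentation⟩

/-- The diagonal of a finite étale algebra is a factor. -/
theorem exists_diag_split (A B : Type u) [CommRing A] [CommRing B] [Algebra A B] [Module.Finite A B]
    [Algebra.Etale A B] :
    ∃ (B' : Type u) (_ : CommRing B') (_ : Algebra B B'),
      Algebra.Etale B B' ∧ Module.Finite B B' ∧ Nonempty (B ⊗[A] B ≃ₐ[B] B × B') := by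
  classical
  obtain ⟨hfp, hproj⟩ := projective_of_finite_etale B (B ⊗[A] B)
  let e : B ⊗[A] B := Algebra.FormallyUnramified.elem A B
  let μ : B ⊗[A] B →ₐ[B] B := Algebra.TensorProduct.lift (AlgHom.id B B) (AlgHom.id A B)
    fun _ _ => Commute.all _ _
  have hμ : ∀ x, μ x = Algebra.TensorProduct.lmul' A x := fun x => by
    induction x using TensorProduct.induction_on with
    | zero => simp
    | tmul s t => simp [μ]
    | add a b ha hb => simp [ha, hb]
  have hμe : μ e = 1 := (hμ e).trans Algebra.FormallyUnramified.lmul_elem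
  have key : ∀ x, x * e = ((μ x) ⊗ₜ[A] (1 : B)) * e := fun x => by
    induction x using TensorProduct.induction_on with
    | zero => simp
    | tmul s t =>
      have h := Algebra.FormallyUnramified.one_tmul_mul_elem (R := A) t
      calc (s ⊗ₜ[A] t) * e = (s ⊗ₜ[A] 1) * ((1 ⊗ₜ[A] t) * e) := by
            rw [← mul_assoc]; simp
        _ = (s ⊗ₜ[A] 1) * ((t ⊗ₜ[A] 1) * e) := by rw [h]
        _ = ((s * t) ⊗ₜ[A] 1) * e := by rw [← mul_assoc]; simp
        _ = _ := by simp [μ]
    | add a b ha hb => rw [add_mul, ha, hb, map_add, add_tmul, add_mul]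
  have hee : e * e = e := by
    rw [key e, hμe, ← Algebra.TensorProduct.one_def, one_mul]
  let I : Ideal (B ⊗[A] B) := Ideal.span {e}
  let q : B ⊗[A] B →ₐ[B] (B ⊗[A] B ⧸ I) := Ideal.Quotient.mkₐ B I
  have hq : Function.Surjective q := Ideal.Quotient.mkₐ_surjective B I
  refine ⟨B ⊗[A] B ⧸ I, inferInstance, inferInstance, ?_, Module.Finite.of_surjective q.toLinearMap hq, ?_⟩
  · haveI : Algebra.FinitePresentation B (B ⊗[A] B ⧸ I) :=
      Algebra.FinitePresentation.quotient ⟨{e}, by simp [I]⟩
    haveI : Algebra.FormallyUnramified B (B ⊗[A] B ⧸ I) :=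
      Algebra.FormallyUnramified.of_surjective q hq
    haveI : Module.Flat B (B ⊗[A] B ⧸ I) := by
      let s : (B ⊗[A] B ⧸ I) →ₗ[B] B ⊗[A] B :=
        (Submodule.restrictScalars B I).liftQ (LinearMap.mulLeft B (1 - e)) (by
          intro x hx
          obtain ⟨y, rfl⟩ := Ideal.mem_span_singleton'.1 hx
          simp [sub_mul, ← mul_assoc, mul_comm e y]
          rw [mul_assoc, hee, sub_self])
      haveI : Module.Projective B (B ⊗[A] B ⧸ I) := by
        refine Module.Projective.of_split s q.toLinearMap (LinearMap.ext fun x => ?_)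
        obtain ⟨y, rfl⟩ := Ideal.Quotient.mk_surjective x
        show Ideal.Quotient.mk I ((1 - e) * y) = Ideal.Quotient.mk I y
        rw [Ideal.Quotient.eq, sub_mul, one_mul, sub_sub_cancel_left]
        exact I.neg_mem (I.mul_mem_right _ (Ideal.subset_span rfl))
      infer_instance
    exact Algebra.Etale.of_formallyUnramified_of_flat
  · refine ⟨AlgEquiv.ofBijective (μ.prod q) ⟨?_, ?_⟩⟩
    · rw [injective_iff_map_eq_zero]
      intro x hx
      have h1 : μ x = 0 := congrArg Prod.fst hx
      have h2 : Ideal.Quotient.mk I x = 0 := congrArg Prod.snd hx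
      obtain ⟨y, rfl⟩ := Ideal.mem_span_singleton'.1 (Ideal.Quotient.eq_zero_iff_mem.1 h2)
      rw [map_mul, hμe, mul_one] at h1
      rw [key y, h1, zero_tmul, zero_mul]
    · rintro ⟨b, x⟩
      obtain ⟨y, rfl⟩ := Ideal.Quotient.mk_surjective x
      refine ⟨(b ⊗ₜ[A] 1) * e + (y - y * e), Prod.ext ?_ ?_⟩
      · show μ _ = b
        simp [hμe, μ]
      · show Ideal.Quotient.mk I _ = Ideal.Quotient.mk I y
        have he : Ideal.Quotient.mk I e = 0 := Ideal.Quotient.eq_zero_iff_mem.2 (Ideal.subset_span rfl)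
        simp [he]

/-- `B` splits completely over `D`. -/
def IsSplit (A B D : Type u) [CommRing A] [CommRing B] [CommRing D] [Algebra A B] [Algebra A D] : Prop :=
  ∃ n : ℕ, Nonempty (D ⊗[A] B ≃ₐ[D] (Fin n → D))

/-- Finite étale algebras split étale locally. -/
theorem exists_split (n : ℕ) : ∀ (A B : Type u) [CommRing A] [CommRing B] [Algebra A B]
    [Module.Finite A B] [Algebra.Etale A B] (p : PrimeSpectrum A),
    Module.rankAtStalk B p = n →
    ∃ (D : Type u) (_ : CommRing D) (_ : Algebra A D), Algebra.Etale A D ∧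
      p ∈ Set.range (PrimeSpectrum.comap (algebraMap A D)) ∧ IsSplit A B D := by
  classical
  induction n using Nat.strong_induction_on with
  | _ n ih =>
    intro A B _ _ _ _ _ p hn
    obtain ⟨hfp, hproj⟩ := projective_of_finite_etale A B
    rcases Nat.eq_zero_or_pos n with rfl | hpos
    · have hns := (Module.rankAtStalk_eq_zero_iff_notMem_support p).1 hn
      rw [Module.support_eq_zeroLocus, PrimeSpectrum.mem_zeroLocus, Set.not_subset] at hns
      obtain ⟨f, hfann, hfp'⟩ := hns
      refine ⟨Localization.Away f, inferInstance, inferInstance, inferInstance, ?_, 0, ?_⟩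
      · rw [PrimeSpectrum.localization_away_comap_range (Localization.Away f) f]
        exact hfp'
      haveI : Subsingleton (Localization.Away f ⊗[A] B) := by
        refine subsingleton_of_forall_eq 0 fun x => ?_
        induction x using TensorProduct.induction_on with
        | zero => rfl
        | tmul s b =>
          obtain ⟨v, hv⟩ := (IsLocalization.Away.algebraMap_isUnit (S := Localization.Away f) f).exists_left_inv
          have hs : s = f • (v * s) := by
            rw [Algebra.smul_def, ← mul_assoc, mul_comm _ v, hv, one_mul]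
          rw [hs, TensorProduct.smul_tmul, Module.mem_annihilator.1 hfann b, tmul_zero]
        | add a b ha hb => rw [ha, hb, add_zero]
      exact ⟨AlgEquiv.ofBijective (Pi.algHom _ _ fun i : Fin 0 => i.elim0)
        ⟨fun a b _ => Subsingleton.elim _ _, fun y => ⟨0, Subsingleton.elim _ _⟩⟩⟩
    · obtain ⟨q, hq⟩ : ∃ q : PrimeSpectrum B, PrimeSpectrum.comap (algebraMap A B) q = p := by
        haveI : Nontrivial (p.asIdeal.ResidueField ⊗[A] B) := by
          refine Module.nontrivial_of_finrank_pos (R := p.asIdeal.ResidueField) ?_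
          rwa [← Module.rankAtStalk_eq, hn]
        obtain ⟨P⟩ := PrimeSpectrum.nonempty_iff_nontrivial.2 this
        refine ⟨PrimeSpectrum.comap (Algebra.TensorProduct.includeRight (R := A)
          (A := p.asIdeal.ResidueField) (B := B)).toRingHom P, PrimeSpectrum.ext ?_⟩
        show Ideal.comap (algebraMap A B) (Ideal.comap _ P.asIdeal) = p.asIdeal
        rw [Ideal.comap_comap]
        have hc : (Algebra.TensorProduct.includeRight (R := A) (A := p.asIdeal.ResidueField)
            (B := B)).toRingHom.comp (algebraMap A B) =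
              (algebraMap p.asIdeal.ResidueField (p.asIdeal.ResidueField ⊗[A] B)).comp
                (algebraMap A p.asIdeal.ResidueField) := by
          ext a
          simp [← IsScalarTower.algebraMap_apply]
        rw [hc, ← Ideal.comap_comap,
          (Ideal.eq_bot_or_top (Ideal.comap (algebraMap p.asIdeal.ResidueField
            (p.asIdeal.ResidueField ⊗[A] B)) P.asIdeal)).resolve_right
            (Ideal.IsPrime.ne_top inferInstance)]
        exact Ideal.ext fun a => by simp [Ideal.algebraMap_residueField_eq_zero]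
      haveI : Nontrivial B := PrimeSpectrum.nonempty_iff_nontrivial.1 ⟨q⟩
      obtain ⟨B', _, _, _, _, ⟨e⟩⟩ := exists_diag_split A B
      obtain ⟨hfp', hproj'⟩ := projective_of_finite_etale B B'
      have hr : Module.rankAtStalk B' q + 1 = n := by
        have h := Module.rankAtStalk_baseChange (R := A) (M := B) (S := B) q
        rw [hq, hn, Module.rankAtStalk_eq_of_equiv e.toLinearEquiv, Module.rankAtStalk_prod,
          Pi.add_apply, Module.rankAtStalk_self] at h
        simpa [add_comm] using h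
      obtain ⟨D, _, _, _, ⟨r, hr'⟩, m, ⟨ε⟩⟩ := ih _ (by omega) B B' q rfl
      letI : Algebra A D := ((algebraMap B D).comp (algebraMap A B)).toAlgebra
      haveI : IsScalarTower A B D := IsScalarTower.of_algebraMap_eq fun _ => rfl
      refine ⟨D, inferInstance, inferInstance, Algebra.Etale.comp A B D, ⟨r, ?_⟩, m + 1, ?_⟩
      · rw [← hq, ← hr']
        rfl
      let e₁ : D ⊗[A] B ≃ₐ[D] D ⊗[B] B × D ⊗[B] B' :=
        (Algebra.TensorProduct.cancelBaseChange A B D D B).symm.trans
          ((Algebra.TensorProduct.congr (AlgEquiv.refl (R := D) (A₁ := D)) e).trans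
            (Algebra.TensorProduct.prodRight B D D B B'))
      let e₂ : D ⊗[A] B →ₐ[D] D × (Fin m → D) :=
        (((Algebra.TensorProduct.rid B D D).toAlgHom).prodMap ε.toAlgHom).comp e₁.toAlgHom
      let e₃ : D × (Fin m → D) →ₐ[D] (Fin (m + 1) → D) :=
        Pi.algHom _ _ fun i => Fin.cases (AlgHom.fst D D (Fin m → D))
          (fun j => (Pi.evalAlgHom D (fun _ => D) j).comp (AlgHom.snd D D (Fin m → D))) i
      refine ⟨AlgEquiv.ofBijective (e₃.comp e₂) ?_⟩
      have h3 : Function.Bijective e₃ := by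
        refine Function.bijective_iff_has_inverse.2 ⟨fun x => (x 0, fun j => x j.succ), fun x => ?_, fun x => ?_⟩
        · simp [e₃]
        · funext i
          refine Fin.cases ?_ (fun j => ?_) i <;> simp [e₃]
      have h2 : Function.Bijective e₂ :=
        ((Algebra.TensorProduct.rid B D D).bijective.prodMap ε.bijective).comp e₁.bijective
      exact h3.comp h2

/-- A splitting can be pushed forward. -/
theorem exists_split_map {A B D D' : Type u} [CommRing A] [CommRing B] [CommRing D] [CommRing D']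
    [Algebra A B] [Algebra A D] [Algebra A D'] (g : D →ₐ[A] D') {n : ℕ}
    (β : D ⊗[A] B ≃ₐ[D] (Fin n → D)) :
    ∃ β' : D' ⊗[A] B ≃ₐ[D'] (Fin n → D'),
      ∀ x i, β' (Algebra.TensorProduct.map g (AlgHom.id A B) x) i = g (β x i) := by
  classical
  letI : Algebra D D' := g.toRingHom.toAlgebra
  haveI : IsScalarTower A D D' := IsScalarTower.of_algebraMap_eq fun a => (g.commutes a).symm
  refine ⟨(Algebra.TensorProduct.cancelBaseChange A D D' D' B).symm.trans
    ((Algebra.TensorProduct.congr (AlgEquiv.refl (R := D') (A₁ := D')) β).trans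
      (Algebra.TensorProduct.piScalarRight D D' D' (Fin n))), fun x i => ?_⟩
  induction x using TensorProduct.induction_on with
  | zero => simp
  | tmul d b =>
    have h : β (d ⊗ₜ[A] b) = d • β (1 ⊗ₜ[A] b) := by
      rw [← map_smul, smul_tmul', smul_eq_mul, mul_one]
    simp [h, Algebra.smul_def, RingHom.algebraMap_toAlgebra, mul_comm]
  | add a b ha hb => simp only [map_add, Pi.add_apply, ha, hb]

theorem map_map_comm {A B C D D' : Type u} [CommRing A] [CommRing B] [CommRing C] [CommRing D]
    [CommRing D'] [Algebra A B] [Algebra A C] [Algebra A D] [Algebra A D'] (g : D →ₐ[A] D')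
    (φ : B →ₐ[A] C) (x : D ⊗[A] B) :
    Algebra.TensorProduct.map (AlgHom.id D' D') φ (Algebra.TensorProduct.map g (AlgHom.id A B) x) =
      Algebra.TensorProduct.map g (AlgHom.id A C)
        (Algebra.TensorProduct.map (AlgHom.id D D) φ x) := by
  induction x using TensorProduct.induction_on with
  | zero => simp
  | tmul d b => simp
  | add a b ha hb => simp only [map_add, ha, hb]

/-- An algebra map between split algebras is given by a map of index sets near each prime. -/
theorem exists_index_map {D : Type u} [CommRing D] {n m : ℕ}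
    (F : (Fin n → D) →ₐ[D] (Fin m → D)) (r : PrimeSpectrum D) :
    ∃ (g : D) (s : Fin m → Fin n), g ∉ r.asIdeal ∧
      ∀ (D' : Type u) [CommRing D'] [Algebra D D'], IsUnit (algebraMap D D' g) →
        ∀ i j, algebraMap D D' (F (Pi.single i 1) j) = if i = s j then 1 else 0 := by
  classical
  have hsum : ∀ j, ∑ i, F (Pi.single i 1) j = 1 := fun j => by
    have h := congrFun (congrArg F (Finset.univ_sum_single (1 : Fin n → D))) j
    simpa using h
  have hex : ∀ j, ∃ i, F (Pi.single i 1) j ∉ r.asIdeal := fun j => by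
    by_contra hne
    push Not at hne
    exact r.isPrime.ne_top ((Ideal.eq_top_iff_one _).2 (hsum j ▸ sum_mem fun i _ => hne i))
  choose s hs using hex
  refine ⟨∏ j, F (Pi.single (s j) 1) j, s, ?_, fun D' _ _ hu i j => ?_⟩
  · exact fun h => by
      obtain ⟨j, -, hj⟩ := (r.isPrime.prod_mem_iff).1 h
      exact hs j hj
  rw [map_prod, IsUnit.prod_iff] at hu
  have hj := hu j (Finset.mem_univ j)
  have hmul : ∀ i, F (Pi.single i 1) j * F (Pi.single (s j) 1) j =
      if i = s j then F (Pi.single (s j) 1) j else 0 := fun i => by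
    rw [← Pi.mul_apply, ← map_mul]
    by_cases h : i = s j
    · subst h; simp [← Pi.single_mul]
    · rw [if_neg h, show (Pi.single i 1 : Fin n → D) * Pi.single (s j) 1 = 0 by
        funext k; by_cases hk : k = i <;> simp [hk, h]]
      simp
  refine hj.mul_right_cancel ?_
  rw [← map_mul, hmul]
  split <;> simp

/-- The equalizer of maps of split algebras given by index maps is finite étale. -/
theorem equalizer_finite_etale {D M N : Type u} [CommRing D] [CommRing M] [CommRing N] [Algebra D M]
    [Algebra D N] {n m : ℕ} (β : M ≃ₐ[D] (Fin n → D)) (γ : N ≃ₐ[D] (Fin m → D))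
    (φ ψ : M →ₐ[D] N) (s t : Fin m → Fin n) (hφ : ∀ x j, γ (φ x) j = β x (s j))
    (hψ : ∀ x j, γ (ψ x) j = β x (t j)) :
    Algebra.Etale D (AlgHom.equalizer φ ψ) ∧ Module.Finite D (AlgHom.equalizer φ ψ) := by
  classical
  let Q := Quot fun a b : Fin n => ∃ j, s j = a ∧ t j = b
  let Φ₀ : (Q → D) →ₐ[D] M :=
    β.symm.toAlgHom.comp (Pi.algHom _ _ fun i => Pi.evalAlgHom D (fun _ : Q => D) (Quot.mk _ i))
  have hΦ₀ : ∀ x i, β (Φ₀ x) i = x (Quot.mk _ i) := fun x i => by simp [Φ₀]
  let Φ : (Q → D) →ₐ[D] AlgHom.equalizer φ ψ := Φ₀.codRestrict _ fun x => by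
    refine γ.injective (funext fun j => ?_)
    rw [hφ, hψ, hΦ₀, hΦ₀]
    exact congrArg x (Quot.sound ⟨j, rfl, rfl⟩)
  have hΦ : Function.Bijective Φ := by
    refine ⟨fun x y h => ?_, fun z => ?_⟩
    · funext c
      induction c using Quot.ind with
      | _ i => rw [← hΦ₀ x i, ← hΦ₀ y i]; exact congrArg (fun w : AlgHom.equalizer φ ψ => β (w : M) i) h
    · refine ⟨Quot.lift (β (z : M)) ?_, Subtype.ext (β.injective (funext fun i => hΦ₀ _ i))⟩
      rintro _ _ ⟨j, rfl, rfl⟩
      rw [← hφ, ← hψ]
      exact congrFun (congrArg γ z.2) j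
  let e := AlgEquiv.ofBijective Φ hΦ
  exact ⟨Algebra.Etale.of_equiv e, Module.Finite.equiv e.toLinearEquiv⟩

/-- Two maps of finite étale algebras are, étale locally, given by maps of index sets. -/
theorem exists_split_pair {A B C : Type u} [CommRing A] [CommRing B] [CommRing C]
    [Algebra A B] [Algebra A C] [Module.Finite A B] [Algebra.Etale A B] [Module.Finite A C]
    [Algebra.Etale A C] (φ ψ : B →ₐ[A] C) (p : PrimeSpectrum A) :
    ∃ (D : Type u) (_ : CommRing D) (_ : Algebra A D), Algebra.Etale A D ∧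
      p ∈ Set.range (PrimeSpectrum.comap (algebraMap A D)) ∧
      ∃ (n m : ℕ) (s t : Fin m → Fin n) (β : D ⊗[A] B ≃ₐ[D] (Fin n → D))
        (γ : D ⊗[A] C ≃ₐ[D] (Fin m → D)),
        (∀ x j, γ (Algebra.TensorProduct.map (AlgHom.id D D) φ x) j = β x (s j)) ∧
        ∀ x j, γ (Algebra.TensorProduct.map (AlgHom.id D D) ψ x) j = β x (t j) := by
  classical
  obtain ⟨D₁, _, _, _, ⟨r₁, hr₁⟩, nB, ⟨β₁⟩⟩ := exists_split _ A B p rfl
  obtain ⟨D₂, _, _, _, ⟨r₂, hr₂⟩, nC, ⟨γ₂'⟩⟩ :=
    exists_split _ D₁ (D₁ ⊗[A] C) r₁ rfl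
  letI : Algebra A D₂ := ((algebraMap D₁ D₂).comp (algebraMap A D₁)).toAlgebra
  haveI : IsScalarTower A D₁ D₂ := IsScalarTower.of_algebraMap_eq fun _ => rfl
  haveI : Algebra.Etale A D₂ := Algebra.Etale.comp A D₁ D₂
  obtain ⟨β₂, -⟩ := exists_split_map (IsScalarTower.toAlgHom A D₁ D₂) β₁
  let γ₂ : D₂ ⊗[A] C ≃ₐ[D₂] (Fin nC → D₂) :=
    (Algebra.TensorProduct.cancelBaseChange A D₁ D₂ D₂ C).symm.trans γ₂'
  let F : (B →ₐ[A] C) → ((Fin nB → D₂) →ₐ[D₂] (Fin nC → D₂)) := fun χ =>
    (γ₂.toAlgHom.comp (Algebra.TensorProduct.map (AlgHom.id D₂ D₂) χ)).comp β₂.symm.toAlgHom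
  obtain ⟨g₁, s, hg₁, hs⟩ := exists_index_map (F φ) r₂
  obtain ⟨g₂, t, hg₂, ht⟩ := exists_index_map (F ψ) r₂
  let D := Localization.Away (g₁ * g₂)
  haveI : Algebra.Etale A D := Algebra.Etale.comp A D₂ D
  let gh : D₂ →ₐ[A] D := IsScalarTower.toAlgHom A D₂ D
  obtain ⟨β, hβ⟩ := exists_split_map gh β₂
  obtain ⟨γ, hγ⟩ := exists_split_map gh γ₂
  have hu := IsLocalization.Away.algebraMap_isUnit (S := D) (g₁ * g₂)
  rw [map_mul, IsUnit.mul_iff] at hu
  have key : ∀ (χ : B →ₐ[A] C) (v : Fin nC → Fin nB),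
      (∀ i j, algebraMap D₂ D (F χ (Pi.single i 1) j) = if i = v j then 1 else 0) →
      ∀ x j, γ (Algebra.TensorProduct.map (AlgHom.id D D) χ x) j = β x (v j) := by
    intro χ v hv x j
    have hb : ∀ i, β.symm (Pi.single i 1) =
        Algebra.TensorProduct.map gh (AlgHom.id A B) (β₂.symm (Pi.single i 1)) := fun i => by
      rw [AlgEquiv.symm_apply_eq]
      funext k
      rw [hβ, AlgEquiv.apply_symm_apply]
      by_cases hk : k = i <;> simp [hk]
    have hx : x = ∑ i, β x i • β.symm (Pi.single i 1) := by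
      apply β.injective
      rw [map_sum]
      funext k
      simp [Pi.single_apply]
    conv_lhs => rw [hx]
    simp only [map_sum, map_smul, Finset.sum_apply, Pi.smul_apply, hb, map_map_comm, hγ, smul_eq_mul]
    rw [Finset.sum_eq_single (v j)]
    · have h := hv (v j) j
      rw [if_pos rfl] at h
      exact (congrArg _ h).trans (mul_one _)
    · intro i _ hi
      have h := hv i j
      rw [if_neg hi] at h
      exact (congrArg _ h).trans (mul_zero _)
    · simp
  have hmem : p ∈ Set.range (PrimeSpectrum.comap (algebraMap A D)) := by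
    have hg : g₁ * g₂ ∉ r₂.asIdeal := fun h => (r₂.isPrime.mem_or_mem h).elim hg₁ hg₂
    obtain ⟨r, hr⟩ : r₂ ∈ Set.range (PrimeSpectrum.comap (algebraMap D₂ D)) := by
      rw [PrimeSpectrum.localization_away_comap_range D (g₁ * g₂)]
      exact hg
    refine ⟨r, ?_⟩
    rw [← hr₁, ← hr₂, ← hr]
    rfl
  exact ⟨D, inferInstance, inferInstance, inferInstance, hmem, nB, nC, s, t, β, γ,
    key φ s (hs D hu.1), key ψ t (ht D hu.2)⟩

/-- Equalizers of finite étale algebras are finite étale, locally on the base. -/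
theorem exists_away_equalizer_finite_etale {A B C : Type u} [CommRing A] [CommRing B] [CommRing C]
    [Algebra A B] [Algebra A C] [Module.Finite A B] [Algebra.Etale A B] [Module.Finite A C]
    [Algebra.Etale A C] (φ ψ : B →ₐ[A] C) (p : PrimeSpectrum A) :
    ∃ f : A, f ∉ p.asIdeal ∧
      Algebra.Etale (Localization.Away f) (Localization.Away f ⊗[A] AlgHom.equalizer φ ψ) ∧
      Module.Finite (Localization.Away f) (Localization.Away f ⊗[A] AlgHom.equalizer φ ψ) := by
  classical
  obtain ⟨D, _, _, _, hmem, n, m, s, t, β, γ, hφ, hψ⟩ := exists_split_pair φ ψ p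
  have hEq := equalizer_finite_etale β γ (Algebra.TensorProduct.map (AlgHom.id D D) φ)
    (Algebra.TensorProduct.map (AlgHom.id D D) ψ) s t hφ hψ
  let eE := AlgHom.tensorEqualizerEquiv (R := A) D D φ ψ
  haveI : Algebra.Etale D (D ⊗[A] AlgHom.equalizer φ ψ) :=
    @Algebra.Etale.of_equiv _ _ _ _ _ _ _ _ hEq.1 eE.symm
  haveI : Module.Finite D (D ⊗[A] AlgHom.equalizer φ ψ) :=
    @Module.Finite.equiv _ _ _ _ _ _ _ _ hEq.2 eE.symm.toLinearEquiv
  have hopen : IsOpen (Set.range (PrimeSpectrum.comap (algebraMap A D))) :=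
    (PrimeSpectrum.isOpenMap_comap_of_hasGoingDown_of_finitePresentation (R := A) (S := D)).isOpen_range
  obtain ⟨_, ⟨f, rfl⟩, hfp, hfsub⟩ :=
    PrimeSpectrum.isTopologicalBasis_basic_opens.exists_subset_of_mem_open hmem hopen
  refine ⟨f, hfp, ?_⟩
  let T := Localization.Away f
  let T' := T ⊗[A] D
  letI : Algebra D T' := Algebra.TensorProduct.rightAlgebra
  haveI : Module.FaithfullyFlat T T' := by
    refine Module.FaithfullyFlat.of_comap_surjective fun P => ?_
    have hfP : f ∉ (PrimeSpectrum.comap (algebraMap A T) P).asIdeal := fun h =>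
      P.isPrime.ne_top (Ideal.eq_top_of_isUnit_mem _ h (IsLocalization.Away.algebraMap_isUnit f))
    obtain ⟨w, hw⟩ := hfsub hfP
    let L := w.asIdeal.ResidueField
    have hfL : IsUnit (Algebra.ofId A L f) := by
      rw [isUnit_iff_ne_zero, Algebra.ofId_apply, IsScalarTower.algebraMap_apply A D L, Ne,
        Ideal.algebraMap_residueField_eq_zero]
      intro h
      refine hfP ?_
      rw [← hw]
      exact h
    let χ : T' →ₐ[A] L := Algebra.TensorProduct.lift
      (IsLocalization.Away.liftAlgHom f (f := Algebra.ofId A L) hfL)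
      (IsScalarTower.toAlgHom A D L) (fun _ _ => Commute.all _ _)
    refine ⟨PrimeSpectrum.comap χ.toRingHom ⊥, ?_⟩
    refine PrimeSpectrum.localization_comap_injective T (Submonoid.powers f) ?_
    rw [← hw]
    refine PrimeSpectrum.ext (Ideal.ext fun a => ?_)
    show χ (algebraMap T T' (algebraMap A T a)) ∈ (⊥ : Ideal L) ↔ algebraMap A D a ∈ w.asIdeal
    rw [← IsScalarTower.algebraMap_apply, AlgHom.commutes, Ideal.mem_bot,
      IsScalarTower.algebraMap_apply A D L, Ideal.algebraMap_residueField_eq_zero]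
  let E := AlgHom.equalizer φ ψ
  let e : T' ⊗[T] (T ⊗[A] E) ≃ₐ[T'] T' ⊗[D] (D ⊗[A] E) :=
    (Algebra.TensorProduct.cancelBaseChange A T T' T' E).trans
      (Algebra.TensorProduct.cancelBaseChange A D T' T' E).symm
  haveI hE' : Algebra.Etale T' (T' ⊗[D] (D ⊗[A] E)) := inferInstance
  haveI : Algebra.Etale T' (T' ⊗[T] (T ⊗[A] E)) :=
    Algebra.Etale.of_equiv (R := T') (A := T' ⊗[D] (D ⊗[A] E)) (B := T' ⊗[T] (T ⊗[A] E)) e.symm
  haveI : Module.Finite T' (T' ⊗[T] (T ⊗[A] E)) := Module.Finite.equiv e.symm.toLinearEquiv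
  exact ⟨Algebra.Etale.of_etale_tensorProduct_of_faithfullyFlat T',
    Module.Finite.of_finite_tensorProduct_of_faithfullyFlat T'⟩

/-- An étale algebra has a point over every point with values in a separably closed field. -/
theorem exists_point {A D : Type u} [CommRing A] [CommRing D] [Algebra A D] [Algebra.Etale A D]
    (Ω : Type u) [Field Ω] [IsSepClosed Ω] [Algebra A Ω] (r : PrimeSpectrum D)
    (hr : PrimeSpectrum.comap (algebraMap A D) r = ⟨RingHom.ker (algebraMap A Ω), RingHom.ker_isPrime _⟩) :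
    ∃ g : D →ₐ[A] Ω, RingHom.ker g = r.asIdeal := by
  let p := Ideal.comap (algebraMap A D) r.asIdeal
  haveI : r.asIdeal.LiesOver p := ⟨rfl⟩
  have hp : p = RingHom.ker (algebraMap A Ω) := congrArg PrimeSpectrum.asIdeal hr
  let ι : p.ResidueField →+* Ω := Ideal.ResidueField.lift p (algebraMap A Ω) hp.le
    (by
      intro a ha
      rw [Submonoid.mem_comap, IsUnit.mem_submonoid_iff, isUnit_iff_ne_zero]
      intro h0
      exact ha (hp.symm ▸ h0))
  letI : Algebra p.ResidueField Ω := ι.toAlgebra
  haveI : IsScalarTower A p.ResidueField Ω :=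
    IsScalarTower.of_algebraMap_eq fun a => by
      show _ = ι _
      simp [ι]
  letI := Localization.AtPrime.algebraOfLiesOver p r.asIdeal
  haveI : Algebra.IsUnramifiedAt A r.asIdeal := inferInstance
  haveI : Algebra.IsSeparable p.ResidueField r.asIdeal.ResidueField :=
    ((Algebra.isUnramifiedAt_iff_map_eq A p r.asIdeal).mp inferInstance).1
  let L := r.asIdeal.ResidueField
  haveI : IsScalarTower A p.ResidueField L := inferInstance
  let σ : L →ₐ[p.ResidueField] Ω := IsSepClosed.lift
  refine ⟨((σ.restrictScalars A).comp (IsScalarTower.toAlgHom A D L)), ?_⟩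
  ext d
  simp [L, Ideal.algebraMap_residueField_eq_zero, map_eq_zero_iff σ σ.injective]

/-- Points of an equalizer of finite étale algebras. -/
theorem equalizer_points {A B C : Type u} [CommRing A] [CommRing B] [CommRing C]
    [Algebra A B] [Algebra A C] [Module.Finite A B] [Algebra.Etale A B] [Module.Finite A C]
    [Algebra.Etale A C] (φ ψ : B →ₐ[A] C) (Ω : Type u) [Field Ω] [IsSepClosed Ω] [Algebra A Ω] :
    Function.Bijective (Quot.lift
      (fun x : B →ₐ[A] Ω => x.comp (AlgHom.equalizer φ ψ).val)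
      (fun x y (h : ∃ z : C →ₐ[A] Ω, z.comp φ = x ∧ z.comp ψ = y) => by
        obtain ⟨z, rfl, rfl⟩ := h
        exact AlgHom.ext fun e => congrArg z e.2)) := by
  classical
  obtain ⟨D, _, _, _, ⟨r, hr⟩, n, m, s, t, β, γ, hφ, hψ⟩ :=
    exists_split_pair φ ψ ⟨RingHom.ker (algebraMap A Ω), RingHom.ker_isPrime _⟩
  obtain ⟨g, -⟩ := exists_point Ω r hr
  letI : Algebra D Ω := g.toRingHom.toAlgebra
  haveI : IsScalarTower A D Ω := IsScalarTower.of_algebraMap_eq fun a => (g.commutes a).symm
  -- the points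
  let pt {k : ℕ} {M : Type u} [CommRing M] [Algebra A M] (e : D ⊗[A] M ≃ₐ[D] (Fin k → D)) (i : Fin k) :
      M →ₐ[A] Ω :=
    ((IsScalarTower.toAlgHom A D Ω).comp ((Pi.evalAlgHom D (fun _ : Fin k => D) i).restrictScalars A)).comp
      ((e.toAlgHom.restrictScalars A).comp Algebra.TensorProduct.includeRight)
  have hevalAll : ∀ (ι : Type) [Finite ι] (w : (ι → D) →ₐ[D] Ω), ∃ i, ∀ x, w x = algebraMap D Ω (x i) := by
    intro ι _ w
    cases nonempty_fintype ι
    have hex : ∃ i, w (Pi.single i 1) ≠ 0 := by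
      by_contra hne
      push Not at hne
      have h1 := congrArg w (Finset.univ_sum_single (1 : ι → D))
      simp [hne] at h1
    obtain ⟨i, hi⟩ := hex
    refine ⟨i, fun x => mul_right_cancel₀ hi ?_⟩
    rw [← map_mul, ← Algebra.smul_def, ← map_smul]
    congr 1
    funext k
    by_cases hk : k = i
    · subst hk; simp
    · simp [hk]
  -- descent of points
  let ext' {M : Type u} [CommRing M] [Algebra A M] (x : M →ₐ[A] Ω) : D ⊗[A] M →ₐ[D] Ω :=
    Algebra.TensorProduct.lift (Algebra.ofId D Ω) x (fun _ _ => Commute.all _ _)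
  have hpt : ∀ x : B →ₐ[A] Ω, ∃ i, x = pt β i := fun x => by
    obtain ⟨i, hi⟩ := hevalAll _ ((ext' x).comp β.symm.toAlgHom)
    refine ⟨i, AlgHom.ext fun b => ?_⟩
    have h := hi (β (1 ⊗ₜ b))
    simpa [ext', pt] using h
  have hptφ : ∀ j, (pt γ j).comp φ = pt β (s j) := fun j => AlgHom.ext fun b => by
    simp [pt, ← hφ]
  have hptψ : ∀ j, (pt γ j).comp ψ = pt β (t j) := fun j => AlgHom.ext fun b => by
    simp [pt, ← hψ]
  let Q := Quot fun a b : Fin n => ∃ j, s j = a ∧ t j = b
  let toQ : Q → Quot fun x y : B →ₐ[A] Ω => ∃ z : C →ₐ[A] Ω, z.comp φ = x ∧ z.comp ψ = y :=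
    Quot.lift (fun i => Quot.mk _ (pt β i)) fun a b ⟨j, hja, hjb⟩ =>
      Quot.sound ⟨pt γ j, hja ▸ hptφ j, hjb ▸ hptψ j⟩
  have htoQ : Function.Surjective toQ := fun c => by
    induction c using Quot.ind with
    | _ x =>
      obtain ⟨i, rfl⟩ := hpt x
      exact ⟨Quot.mk _ i, rfl⟩
  let eE := AlgHom.tensorEqualizerEquiv (R := A) D D φ ψ
  refine ⟨fun c c' h => ?_, fun w => ?_⟩
  · obtain ⟨i, rfl⟩ := htoQ c
    obtain ⟨i', rfl⟩ := htoQ c'
    induction i using Quot.ind with
    | _ i =>
    induction i' using Quot.ind with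
    | _ i' =>
    by_contra hne'
    have hne : ¬ (Quot.mk _ i : Q) = Quot.mk _ i' := fun hh => hne' (by rw [hh])
    let x : Fin n → D := fun k => if (Quot.mk _ k : Q) = Quot.mk _ i then 1 else 0
    have hxz : β.symm x ∈ AlgHom.equalizer (Algebra.TensorProduct.map (AlgHom.id D D) φ)
        (Algebra.TensorProduct.map (AlgHom.id D D) ψ) := by
      refine γ.injective (funext fun j => ?_)
      rw [hφ, hψ, AlgEquiv.apply_symm_apply]
      simp only [x, show (Quot.mk _ (s j) : Q) = Quot.mk _ (t j) from Quot.sound ⟨j, rfl, rfl⟩]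
    obtain ⟨z, hz⟩ := eE.surjective ⟨_, hxz⟩
    have key : ∀ z : D ⊗[A] AlgHom.equalizer φ ψ,
        algebraMap D Ω (β (eE z : D ⊗[A] B) i) = algebraMap D Ω (β (eE z : D ⊗[A] B) i') := by
      intro z
      induction z using TensorProduct.induction_on with
      | zero => simp
      | tmul d e =>
        have hb := AlgHom.congr_fun h e
        simp only [toQ, pt] at hb
        have hd : β (d ⊗ₜ[A] (e : B)) = d • β (1 ⊗ₜ[A] (e : B)) := by
          rw [← map_smul, smul_tmul', smul_eq_mul, mul_one]
        simp [eE, hd]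
        left
        simpa using hb
      | add a b ha hb => simp only [map_add, Subalgebra.coe_add, Pi.add_apply, ha, hb]
    have h2 := key z
    rw [hz] at h2
    simp [x, Ne.symm hne] at h2
  · have hΦ : ∀ c : Fin n → D, (∀ j, c (s j) = c (t j)) → β.symm c ∈ AlgHom.equalizer
        (Algebra.TensorProduct.map (AlgHom.id D D) φ) (Algebra.TensorProduct.map (AlgHom.id D D) ψ) :=
      fun c hc => γ.injective (funext fun j => by
        rw [hφ, hψ, AlgEquiv.apply_symm_apply]; exact hc j)
    let Φ₀ : (Q → D) →ₐ[D] D ⊗[A] B :=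
      β.symm.toAlgHom.comp (Pi.algHom _ _ fun i => Pi.evalAlgHom D (fun _ : Q => D) (Quot.mk _ i))
    let Φ := Φ₀.codRestrict (AlgHom.equalizer
        (Algebra.TensorProduct.map (AlgHom.id D D) φ) (Algebra.TensorProduct.map (AlgHom.id D D) ψ))
      fun c => hΦ _ fun j => congrArg c (Quot.sound ⟨j, rfl, rfl⟩)
    obtain ⟨c, hc⟩ := hevalAll _ (((ext' w).comp eE.symm.toAlgHom).comp Φ)
    induction c using Quot.ind with
    | _ i =>
    refine ⟨Quot.mk _ (pt β i), AlgHom.ext fun e => ?_⟩
    have hy : β (1 ⊗ₜ[A] (e : B)) ∘ s = β (1 ⊗ₜ[A] (e : B)) ∘ t := funext fun j => by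
      simp only [Function.comp_apply, ← hφ, ← hψ]
      simp [show φ e = ψ e from e.2]
    have h := hc (Quot.lift (β (1 ⊗ₜ[A] (e : B))) fun a b ⟨j, hja, hjb⟩ => by
      subst hja hjb; exact congrFun hy j)
    have he : Φ (Quot.lift (β (1 ⊗ₜ[A] (e : B))) fun a b ⟨j, hja, hjb⟩ => by
        subst hja hjb; exact congrFun hy j) = eE (1 ⊗ₜ[A] e) :=
      Subtype.ext (by
        refine β.injective ?_
        funext k
        simp [Φ, Φ₀, eE])
    simp only [AlgHom.comp_apply, AlgEquiv.coe_toAlgHom, he, AlgEquiv.symm_apply_apply] at h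
    simpa [ext', pt] using h.symm

end Groth.Agent.Pi1X
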