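import Groth.Agent.Pi1X.FEtBasic
import Groth.Agent.Pi1X.EtEqualizer
import Groth.Agent.RelSpecX.Spec
import Mathlib.Algebra.Category.Ring.Constructions
import Mathlib.RingTheory.Localization.BaseChange

/-!
Coequalizers of finite étale covers.
-/

universe u

open CategoryTheory CategoryTheory.Limits AlgebraicGeometry TopologicalSpace Opposite TensorProduct

set_option linter.style.haveILetI false

namespace Groth.Agent.Pi1X

noncomputable section

variable {S Y Z : Scheme.{u}} {p : Y ⟶ S} {q : Z ⟶ S} (φ ψ : AffAlg.over p q)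

/-- The map of direct-image algebras. -/
def aHom : AffAlg.alg p ⟶ AffAlg.alg q :=
  AffAlg.algHom p q φ.1 φ.2

theorem c_aHom : p.c ≫ aHom φ = q.c := AffAlg.algHom_comm _ _ _ _

/-- The equalizer presheaf. -/
def eqPsh : TopCat.Presheaf CommRingCat.{u} S.carrier := equalizer (aHom φ) (aHom ψ)

/-- Its inclusion. -/
def eqι : eqPsh φ ψ ⟶ AffAlg.alg p := equalizer.ι (aHom φ) (aHom ψ)

theorem eqι_comp : eqι φ ψ ≫ aHom φ = eqι φ ψ ≫ aHom ψ := equalizer.condition _ _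

theorem eqPsh_isSheaf : (eqPsh φ ψ).IsSheaf :=
  TopCat.limit_isSheaf _ fun j => by
    cases j
    · exact TopCat.Sheaf.pushforward_sheaf_of_sheaf _ Y.sheaf.property
    · exact TopCat.Sheaf.pushforward_sheaf_of_sheaf _ Z.sheaf.property

theorem eqι_app (U : S.Opensᵒᵖ) :
    Function.Injective ((eqι φ ψ).app U).hom ∧
    ∀ b, ((aHom φ).app U).hom b = ((aHom ψ).app U).hom b → ∃ e, ((eqι φ ψ).app U).hom e = b := by
  have hl := isLimitForkMapOfIsLimit ((evaluation S.Opensᵒᵖ CommRingCat.{u}).obj U) _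
    (equalizerIsEqualizer (aHom φ) (aHom ψ))
  let i := hl.conePointUniqueUpToIso
    (CommRingCat.equalizerForkIsLimit ((aHom φ).app U) ((aHom ψ).app U))
  have hi : i.hom ≫ (CommRingCat.equalizerFork ((aHom φ).app U) ((aHom ψ).app U)).ι =
      (eqι φ ψ).app U :=
    IsLimit.conePointUniqueUpToIso_hom_comp _ _ WalkingParallelPair.zero
  refine ⟨fun a b hab => ?_, fun b hb => ?_⟩
  · rw [← hi] at hab
    exact (ConcreteCategory.bijective_of_isIso i.hom).1 (Subtype.ext hab)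
  · obtain ⟨e, he⟩ := (ConcreteCategory.bijective_of_isIso i.hom).2 ⟨b, hb⟩
    refine ⟨e, ?_⟩
    rw [← hi]
    exact congrArg (CommRingCat.equalizerFork ((aHom φ).app U) ((aHom ψ).app U)).ι.hom he

/-- The structure map. -/
def eqStr : S.presheaf ⟶ eqPsh φ ψ :=
  equalizer.lift p.c (by rw [c_aHom, c_aHom])

theorem eqStr_ι : eqStr φ ψ ≫ eqι φ ψ = p.c := equalizer.lift_ι _ _

theorem eqStr_ι_app (U : S.Opensᵒᵖ) (r : S.presheaf.obj U) :
    ((eqι φ ψ).app U).hom (((eqStr φ ψ).app U).hom r) = (p.c.app U).hom r :=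
  congr($(NatTrans.congr_app (eqStr_ι φ ψ) U).hom r)

theorem aHom_c_app (φ : AffAlg.over p q) (U : S.Opensᵒᵖ) (r : S.presheaf.obj U) :
    ((aHom φ).app U).hom ((p.c.app U).hom r) = (q.c.app U).hom r :=
  congr($(NatTrans.congr_app (c_aHom φ) U).hom r)

theorem isQC_eq [IsAffineHom p] [IsAffineHom q] : RelSpec.IsQC (eqPsh φ ψ) (eqStr φ ψ) := by
  intro U hU r
  let i := (homOfLE (S.basicOpen_le r)).op
  letI := ((eqPsh φ ψ).map i).hom.toAlgebra
  letI := ((AffAlg.alg p).map i).hom.toAlgebra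
  letI := ((AffAlg.alg q).map i).hom.toAlgebra
  have hY : IsLocalization.Away ((p.c.app (op U)).hom r)
      ((AffAlg.alg p).obj (op (S.basicOpen r))) := RelSpec.QCAlg.isQC_pushforward p U hU r
  have hZ : IsLocalization.Away ((q.c.app (op U)).hom r)
      ((AffAlg.alg q).obj (op (S.basicOpen r))) := RelSpec.QCAlg.isQC_pushforward q U hU r
  obtain ⟨hinjU, hmemU⟩ := eqι_app φ ψ (op U)
  obtain ⟨hinjD, -⟩ := eqι_app φ ψ (op (S.basicOpen r))
  have hnat : ∀ a, ((eqι φ ψ).app (op (S.basicOpen r))).hom (((eqPsh φ ψ).map i).hom a) =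
      ((AffAlg.alg p).map i).hom (((eqι φ ψ).app (op U)).hom a) := fun a =>
    congr($((eqι φ ψ).naturality i).hom a)
  have hnat' : ∀ (χ : AffAlg.over p q) a, ((aHom χ).app (op (S.basicOpen r))).hom (((AffAlg.alg p).map i).hom a) =
      ((AffAlg.alg q).map i).hom (((aHom χ).app (op U)).hom a) := fun χ a =>
    congr($((aHom χ).naturality i).hom a)
  have hstr : ((eqPsh φ ψ).map i).hom (((eqStr φ ψ).app (op U)).hom r) =
      ((eqStr φ ψ).app (op (S.basicOpen r))).hom ((S.presheaf.map i).hom r) :=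
    (congr($((eqStr φ ψ).naturality i).hom r)).symm
  refine (isLocalization_iff _ _).mpr ⟨fun ⟨_, n, rfl⟩ => ?_, fun z => ?_, fun {x y} hxy => ?_⟩
  · show IsUnit (((eqPsh φ ψ).map i).hom (((eqStr φ ψ).app (op U)).hom r ^ n))
    rw [map_pow, hstr]
    exact ((RingedSpace.isUnit_res_basicOpen S.toRingedSpace r).map _).pow n
  · obtain ⟨n, y, hy⟩ := IsLocalization.Away.surj ((p.c.app (op U)).hom r)
      (((eqι φ ψ).app (op (S.basicOpen r))).hom z)
    have heq : ∀ χ : AffAlg.over p q, ((AffAlg.alg q).map i).hom (((aHom χ).app (op U)).hom y) =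
        ((aHom χ).app (op (S.basicOpen r))).hom (((eqι φ ψ).app (op (S.basicOpen r))).hom z) *
          ((AffAlg.alg q).map i).hom ((q.c.app (op U)).hom r ^ n) := fun χ => by
      rw [← hnat', ← aHom_c_app χ (op U) r, ← map_pow, ← hnat', ← map_mul]
      refine congrArg _ (hy.symm.trans ?_)
      rw [RingHom.algebraMap_toAlgebra, map_pow]
    have hzφψ : ((aHom φ).app (op (S.basicOpen r))).hom (((eqι φ ψ).app (op (S.basicOpen r))).hom z) =
        ((aHom ψ).app (op (S.basicOpen r))).hom (((eqι φ ψ).app (op (S.basicOpen r))).hom z) :=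
      congr($(NatTrans.congr_app (eqι_comp φ ψ) (op (S.basicOpen r))).hom z)
    obtain ⟨m, hm⟩ := IsLocalization.Away.exists_of_eq (S := (AffAlg.alg q).obj (op (S.basicOpen r)))
      ((q.c.app (op U)).hom r)
      (show algebraMap _ _ (((aHom φ).app (op U)).hom y) = algebraMap _ _ (((aHom ψ).app (op U)).hom y) by
        rw [RingHom.algebraMap_toAlgebra, heq, heq, hzφψ])
    obtain ⟨e, he⟩ := hmemU ((p.c.app (op U)).hom r ^ m * y) (by
      rw [map_mul, map_mul, map_pow, map_pow, aHom_c_app, aHom_c_app]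
      exact hm)
    refine ⟨(e, ⟨_, n + m, rfl⟩), hinjD ?_⟩
    show ((eqι φ ψ).app _).hom (z * ((eqPsh φ ψ).map i).hom (((eqStr φ ψ).app (op U)).hom r ^ (n + m))) =
      ((eqι φ ψ).app _).hom (((eqPsh φ ψ).map i).hom e)
    rw [map_mul, hnat, hnat, he, map_pow, eqStr_ι_app, map_mul, map_pow, map_pow]
    rw [RingHom.algebraMap_toAlgebra] at hy
    rw [← hy, pow_add]
    ring
  · have h : ((AffAlg.alg p).map i).hom (((eqι φ ψ).app (op U)).hom x) =
        ((AffAlg.alg p).map i).hom (((eqι φ ψ).app (op U)).hom y) := by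
      rw [← hnat, ← hnat]
      exact congrArg _ hxy
    obtain ⟨m, hm⟩ := IsLocalization.Away.exists_of_eq (S := (AffAlg.alg p).obj (op (S.basicOpen r)))
      ((p.c.app (op U)).hom r) h
    refine ⟨⟨_, m, rfl⟩, hinjU ?_⟩
    show ((eqι φ ψ).app (op U)).hom (((eqStr φ ψ).app (op U)).hom r ^ m * x) =
      ((eqι φ ψ).app (op U)).hom (((eqStr φ ψ).app (op U)).hom r ^ m * y)
    rw [map_mul, map_mul, map_pow, eqStr_ι_app]
    exact hm

/-- The equalizer algebra. -/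
@[reducible] def eqAlg [IsAffineHom p] [IsAffineHom q] : RelSpec.QCAlg S where
  presheaf := eqPsh φ ψ
  isSheaf := eqPsh_isSheaf φ ψ
  str := eqStr φ ψ
  isQC := isQC_eq φ ψ

instance [IsAffineHom p] [IsAffineHom q] : IsAffineHom (eqAlg φ ψ).π := RelSpec.QCAlg.isAffineHom_π _

instance [IsAffineHom p] [IsAffineHom q] : IsIso (eqAlg φ ψ).gammaMap := RelSpecX.isIso_gammaMap _

section affine

variable (U : S.Opens)

/-- The sections of a cover as an algebra. -/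
abbrev covAlg {W : Scheme.{u}} (r : W ⟶ S) : Algebra Γ(S, U) Γ(W, r ⁻¹ᵁ U) := (r.app U).hom.toAlgebra

/-- The algebra map on sections. -/
def secHom (χ : AffAlg.over p q) :
    letI := covAlg U p
    letI := covAlg U q
    Γ(Y, p ⁻¹ᵁ U) →ₐ[Γ(S, U)] Γ(Z, q ⁻¹ᵁ U) :=
  letI := covAlg U p
  letI := covAlg U q
  { ((aHom χ).app (op U)).hom with commutes' := fun r => aHom_c_app χ (op U) r }

/-- The algebra structure on the equalizer. -/
abbrev eqSecAlg : Algebra Γ(S, U) ((eqPsh φ ψ).obj (op U)) := ((eqStr φ ψ).app (op U)).hom.toAlgebra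

/-- The sections of the equalizer. -/
def eqSecEquiv :
    letI := covAlg U p
    letI := covAlg U q
    letI := eqSecAlg φ ψ U
    (eqPsh φ ψ).obj (op U) ≃ₐ[Γ(S, U)] AlgHom.equalizer (secHom U φ) (secHom U ψ) :=
  letI := covAlg U p
  letI := covAlg U q
  letI := eqSecAlg φ ψ U
  let f : (eqPsh φ ψ).obj (op U) →ₐ[Γ(S, U)] Γ(Y, p ⁻¹ᵁ U) :=
    { ((eqι φ ψ).app (op U)).hom with commutes' := fun r => eqStr_ι_app φ ψ (op U) r }
  AlgEquiv.ofBijective (f.codRestrict _ fun e =>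
      congr($(NatTrans.congr_app (eqι_comp φ ψ) (op U)).hom e))
    ⟨fun a b hab => (eqι_app φ ψ (op U)).1 (congrArg Subtype.val hab),
      fun b => (((eqι_app φ ψ (op U)).2 b.1 b.2).imp fun e he => Subtype.ext he)⟩

end affine

theorem finite_etale_sections [IsFinite p] [Etale p] [IsFinite q] [Etale q] (s : S) : ∃ V : S.affineOpens, s ∈ V.1 ∧
    ((eqStr φ ψ).app (op V.1)).hom.Etale ∧ ((eqStr φ ψ).app (op V.1)).hom.Finite := by
  classical
  obtain ⟨U, hU, hsU, -⟩ := exists_isAffineOpen_mem_and_subset (x := s) (U := ⊤) trivial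
  have hfe : ∀ {W : Scheme.{u}} (t : W ⟶ S) [IsFinite t] [Etale t],
      (t.app U).hom.Etale ∧ (t.app U).hom.Finite := fun {W} t _ _ => by
    refine ⟨?_, IsFinite.finite_app (f := t) U hU⟩
    rw [Scheme.Hom.app_eq_appLE]
    exact HasRingHomProperty.appLE @Etale t inferInstance ⟨U, hU⟩ ⟨_, hU.preimage t⟩ le_rfl
  letI := covAlg U p
  letI := covAlg U q
  letI := eqSecAlg φ ψ U
  haveI : Algebra.Etale Γ(S, U) Γ(Y, p ⁻¹ᵁ U) := (hfe p).1.toAlgebra
  haveI : Algebra.Etale Γ(S, U) Γ(Z, q ⁻¹ᵁ U) := (hfe q).1.toAlgebra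
  haveI : Module.Finite Γ(S, U) Γ(Y, p ⁻¹ᵁ U) := RingHom.finite_algebraMap.1 (hfe p).2
  haveI : Module.Finite Γ(S, U) Γ(Z, q ⁻¹ᵁ U) := RingHom.finite_algebraMap.1 (hfe q).2
  obtain ⟨r, hr, het, hfin⟩ :=
    exists_away_equalizer_finite_etale (secHom U φ) (secHom U ψ) (hU.primeIdealOf ⟨s, hsU⟩)
  let V : S.affineOpens := ⟨S.basicOpen r, hU.basicOpen r⟩
  refine ⟨V, ?_, ?_⟩
  · have h1 : hU.primeIdealOf ⟨s, hsU⟩ ∈ hU.fromSpec ⁻¹ᵁ S.basicOpen r := by
      rw [hU.fromSpec_preimage_basicOpen]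
      exact hr
    have h2 : hU.fromSpec (hU.primeIdealOf ⟨s, hsU⟩) ∈ S.basicOpen r := h1
    rw [hU.fromSpec_primeIdealOf] at h2
    exact h2
  let i := (homOfLE (S.basicOpen_le r)).op
  letI := (S.presheaf.map i).hom.toAlgebra
  haveI : IsLocalization.Away r Γ(S, S.basicOpen r) := hU.isLocalization_basicOpen r
  letI := ((eqPsh φ ψ).map i).hom.toAlgebra
  haveI hloc : IsLocalization.Away (((eqStr φ ψ).app (op U)).hom r) ((eqPsh φ ψ).obj (op (S.basicOpen r))) :=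
    isQC_eq φ ψ U hU r
  let e : ↥(Γ(S, U)) := r
  letI : Algebra Γ(S, S.basicOpen r) ((eqPsh φ ψ).obj (op (S.basicOpen r))) :=
    ((eqStr φ ψ).app (op (S.basicOpen r))).hom.toAlgebra
  letI : Algebra Γ(S, U) ((eqPsh φ ψ).obj (op (S.basicOpen r))) :=
    (((eqPsh φ ψ).map i).hom.comp ((eqStr φ ψ).app (op U)).hom).toAlgebra
  haveI : IsScalarTower Γ(S, U) ((eqPsh φ ψ).obj (op U)) ((eqPsh φ ψ).obj (op (S.basicOpen r))) :=
    IsScalarTower.of_algebraMap_eq fun _ => rfl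
  haveI : IsScalarTower Γ(S, U) Γ(S, S.basicOpen r) ((eqPsh φ ψ).obj (op (S.basicOpen r))) :=
    IsScalarTower.of_algebraMap_eq fun a => (congr($((eqStr φ ψ).naturality i).hom a)).symm
  haveI : IsLocalization (Algebra.algebraMapSubmonoid ((eqPsh φ ψ).obj (op U)) (Submonoid.powers e))
      ((eqPsh φ ψ).obj (op (S.basicOpen r))) := by
    rw [Algebra.algebraMapSubmonoid_powers]
    exact hloc
  haveI : Algebra.IsPushout Γ(S, U) Γ(S, S.basicOpen r) ((eqPsh φ ψ).obj (op U))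
      ((eqPsh φ ψ).obj (op (S.basicOpen r))) :=
    (Algebra.isPushout_of_isLocalization (Submonoid.powers e) (A := Γ(S, S.basicOpen r))
      (T := (eqPsh φ ψ).obj (op U)) (B := (eqPsh φ ψ).obj (op (S.basicOpen r)))).symm
  let T := Localization.Away e
  let ι : T ≃ₐ[Γ(S, U)] Γ(S, S.basicOpen r) := IsLocalization.algEquiv (Submonoid.powers e) _ _
  letI : Algebra T Γ(S, S.basicOpen r) := ι.toAlgHom.toRingHom.toAlgebra
  haveI : IsScalarTower Γ(S, U) T Γ(S, S.basicOpen r) :=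
    IsScalarTower.of_algebraMap_eq fun a => (ι.commutes a).symm
  let E := AlgHom.equalizer (secHom U φ) (secHom U ψ)
  let g : Γ(S, S.basicOpen r) ⊗[T] (T ⊗[Γ(S, U)] E) ≃ₐ[Γ(S, S.basicOpen r)]
      (eqPsh φ ψ).obj (op (S.basicOpen r)) :=
    (Algebra.TensorProduct.cancelBaseChange Γ(S, U) T Γ(S, S.basicOpen r) Γ(S, S.basicOpen r) E).trans
      ((Algebra.TensorProduct.congr (AlgEquiv.refl (R := Γ(S, S.basicOpen r)) (A₁ := Γ(S, S.basicOpen r)))
        (eqSecEquiv φ ψ U).symm).trans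
        (Algebra.IsPushout.equiv Γ(S, U) Γ(S, S.basicOpen r) ((eqPsh φ ψ).obj (op U))
          ((eqPsh φ ψ).obj (op (S.basicOpen r)))))
  haveI := het
  haveI := hfin
  show ((eqStr φ ψ).app (op (S.basicOpen r))).hom.Etale ∧
    ((eqStr φ ψ).app (op (S.basicOpen r))).hom.Finite
  exact ⟨RingHom.etale_algebraMap.2 (Algebra.Etale.of_equiv (R := Γ(S, S.basicOpen r)) (A := Γ(S, S.basicOpen r) ⊗[T] (T ⊗[Γ(S, U)] E)) g),
    RingHom.finite_algebraMap.2 (Module.Finite.equiv g.toLinearEquiv)⟩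

theorem prop_π [IsFinite p] [Etale p] [IsFinite q] [Etale q] : FEt.prop (eqAlg φ ψ).π := by
  choose V hsV hV using finite_etale_sections φ ψ
  have hsup : ⨆ s, (V s).1 = ⊤ := top_le_iff.1 fun s _ => Opens.mem_iSup.2 ⟨s, hsV s⟩
  rw [IsZariskiLocalAtTarget.iff_of_iSup_eq_top (P := FEt.prop) (fun s => (V s).1) hsup]
  intro s
  have hpb := RelSpecX.isPullback_ι (A := eqAlg φ ψ) (V s).1 (V s).2
  refine (FEt.prop.arrow_mk_iso_iff (morphismRestrictEq (eqAlg φ ψ).π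
    (V s).2.opensRange_fromSpec.symm ≪≫ morphismRestrictOpensRange _ (V s).2.fromSpec)).2 ?_
  refine (MorphismProperty.cancel_left_of_respectsIso FEt.prop hpb.isoPullback.hom _).1 ?_
  rw [hpb.isoPullback_hom_snd]
  exact ⟨(IsFinite.SpecMap_iff _).2 (hV s).2, (HasRingHomProperty.Spec_iff (P := @Etale)).2 (hV s).1⟩

variable [IsAffineHom p] [IsAffineHom q]

theorem gamma_ι_comm : (eqAlg φ ψ).π.c ≫ ((eqAlg φ ψ).gammaMap ≫ eqι φ ψ) = p.c := by
  rw [← Category.assoc, RelSpec.QCAlg.π_c_gammaMap]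
  exact eqStr_ι φ ψ

/-- The projection to the coequalizer. -/
def eqProj : AffAlg.over (eqAlg φ ψ).π p :=
  ⟨RelSpecX.ofAlgHom (eqAlg φ ψ).π p ⟨(eqAlg φ ψ).gammaMap ≫ eqι φ ψ, gamma_ι_comm φ ψ⟩,
    RelSpecX.ofAlgHom_comp _ _ _⟩

theorem algHom_eqProj (w) : AffAlg.algHom (eqAlg φ ψ).π p (eqProj φ ψ).1 w =
    (eqAlg φ ψ).gammaMap ≫ eqι φ ψ :=
  RelSpecX.algHom_ofAlgHom _ _ ⟨(eqAlg φ ψ).gammaMap ≫ eqι φ ψ, gamma_ι_comm φ ψ⟩

theorem eqProj_condition : φ.1 ≫ (eqProj φ ψ).1 = ψ.1 ≫ (eqProj φ ψ).1 := by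
  have hw : ∀ χ : AffAlg.over p q, (χ.1 ≫ (eqProj φ ψ).1) ≫ (eqAlg φ ψ).π = q := fun χ => by
    rw [Category.assoc, (eqProj φ ψ).2, χ.2]
  refine RelSpecX.algHom_injective (eqAlg φ ψ).π q (hw φ) (hw ψ) fun U => ?_
  refine NatTrans.congr_app ?_ (op U.1)
  have h : ∀ χ : AffAlg.over p q, AffAlg.algHom (eqAlg φ ψ).π q (χ.1 ≫ (eqProj φ ψ).1) (hw χ) =
      (eqAlg φ ψ).gammaMap ≫ (eqι φ ψ ≫ aHom χ) := fun χ => by
    rw [RelSpecX.algHom_comp (eqAlg φ ψ).π p q (eqProj φ ψ).1 (eqProj φ ψ).2 χ.1 χ.2,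
      algHom_eqProj]
    exact Category.assoc _ _ _
  rw [h, h, eqι_comp]

variable {W : Scheme.{u}} {r : W ⟶ S} [IsAffineHom r] (k : AffAlg.over r p)

theorem exists_eqDesc (hk : φ.1 ≫ k.1 = ψ.1 ≫ k.1) :
    ∃ m : AffAlg.over r (eqAlg φ ψ).π, (eqProj φ ψ).1 ≫ m.1 = k.1 := by
  have heq : aHom k ≫ aHom φ = aHom k ≫ aHom ψ := by
    rw [aHom, aHom, aHom, ← RelSpecX.algHom_comp, ← RelSpecX.algHom_comp]
    simp only [hk]
  let l : AffAlg.alg r ⟶ (eqAlg φ ψ).presheaf := equalizer.lift (aHom k) heq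
  have hl : r.c ≫ l = (eqAlg φ ψ).str := by
    refine equalizer.hom_ext ?_
    exact (Category.assoc _ _ _).trans ((congrArg (r.c ≫ ·) (equalizer.lift_ι _ heq)).trans
      ((c_aHom k).trans (eqStr_ι φ ψ).symm))
  have hcomm : r.c ≫ (l ≫ inv (eqAlg φ ψ).gammaMap) = (eqAlg φ ψ).π.c := by
    rw [← Category.assoc, IsIso.comp_inv_eq, RelSpec.QCAlg.π_c_gammaMap, hl]
  let m : AffAlg.over r (eqAlg φ ψ).π :=
    ⟨RelSpecX.ofAlgHom r (eqAlg φ ψ).π ⟨_, hcomm⟩, RelSpecX.ofAlgHom_comp _ _ _⟩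
  refine ⟨m, ?_⟩
  refine RelSpecX.algHom_injective r p (by rw [Category.assoc, m.2, (eqProj φ ψ).2]) k.2 fun U => ?_
  refine NatTrans.congr_app ?_ (op U.1)
  rw [RelSpecX.algHom_comp r (eqAlg φ ψ).π p m.1 m.2 (eqProj φ ψ).1 (eqProj φ ψ).2, algHom_eqProj,
    RelSpecX.algHom_ofAlgHom r (eqAlg φ ψ).π ⟨_, hcomm⟩]
  simp only [Category.assoc, IsIso.inv_hom_id_assoc]
  exact equalizer.lift_ι _ _

theorem eqProj_epi {m m' : AffAlg.over r (eqAlg φ ψ).π}
    (h : (eqProj φ ψ).1 ≫ m.1 = (eqProj φ ψ).1 ≫ m'.1) : m.1 = m'.1 := by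
  refine RelSpecX.algHom_injective r (eqAlg φ ψ).π m.2 m'.2 fun U => ?_
  refine NatTrans.congr_app ?_ (op U.1)
  haveI : Mono (eqι φ ψ) := equalizer.ι_mono
  rw [← cancel_mono (eqAlg φ ψ).gammaMap]
  refine (cancel_mono (eqι φ ψ)).1 ?_
  rw [Category.assoc, Category.assoc, ← algHom_eqProj φ ψ (eqProj φ ψ).2,
    ← RelSpecX.algHom_comp, ← RelSpecX.algHom_comp]
  simp only [h]

end

noncomputable section

variable {S : Scheme.{u}}

/-- A morphism of covers as a morphism over the base. -/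
abbrev toOver {Y Z : FEt.Cat S} (χ : Z ⟶ Y) : AffAlg.over (S := S) Y.hom Z.hom :=
  ⟨χ.left, MorphismProperty.Over.w χ⟩

/-- The coequalizer. -/
abbrev coeq {Y Z : FEt.Cat S} (φ ψ : Z ⟶ Y) : FEt.Cat S :=
  MorphismProperty.Over.mk ⊤ (eqAlg (toOver φ) (toOver ψ)).π (prop_π (toOver φ) (toOver ψ))

/-- The projection to the coequalizer. -/
def coeqπ {Y Z : FEt.Cat S} (φ ψ : Z ⟶ Y) : Y ⟶ coeq φ ψ :=
  MorphismProperty.Over.homMk (eqProj (toOver φ) (toOver ψ)).1 (eqProj (toOver φ) (toOver ψ)).2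

theorem coeqπ_condition {Y Z : FEt.Cat S} (φ ψ : Z ⟶ Y) : φ ≫ coeqπ φ ψ = ψ ≫ coeqπ φ ψ :=
  MorphismProperty.Over.Hom.ext (eqProj_condition (toOver φ) (toOver ψ))

/-- The cofork is universal. -/
theorem existsUnique_desc {Y Z W : FEt.Cat S} (φ ψ : Z ⟶ Y) (k : Y ⟶ W) (hk : φ ≫ k = ψ ≫ k) :
    ∃! m : coeq φ ψ ⟶ W, coeqπ φ ψ ≫ m = k := by
  obtain ⟨m, hm⟩ := exists_eqDesc (toOver φ) (toOver ψ) (toOver k) (congrArg (fun t => t.left) hk)
  refine ⟨MorphismProperty.Over.homMk m.1 m.2, MorphismProperty.Over.Hom.ext hm, fun m' hm' => ?_⟩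
  exact MorphismProperty.Over.Hom.ext (eqProj_epi (toOver φ) (toOver ψ) (m := toOver m') (m' := m)
    ((congrArg (fun t => t.left) hm').trans hm.symm))

instance hasCoequalizers : HasCoequalizers (FEt.Cat S) :=
  haveI : ∀ {A B : FEt.Cat S} {f g : A ⟶ B}, HasColimit (parallelPair f g) := fun {A B f g} =>
    ⟨⟨⟨Cofork.ofπ (coeqπ f g) (coeqπ_condition f g),
      Cofork.IsColimit.ofExistsUnique fun s => existsUnique_desc f g s.π s.condition⟩⟩⟩
  hasCoequalizers_of_hasColimit_parallelPair _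

end

end Groth.Agent.Pi1X
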