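import Groth.Agent.Pi1X.FEtColim
import Mathlib.AlgebraicGeometry.Stalk

/-!
Geometric points of finite étale covers, read over an affine open of the base.
-/

universe u

open CategoryTheory CategoryTheory.Limits AlgebraicGeometry Opposite

set_option linter.style.haveILetI false

namespace Groth.Agent.Pi1X

noncomputable section

variable {S W W' : Scheme.{u}} {Ω : Type u} [Field Ω] (ξ : Spec (CommRingCat.of Ω) ⟶ S)
  {U : S.Opens} (hU : IsAffineOpen U) (hξ : ξ.base (IsLocalRing.closedPoint Ω) ∈ U)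

/-- The lifts of a geometric point. -/
abbrev Lifts (h : W ⟶ S) : Type u := {s : Spec (CommRingCat.of Ω) ⟶ W // s ≫ h = ξ}

include hξ in
theorem top_le_preimage_point {h : W ⟶ S} (s : Lifts ξ h) :
    (⊤ : (Spec (CommRingCat.of Ω)).Opens) ≤ s.1 ⁻¹ᵁ (h ⁻¹ᵁ U) := fun x _ => by
  rw [Subsingleton.elim x (IsLocalRing.closedPoint Ω), ← Scheme.Hom.comp_preimage, s.2]
  exact hξ

include hξ in
theorem top_le_preimage_base : (⊤ : (Spec (CommRingCat.of Ω)).Opens) ≤ ξ ⁻¹ᵁ U := fun x _ => by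
  rw [Subsingleton.elim x (IsLocalRing.closedPoint Ω)]
  exact hξ

/-- The geometric point on sections. -/
abbrev baseAlg : Algebra Γ(S, U) Ω :=
  (ξ.appLE U ⊤ (top_le_preimage_base ξ hξ) ≫ (Scheme.ΓSpecIso _).hom).hom.toAlgebra

/-- The sections over `U` as an algebra. -/
abbrev secAlg (h : W ⟶ S) (U : S.Opens) : Algebra Γ(S, U) Γ(W, h ⁻¹ᵁ U) := (h.app U).hom.toAlgebra

/-- Homomorphisms on sections. -/
abbrev secPt (h : W ⟶ S) : Type u :=
  letI := baseAlg ξ hξ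
  letI := secAlg h U
  Γ(W, h ⁻¹ᵁ U) →ₐ[Γ(S, U)] Ω

/-- A lift gives a homomorphism on sections. -/
def toSecPt {h : W ⟶ S} (s : Lifts ξ h) : secPt ξ hξ h :=
  letI := baseAlg ξ hξ
  letI := secAlg h U
  { (s.1.appLE (h ⁻¹ᵁ U) ⊤ (top_le_preimage_point ξ hξ s) ≫ (Scheme.ΓSpecIso _).hom).hom with
    commutes' := fun r => by
      obtain ⟨s, rfl⟩ := s
      show _ = ((s ≫ h).appLE U ⊤ _ ≫ (Scheme.ΓSpecIso _).hom).hom r
      rw [show (s ≫ h).appLE U ⊤ (top_le_preimage_base (s ≫ h) hξ) =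
          h.app U ≫ s.appLE (h ⁻¹ᵁ U) ⊤ (top_le_preimage_point (s ≫ h) hξ ⟨s, rfl⟩) by
        rw [Scheme.Hom.app_eq_appLE, Scheme.Hom.appLE_comp_appLE]]
      rfl }

theorem toSecPt_comp {h : W ⟶ S} {h' : W' ⟶ S} (t : W' ⟶ W) (ht : t ≫ h = h') (s : Lifts ξ h')
    (b : Γ(W, h ⁻¹ᵁ U)) :
    (show Ω from (toSecPt ξ hξ ⟨s.1 ≫ t, by rw [Category.assoc, ht, s.2]⟩ : secPt ξ hξ h) b) =
      (toSecPt ξ hξ s : secPt ξ hξ h')
        ((t.appLE (h ⁻¹ᵁ U) (h' ⁻¹ᵁ U) (RelSpecX.preimage_eq h h' t ht U).le).hom b) := by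
  show ((s.1 ≫ t).appLE _ ⊤ _ ≫ (Scheme.ΓSpecIso _).hom).hom b =
    (s.1.appLE _ ⊤ _ ≫ (Scheme.ΓSpecIso _).hom).hom _
  rw [← Scheme.Hom.appLE_comp_appLE s.1 t (h ⁻¹ᵁ U) (h' ⁻¹ᵁ U) ⊤
    (RelSpecX.preimage_eq h h' t ht U).le (top_le_preimage_point ξ hξ s)]
  rfl

include hU in
theorem toSecPt_bijective {h : W ⟶ S} [IsAffineHom h] :
    Function.Bijective (toSecPt ξ hξ : Lifts ξ h → secPt ξ hξ h) := by
  have hV : IsAffineOpen (h ⁻¹ᵁ U) := hU.preimage h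
  refine ⟨fun s t hst => Subtype.ext ?_, fun χ => ?_⟩
  · have key : ∀ s : Lifts ξ h, s.1 = Spec.map (CommRingCat.ofHom
        (RingHomClass.toRingHom (toSecPt ξ hξ s : secPt ξ hξ h))) ≫ hV.fromSpec := fun s =>
      RelSpecX.spec_hom_eq s.1 hV (top_le_preimage_point ξ hξ s)
    rw [key s, key t, hst]
  · letI := baseAlg ξ hξ
    letI := secAlg h U
    let c : Γ(W, h ⁻¹ᵁ U) ⟶ CommRingCat.of Ω := CommRingCat.ofHom χ.toRingHom
    have hc : h.app U ≫ c = ξ.appLE U ⊤ (top_le_preimage_base ξ hξ) ≫ (Scheme.ΓSpecIso _).hom :=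
      CommRingCat.hom_ext (RingHom.ext fun r => χ.commutes r)
    have hs : (Spec.map c ≫ hV.fromSpec) ≫ h = ξ := by
      rw [Category.assoc, RelSpecX.fromSpec_comp_structure h ⟨U, hU⟩, ← Spec.map_comp_assoc, hc]
      exact (RelSpecX.spec_hom_eq ξ hU (top_le_preimage_base ξ hξ)).symm
    refine ⟨⟨_, hs⟩, ?_⟩
    have h1 := RelSpecX.spec_hom_eq (Spec.map c ≫ hV.fromSpec) hV (top_le_preimage_point ξ hξ ⟨_, hs⟩)
    rw [cancel_mono] at h1
    have h2 := Spec.map_injective h1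
    exact AlgHom.ext fun b => congr($(h2.symm).hom b)

/-- Geometric points lift to any point in the fibre. -/
theorem exists_lift_at [IsSepClosed Ω] (h : W ⟶ S) [IsAffineHom h] [Etale h] (w : W)
    (hw : h.base w = ξ.base (IsLocalRing.closedPoint Ω)) :
    ∃ s : Lifts ξ h, s.1.base (IsLocalRing.closedPoint Ω) = w := by
  obtain ⟨U, hU, hξ, -⟩ :=
    exists_isAffineOpen_mem_and_subset (x := ξ.base (IsLocalRing.closedPoint Ω)) (U := ⊤) trivial
  have hV : IsAffineOpen (h ⁻¹ᵁ U) := hU.preimage h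
  have hwV : w ∈ h ⁻¹ᵁ U := by
    show h.base w ∈ U
    rw [hw]
    exact hξ
  letI := baseAlg ξ hξ
  letI := secAlg h U
  haveI : Algebra.Etale Γ(S, U) Γ(W, h ⁻¹ᵁ U) := by
    have h' := HasRingHomProperty.appLE @Etale h inferInstance ⟨U, hU⟩ ⟨_, hV⟩ le_rfl
    change (h.app U).hom.Etale
    rw [Scheme.Hom.app_eq_appLE]
    exact h'
  let r := hV.primeIdealOf ⟨w, hwV⟩
  have hr : PrimeSpectrum.comap (algebraMap Γ(S, U) Γ(W, h ⁻¹ᵁ U)) r =
      ⟨RingHom.ker (algebraMap Γ(S, U) Ω), RingHom.ker_isPrime _⟩ := by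
    apply hU.fromSpec.isOpenEmbedding.injective
    have h1 : hU.fromSpec.base (PrimeSpectrum.comap (algebraMap Γ(S, U) Γ(W, h ⁻¹ᵁ U)) r) = h.base w := by
      show (Spec.map (h.app U) ≫ hU.fromSpec).base r = _
      rw [← RelSpecX.fromSpec_comp_structure h ⟨U, hU⟩]
      show h.base (hV.fromSpec.base r) = _
      rw [hV.fromSpec_primeIdealOf]
    have h2 : hU.fromSpec.base (⟨RingHom.ker (algebraMap Γ(S, U) Ω), RingHom.ker_isPrime _⟩ :
        PrimeSpectrum Γ(S, U)) = ξ.base (IsLocalRing.closedPoint Ω) := by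
      conv_rhs => rw [RelSpecX.spec_hom_eq ξ hU (top_le_preimage_base ξ hξ)]
      rw [Scheme.Hom.comp_apply]
      congr 1
      refine PrimeSpectrum.ext ?_
      show _ = Ideal.comap _ (IsLocalRing.maximalIdeal Ω)
      rw [IsLocalRing.maximalIdeal_eq_bot]
      rfl
    rw [h1, h2, hw]
  obtain ⟨g, hg⟩ := exists_point Ω r hr
  obtain ⟨s, hs⟩ := (toSecPt_bijective ξ hU hξ (h := h)).2 g
  refine ⟨s, ?_⟩
  rw [RelSpecX.spec_hom_eq s.1 hV (top_le_preimage_point ξ hξ s), Scheme.Hom.comp_apply]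
  refine Eq.trans ?_ (hV.fromSpec_primeIdealOf ⟨w, hwV⟩)
  congr 1
  refine PrimeSpectrum.ext ?_
  show Ideal.comap (RingHomClass.toRingHom (toSecPt ξ hξ s : secPt ξ hξ h)) (IsLocalRing.maximalIdeal Ω) = r.asIdeal
  rw [IsLocalRing.maximalIdeal_eq_bot, hs, ← hg]
  rfl

/-- The lifts of a geometric point to a coequalizer. -/
theorem coeq_lifts_bijective [IsSepClosed Ω] {Y Z : Scheme.{u}} {p : Y ⟶ S} {q : Z ⟶ S}
    [IsFinite p] [Etale p] [IsFinite q] [Etale q] (φ ψ : AffAlg.over p q) :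
    Function.Bijective (Quot.lift
      (fun s : Lifts ξ p => (⟨s.1 ≫ (eqProj φ ψ).1, by rw [Category.assoc, (eqProj φ ψ).2, s.2]⟩ :
        Lifts ξ (eqAlg φ ψ).π))
      (fun x y (h : ∃ z : Lifts ξ q, z.1 ≫ φ.1 = x.1 ∧ z.1 ≫ ψ.1 = y.1) => by
        obtain ⟨z, hzx, hzy⟩ := h
        refine Subtype.ext ?_
        show x.1 ≫ (eqProj φ ψ).1 = y.1 ≫ (eqProj φ ψ).1
        rw [← hzx, ← hzy, Category.assoc, Category.assoc, eqProj_condition])) := by
  obtain ⟨U, hU, hξ, -⟩ :=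
    exists_isAffineOpen_mem_and_subset (x := ξ.base (IsLocalRing.closedPoint Ω)) (U := ⊤) trivial
  letI := baseAlg ξ hξ
  letI := covAlg U p
  letI := covAlg U q
  letI := eqSecAlg φ ψ U
  have hfe : ∀ {W : Scheme.{u}} (t : W ⟶ S) [IsFinite t] [Etale t],
      (t.app U).hom.Etale ∧ (t.app U).hom.Finite := fun {W} t _ _ => by
    refine ⟨?_, IsFinite.finite_app (f := t) U hU⟩
    rw [Scheme.Hom.app_eq_appLE]
    exact HasRingHomProperty.appLE @Etale t inferInstance ⟨U, hU⟩ ⟨_, hU.preimage t⟩ le_rfl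
  haveI : Algebra.Etale Γ(S, U) Γ(Y, p ⁻¹ᵁ U) := (hfe p).1.toAlgebra
  haveI : Algebra.Etale Γ(S, U) Γ(Z, q ⁻¹ᵁ U) := (hfe q).1.toAlgebra
  haveI : Module.Finite Γ(S, U) Γ(Y, p ⁻¹ᵁ U) := RingHom.finite_algebraMap.1 (hfe p).2
  haveI : Module.Finite Γ(S, U) Γ(Z, q ⁻¹ᵁ U) := RingHom.finite_algebraMap.1 (hfe q).2
  let π := (eqAlg φ ψ).π
  letI := secAlg π U
  haveI : IsAffineHom π := RelSpec.QCAlg.isAffineHom_π _
  let γ : Γ((eqAlg φ ψ).spec, π ⁻¹ᵁ U) →ₐ[Γ(S, U)] (eqPsh φ ψ).obj (op U) :=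
    { ((eqAlg φ ψ).gammaMap.app (op U)).hom with
      commutes' := fun r => congr($(NatTrans.congr_app (eqAlg φ ψ).π_c_gammaMap (op U)).hom r) }
  haveI : IsIso (eqAlg φ ψ).gammaMap := RelSpecX.isIso_gammaMap _
  haveI : IsIso ((eqAlg φ ψ).gammaMap.app (op U)) := NatIso.isIso_app_of_isIso _ _
  have hγ : Function.Bijective γ :=
    ConcreteCategory.bijective_of_isIso ((eqAlg φ ψ).gammaMap.app (op U))
  let ε := (AlgEquiv.ofBijective γ hγ).trans (eqSecEquiv φ ψ U)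
  let P := Quot.lift (fun x : Γ(Y, p ⁻¹ᵁ U) →ₐ[Γ(S, U)] Ω => x.comp (AlgHom.equalizer (secHom U φ) (secHom U ψ)).val)
    (fun x y (h : ∃ z : Γ(Z, q ⁻¹ᵁ U) →ₐ[Γ(S, U)] Ω, z.comp (secHom U φ) = x ∧ z.comp (secHom U ψ) = y) => by
      obtain ⟨z, rfl, rfl⟩ := h
      exact AlgHom.ext fun e => congrArg z e.2)
  have hP : Function.Bijective P := equalizer_points (secHom U φ) (secHom U ψ) Ω
  have hp := toSecPt_bijective ξ hU hξ (h := p)
  have hq := toSecPt_bijective ξ hU hξ (h := q)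
  have hπ := toSecPt_bijective ξ hU hξ (h := π)
  -- compatibility with `φ`, `ψ`
  have hmap : ∀ (χ : AffAlg.over p q) (z : Lifts ξ q),
      (toSecPt ξ hξ ⟨z.1 ≫ χ.1, by rw [Category.assoc, χ.2, z.2]⟩ : secPt ξ hξ p) =
        (toSecPt ξ hξ z : secPt ξ hξ q).comp (secHom U χ) := fun χ z => AlgHom.ext fun b => by
    refine (toSecPt_comp ξ hξ χ.1 χ.2 z b).trans ?_
    show _ = (toSecPt ξ hξ z : secPt ξ hξ q) (((aHom χ).app (op U)).hom b)
    rw [aHom, RelSpecX.algHom_app]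
  have hproj : ∀ (s : Lifts ξ p),
      (toSecPt ξ hξ ⟨s.1 ≫ (eqProj φ ψ).1, by rw [Category.assoc, (eqProj φ ψ).2, s.2]⟩ : secPt ξ hξ π) =
        ((toSecPt ξ hξ s : secPt ξ hξ p).comp
          (AlgHom.equalizer (secHom U φ) (secHom U ψ)).val).comp ε.toAlgHom := fun s => AlgHom.ext fun b => by
    refine (toSecPt_comp ξ hξ (eqProj φ ψ).1 (eqProj φ ψ).2 s b).trans ?_
    rw [← RelSpecX.algHom_app (eqAlg φ ψ).π p (eqProj φ ψ).1 (eqProj φ ψ).2 U,
      algHom_eqProj]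
    rfl
  constructor
  · intro c c' h
    induction c using Quot.ind with
    | _ s =>
    induction c' using Quot.ind with
    | _ s' =>
    have h1 : P (Quot.mk _ (toSecPt ξ hξ s)) = P (Quot.mk _ (toSecPt ξ hξ s')) := by
      have h2 := congrArg (toSecPt ξ hξ) h
      simp only [hproj] at h2
      exact AlgHom.ext fun e => by
        obtain ⟨b, rfl⟩ := ε.surjective e
        exact AlgHom.congr_fun h2 b
    let back : Quot (fun x y : Γ(Y, p ⁻¹ᵁ U) →ₐ[Γ(S, U)] Ω =>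
        ∃ z : Γ(Z, q ⁻¹ᵁ U) →ₐ[Γ(S, U)] Ω, z.comp (secHom U φ) = x ∧ z.comp (secHom U ψ) = y) →
        Quot (fun x y : Lifts ξ p => ∃ z : Lifts ξ q, z.1 ≫ φ.1 = x.1 ∧ z.1 ≫ ψ.1 = y.1) :=
      Quot.lift (fun x => Quot.mk _ ((Equiv.ofBijective _ hp).symm x)) fun x y ⟨z, hzx, hzy⟩ => by
        obtain ⟨z, rfl⟩ := hq.2 z
        refine Quot.sound ⟨z, ?_, ?_⟩
        · refine congrArg Subtype.val (hp.1 (a₁ := ⟨z.1 ≫ φ.1, by rw [Category.assoc, φ.2, z.2]⟩) ?_)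
          rw [hmap]
          exact hzx.trans (Equiv.apply_symm_apply (Equiv.ofBijective _ hp) x).symm
        · refine congrArg Subtype.val (hp.1 (a₁ := ⟨z.1 ≫ ψ.1, by rw [Category.assoc, ψ.2, z.2]⟩) ?_)
          rw [hmap]
          exact hzy.trans (Equiv.apply_symm_apply (Equiv.ofBijective _ hp) y).symm
    have h3 := congrArg back (hP.1 (a₁ := Quot.mk _ (toSecPt ξ hξ s))
      (a₂ := Quot.mk _ (toSecPt ξ hξ s')) h1)
    simpa [back] using h3
  · intro t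
    obtain ⟨c, hc⟩ := hP.2 ((toSecPt ξ hξ t : secPt ξ hξ π).comp ε.symm.toAlgHom)
    induction c using Quot.ind with
    | _ x =>
    obtain ⟨s, rfl⟩ := hp.2 x
    refine ⟨Quot.mk _ s, hπ.1 ?_⟩
    rw [hproj]
    refine AlgHom.ext fun b => ?_
    exact (AlgHom.congr_fun hc (ε b)).trans (congrArg (toSecPt ξ hξ t : secPt ξ hξ π) (ε.symm_apply_apply b))

end

end Groth.Agent.Pi1X
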