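import Mathlib.CategoryTheory.Galois.Topology
import Mathlib.CategoryTheory.Galois.Examples
import Mathlib.CategoryTheory.Action.Continuous
import Mathlib.Topology.Category.FinTopCat
import Mathlib.Topology.Algebra.Category.ProfiniteGrp.Completion

/-!
The automorphism group of the forgetful functor on finite (continuous) `G`-sets is the profinite
completion of `G`.
-/

universe u u₁ u₂ w

open CategoryTheory CategoryTheory.PreGaloisCategory
open scoped FintypeCatDiscrete

set_option linter.style.haveILetI false
set_option linter.unusedSectionVars false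

namespace Groth.Agent.Pi1X.ForgetAut

noncomputable section

section General

variable {C : Type u₁} [Category.{u₂} C] (F : C ⥤ FintypeCat.{w}) {G : Type u} [Group G]
  (ι : G →* Aut F)

theorem denseRange_of_orbits
    (horb : ∀ (n : ℕ) (Xs : Fin n → C), ∃ (O : C) (o : F.obj O),
      (∀ y : F.obj O, ∃ g : G, (ι g).hom.app O o = y) ∧
      ∀ (i : Fin n) (v : F.obj (Xs i)), ∃ f : O ⟶ Xs i, F.map f o = v) :
    DenseRange ι := by
  intro σ
  rw [mem_closure_iff]
  intro W hW hσ
  obtain ⟨U, hU, rfl⟩ := isOpen_induced_iff.1 hW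
  obtain ⟨I, s, hs, hI⟩ := isOpen_pi_iff.1 hU (autEmbedding F σ) hσ
  obtain ⟨O, o, ho, hev⟩ := horb I.card (fun i => (I.equivFin.symm i).1)
  obtain ⟨g, hg⟩ := ho (σ.hom.app O o)
  refine ⟨ι g, hI fun X hX => ?_, g, rfl⟩
  suffices h : autEmbedding F (ι g) X = autEmbedding F σ X by
    rw [h]
    exact (hs X hX).2
  refine Iso.ext (FintypeCat.hom_ext _ _ fun v => ?_)
  obtain ⟨i, rfl⟩ : ∃ i, (I.equivFin.symm i).1 = X := ⟨I.equivFin ⟨X, hX⟩, by simp⟩
  obtain ⟨f, rfl⟩ := hev i v
  show (ι g).hom.app _ (F.map f o) = σ.hom.app _ (F.map f o)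
  rw [NatTrans.naturality_apply, NatTrans.naturality_apply, hg]

theorem continuous_of_locallyConstant [TopologicalSpace G]
    (h : ∀ (X : C) (τ : Aut (F.obj X)), IsOpen {g : G | autEmbedding F (ι g) X = τ}) :
    Continuous ι := by
  rw [(autEmbedding_isClosedEmbedding F).isInducing.continuous_iff, continuous_pi_iff]
  intro X
  refine ⟨fun s _ => ?_⟩
  have : (fun g => autEmbedding F (ι g) X) ⁻¹' s = ⋃ τ ∈ s, {g : G | autEmbedding F (ι g) X = τ} := by
    ext g
    simp
  rw [show (fun a => (autEmbedding F ∘ ι) a X) = fun g => autEmbedding F (ι g) X from rfl, this]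
  exact isOpen_biUnion fun τ _ => h X τ

theorem continuous_eval {X : C} (x : F.obj X) : Continuous fun σ : Aut F => σ.hom.app X x := by
  exact continuous_id.smul continuous_const

end General

variable (G : Type u) [Group G]

instance mulActionObj (X : Action FintypeCat.{u} G) : MulAction G X.V where
  smul g x := (X.ρ g).hom x
  one_smul x := by
    show (X.ρ 1).hom x = x
    rw [map_one]; rfl
  mul_smul g h x := by
    show (X.ρ (g * h)).hom x = (X.ρ g).hom ((X.ρ h).hom x)
    rw [map_mul]; rfl

/-- Tuples of endomaps. -/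
abbrev Tuples {n : ℕ} (Xs : Fin n → Action FintypeCat.{u} G) : Type u :=
  (i : Fin n) → (Xs i).V → (Xs i).V

/-- The pointwise action on tuples of endomaps. -/
@[reducible]
def tuplesAction {n : ℕ} (Xs : Fin n → Action FintypeCat.{u} G) : MulAction G (Tuples G Xs) where
  smul g f := fun i v => g • f i v
  one_smul f := funext fun _ => funext fun _ => one_smul G _
  mul_smul g h f := funext fun _ => funext fun _ => mul_smul g h _

attribute [local instance] tuplesAction

/-- The orbit of the identity tuple. -/
def orbitObj {n : ℕ} (Xs : Fin n → Action FintypeCat.{u} G) : Action FintypeCat.{u} G :=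
  haveI : Finite (MulAction.orbit G (fun i v => v : Tuples G Xs)) := Subtype.finite
  Action.FintypeCat.ofMulAction G (FintypeCat.of (MulAction.orbit G (fun i v => v : Tuples G Xs)))

/-- Its base point. -/
def orbitPt {n : ℕ} (Xs : Fin n → Action FintypeCat.{u} G) : (orbitObj G Xs).V :=
  ⟨fun i v => v, MulAction.mem_orbit_self _⟩

theorem orbit_transitive {n : ℕ} (Xs : Fin n → Action FintypeCat.{u} G) (y : (orbitObj G Xs).V) :
    ∃ g : G, ((orbitObj G Xs).ρ g).hom (orbitPt G Xs) = y := by
  obtain ⟨y, g, rfl⟩ := y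
  exact ⟨g, rfl⟩

/-- Evaluation of a tuple. -/
def orbitEval {n : ℕ} (Xs : Fin n → Action FintypeCat.{u} G) (i : Fin n) (v : (Xs i).V) :
    orbitObj G Xs ⟶ Xs i where
  hom := FintypeCat.homMk fun f => f.1 i v
  comm g := FintypeCat.hom_ext _ _ fun f => rfl

/-- The natural automorphism given by a group element, on all finite `G`-sets. -/
def toAut : G →* Aut (Action.forget FintypeCat.{u} G) :=
  MonoidHom.mk'
    (fun g => NatIso.ofComponents
      (fun X => FintypeCat.equivEquivIso (MulAction.toPerm g : X.V ≃ X.V))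
      (fun f => FintypeCat.hom_ext _ _ fun x => (ConcreteCategory.congr_hom (f.comm g) x).symm))
    (fun g h => Iso.ext (NatTrans.ext (funext fun X => FintypeCat.hom_ext _ _ fun x => mul_smul g h (show X.V from x))))

theorem denseRange_toAut : DenseRange (toAut G) :=
  denseRange_of_orbits _ _ fun n Xs =>
    ⟨orbitObj G Xs, orbitPt G Xs, orbit_transitive G Xs, fun i v => ⟨orbitEval G Xs i v, rfl⟩⟩

variable {G}

section Regular

variable (Q : Type u) [Group Q] [Finite Q] (π : G →* Q)

/-- A finite group as a `G`-set through a homomorphism. -/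
def regObj : Action FintypeCat.{u} G :=
  letI : MulAction G (FintypeCat.of Q) := MulAction.compHom Q π
  Action.FintypeCat.ofMulAction G (FintypeCat.of Q)

/-- Right multiplication. -/
def regMul (q : Q) : regObj Q π ⟶ regObj Q π where
  hom := FintypeCat.homMk fun x : Q => (x * q : Q)
  comm g := FintypeCat.hom_ext _ _ fun x => mul_assoc (π g) (show Q from x) q

/-- The extension of a homomorphism to the automorphisms of the forgetful functor. -/
def extend : Aut (Action.forget FintypeCat.{u} G) →* Q :=
  MonoidHom.mk' (fun σ => σ.hom.app (regObj Q π) (1 : Q)) fun σ τ => by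
    have h := NatTrans.naturality_apply σ.hom (regMul Q π (τ.hom.app (regObj Q π) (1 : Q))) (1 : Q)
    have h1 : (Action.forget FintypeCat G).map (regMul Q π (τ.hom.app (regObj Q π) (1 : Q))) (1 : Q) =
        τ.hom.app (regObj Q π) (1 : Q) := one_mul (show Q from τ.hom.app (regObj Q π) (1 : Q))
    rw [h1] at h
    exact h

theorem extend_toAut (g : G) : extend Q π (toAut G g) = π g :=
  mul_one (π g)

theorem continuous_extend [TopologicalSpace Q] : Continuous (extend Q π) :=
  ⟨fun s _ => (isOpen_discrete (show Set ((Action.forget FintypeCat G).obj (regObj Q π)) from s)).preimage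
    (continuous_eval (Action.forget FintypeCat G) (X := regObj Q π) (1 : Q))⟩

end Regular

variable (G) [TopologicalSpace G] [IsTopologicalGroup G]

theorem isOpen_action_eq (X : ContAction FintypeCat.{u} G) (x y : X.obj.V) :
    IsOpen {g : G | (X.obj.ρ g).hom x = y} :=
  (isOpen_discrete ({y} : Set X.obj.V)).preimage
    (X.2.1.comp (continuous_id.prodMk continuous_const))

theorem isOpen_eq (X : ContAction FintypeCat.{u} G) (k : X.obj.V → X.obj.V) :
    IsOpen {g : G | ∀ x, (X.obj.ρ g).hom x = k x} := by
  rw [Set.ofPred_forall]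
  exact isOpen_iInter_of_finite fun x => isOpen_action_eq G X x (k x)

/-- The natural automorphism given by a group element, on finite continuous `G`-sets. -/
def contToAut : G →* Aut (forget₂ (ContAction FintypeCat.{u} G) FintypeCat.{u}) :=
  (((Functor.whiskeringLeft _ _ _).obj (ObjectProperty.ι _)).mapAut
    (Action.forget FintypeCat.{u} G)).comp (toAut G)

theorem contToAut_app (g : G) (X : ContAction FintypeCat.{u} G) (x : X.obj.V) :
    (contToAut G g).hom.app X x = (X.obj.ρ g).hom x := rfl

theorem continuous_contToAut : Continuous (contToAut G) := by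
  refine continuous_of_locallyConstant _ _ fun X τ => ?_
  have : {g : G | autEmbedding _ (contToAut G g) X = τ} =
      {g : G | ∀ x, (X.obj.ρ g).hom x = τ.hom x} := by
    ext g
    exact ⟨fun h x => by rw [← h]; rfl, fun h => Iso.ext (FintypeCat.hom_ext _ _ h)⟩
  rw [this]
  exact isOpen_eq G X _

theorem isContinuous_orbitObj {n : ℕ} (Xs : Fin n → ContAction FintypeCat.{u} G) :
    (orbitObj G fun i => (Xs i).obj).IsContinuous := by
  rw [Action.isContinuous_def]
  haveI : DiscreteTopology ((forget₂ (Action FintypeCat.{u} G) TopCat.{u}).obj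
    (orbitObj G fun i => (Xs i).obj)) := ⟨rfl⟩
  refine continuous_prod_of_discrete_right.2 fun f => ⟨fun s _ => ?_⟩
  show IsOpen {g : G | ((orbitObj G fun i => (Xs i).obj).ρ g).hom f ∈ s}
  have hone (y : (orbitObj G fun i => (Xs i).obj).V) :
      IsOpen {g : G | ((orbitObj G fun i => (Xs i).obj).ρ g).hom f = y} := by
    have : {g : G | ((orbitObj G fun i => (Xs i).obj).ρ g).hom f = y} =
        ⋂ i : Fin n, ⋂ v : (Xs i).obj.V, {g : G | ((Xs i).obj.ρ g).hom (f.1 i v) = y.1 i v} := by
      ext g
      simp only [Set.mem_iInter, Set.mem_ofPred_eq]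
      exact ⟨fun h i v => by rw [← h]; rfl, fun h => Subtype.ext (funext fun i => funext (h i))⟩
    rw [this]
    exact isOpen_iInter_of_finite fun i => isOpen_iInter_of_finite fun v => isOpen_action_eq G _ _ _
  have : {g : G | ((orbitObj G fun i => (Xs i).obj).ρ g).hom f ∈ s} =
      ⋃ y ∈ s, {g : G | ((orbitObj G fun i => (Xs i).obj).ρ g).hom f = y} := by
    ext g
    simp only [Set.mem_ofPred_eq, Set.mem_iUnion, exists_prop]
    exact ⟨fun h => ⟨_, h, rfl⟩, fun ⟨w, hw, e⟩ => e ▸ hw⟩
  rw [this]
  exact isOpen_biUnion fun y _ => hone y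

theorem denseRange_contToAut : DenseRange (contToAut G) :=
  denseRange_of_orbits _ _ fun n Xs =>
    ⟨⟨orbitObj G fun i => (Xs i).obj, isContinuous_orbitObj G Xs⟩, orbitPt G fun i => (Xs i).obj,
      orbit_transitive G fun i => (Xs i).obj,
      fun i v => ⟨ObjectProperty.homMk (orbitEval G (fun i => (Xs i).obj) i v), rfl⟩⟩

variable {G}

theorem existsUnique_factor (Q : Type u) [Group Q] [Finite Q] [TopologicalSpace Q] [DiscreteTopology Q]
    (π : G →* Q) (hπ : Continuous π) :
    ∃! ψ : Aut (forget₂ (ContAction FintypeCat.{u} G) FintypeCat.{u}) →* Q,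
      Continuous ψ ∧ ψ.comp (contToAut G) = π := by
  have hc : (regObj Q π).IsContinuous := by
    rw [Action.isContinuous_def]
    haveI : DiscreteTopology ((forget₂ (Action FintypeCat.{u} G) TopCat.{u}).obj (regObj Q π)) := ⟨rfl⟩
    refine continuous_prod_of_discrete_right.2 fun q => ⟨fun s _ => ?_⟩
    exact (isOpen_discrete {r : Q | (r * (show Q from q) : Q) ∈ (show Set Q from s)}).preimage hπ
  let P : ContAction FintypeCat.{u} G := ⟨regObj Q π, hc⟩
  let ψ : Aut (forget₂ (ContAction FintypeCat.{u} G) FintypeCat.{u}) →* Q :=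
    MonoidHom.mk' (fun σ => σ.hom.app P (1 : Q)) fun σ τ => by
      let m : P ⟶ P := ObjectProperty.homMk (regMul Q π (τ.hom.app P (1 : Q)))
      have h := NatTrans.naturality_apply σ.hom m (1 : Q)
      have h1 : (forget₂ (ContAction FintypeCat.{u} G) FintypeCat.{u}).map m (1 : Q) =
          τ.hom.app P (1 : Q) := one_mul (show Q from τ.hom.app P (1 : Q))
      rw [h1] at h
      exact h
  have hψc : Continuous ψ :=
    ⟨fun s _ => (isOpen_discrete (show Set ((forget₂ (ContAction FintypeCat.{u} G) FintypeCat.{u}).obj P) from s)).preimage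
      (continuous_eval (forget₂ (ContAction FintypeCat.{u} G) FintypeCat.{u}) (X := P) (1 : Q))⟩
  refine ⟨ψ, ⟨hψc,
    MonoidHom.ext fun g => mul_one (π g)⟩, fun ψ' hψ' => ?_⟩
  apply DFunLike.coe_injective
  refine (denseRange_contToAut G).equalizer hψ'.1 hψc ?_
  funext g
  exact (DFunLike.congr_fun hψ'.2 g).trans (mul_one (π g)).symm

section Completion

open ProfiniteGrp ProfiniteCompletion

variable (G : Type u) [Group G]

/-- The map to the profinite completion. -/
def toCompletion (σ : Aut (Action.forget FintypeCat.{u} G)) : completion (GrpCat.of G) :=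
  ⟨fun H => extend (G ⧸ H.toSubgroup) (QuotientGroup.mk' H.toSubgroup) σ, fun {H H'} f => by
    let m : regObj (G ⧸ H.toSubgroup) (QuotientGroup.mk' H.toSubgroup) ⟶
        regObj (G ⧸ H'.toSubgroup) (QuotientGroup.mk' H'.toSubgroup) :=
      { hom := FintypeCat.homMk fun q : G ⧸ H.toSubgroup =>
          QuotientGroup.map H.toSubgroup H'.toSubgroup (MonoidHom.id G) f.le q
        comm := fun g => FintypeCat.hom_ext _ _ fun q =>
          map_mul (QuotientGroup.map H.toSubgroup H'.toSubgroup (MonoidHom.id G) f.le)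
            (QuotientGroup.mk' H.toSubgroup g) (show G ⧸ H.toSubgroup from q) }
    exact (NatTrans.naturality_apply σ.hom m (1 : G ⧸ H.toSubgroup)).symm.trans
      (congrArg (σ.hom.app _)
        (map_one (QuotientGroup.map H.toSubgroup H'.toSubgroup (MonoidHom.id G) f.le)))⟩

theorem exists_completion_equiv :
    ∃ φ : (completion (GrpCat.of G)) ≃ₜ* Aut (Action.forget FintypeCat.{u} G),
      ∀ (g : G) (X : Action FintypeCat.{u} G) (x : X.V),
        (φ (etaFn (GrpCat.of G) g)).hom.app X x = (X.ρ g).hom x := by
  let Ψ : Aut (Action.forget FintypeCat.{u} G) →* completion (GrpCat.of G) :=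
    MonoidHom.mk' (toCompletion G) fun σ τ => Subtype.ext (funext fun H =>
      map_mul (extend (G ⧸ H.toSubgroup) (QuotientGroup.mk' H.toSubgroup)) σ τ)
  have hΨc : Continuous Ψ := by
    refine Continuous.subtype_mk (continuous_pi fun H => ?_) _
    letI : TopologicalSpace (G ⧸ H.toSubgroup) :=
      inferInstanceAs (TopologicalSpace ((diagram (GrpCat.of G)).obj H))
    exact continuous_extend (G ⧸ H.toSubgroup) (QuotientGroup.mk' H.toSubgroup)
  have hη (g : G) : Ψ (toAut G g) = etaFn (GrpCat.of G) g :=
    Subtype.ext (funext fun H => extend_toAut (G ⧸ H.toSubgroup) (QuotientGroup.mk' H.toSubgroup) g)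
  have hinj : Function.Injective Ψ := by
    refine (injective_iff_map_eq_one Ψ).2 fun σ hσ => ?_
    refine Iso.ext (NatTrans.ext (funext fun X => FintypeCat.hom_ext _ _ fun (x : X.V) => ?_))
    let K : FiniteIndexNormalSubgroup G :=
      { toSubgroup := (MulAction.toPermHom G X.V).ker }
    let l := QuotientGroup.lift K.toSubgroup (MulAction.toPermHom G X.V) le_rfl
    let m : regObj (G ⧸ K.toSubgroup) (QuotientGroup.mk' K.toSubgroup) ⟶ X :=
      { hom := FintypeCat.homMk fun q : G ⧸ K.toSubgroup => l q x
        comm := fun g => FintypeCat.hom_ext _ _ fun q => by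
          show l (QuotientGroup.mk' K.toSubgroup g * (show G ⧸ K.toSubgroup from q)) x =
            (X.ρ g).hom (l (show G ⧸ K.toSubgroup from q) x)
          rw [map_mul]
          rfl }
    have h1 : extend (G ⧸ K.toSubgroup) (QuotientGroup.mk' K.toSubgroup) σ = 1 :=
      congrArg (fun z : completion (GrpCat.of G) => z.1 K) hσ
    have hx : (Action.forget FintypeCat.{u} G).map m (1 : G ⧸ K.toSubgroup) = x :=
      congrArg (fun e : Equiv.Perm X.V => e x) (map_one l)
    refine (congrArg (σ.hom.app X) hx.symm).trans ?_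
    rw [NatTrans.naturality_apply]
    exact (congrArg ((Action.forget FintypeCat.{u} G).map m) h1).trans hx
  have hsurj : Function.Surjective Ψ := by
    intro y
    have hcl : IsClosed (Set.range Ψ) := (isCompact_range hΨc).isClosed
    have : closure (Set.range (etaFn (GrpCat.of G))) ⊆ Set.range Ψ := by
      refine hcl.closure_subset_iff.2 ?_
      rintro _ ⟨g, rfl⟩
      exact ⟨_, hη g⟩
    exact this (ProfiniteCompletion.denseRange (GrpCat.of G) y)
  let E : Aut (Action.forget FintypeCat.{u} G) ≃ₜ* completion (GrpCat.of G) :=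
    { MulEquiv.ofBijective Ψ ⟨hinj, hsurj⟩ with
      continuous_toFun := hΨc
      continuous_invFun := (Continuous.homeoOfEquivCompactToT2
        (f := (MulEquiv.ofBijective Ψ ⟨hinj, hsurj⟩).toEquiv) hΨc).continuous_symm }
  refine ⟨E.symm, fun g X x => ?_⟩
  have hg : E.symm (etaFn (GrpCat.of G) g) = toAut G g :=
    E.injective ((E.apply_symm_apply _).trans (hη g).symm)
  rw [hg]
  rfl

end Completion

end

end Groth.Agent.Pi1X.ForgetAut
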