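import Mathlib.CategoryTheory.Galois.Prorepresentability
import Mathlib.CategoryTheory.CofilteredSystem
import Mathlib.CategoryTheory.Limits.Constructions.FiniteProductsOfBinaryProducts

/-!
Functors from a Galois category to finite sets which are exact enough are fibre functors.
-/

universe u u₁ u₂ v v₁ v₂ w

open CategoryTheory CategoryTheory.Limits CategoryTheory.PreGaloisCategory

set_option linter.style.haveILetI false

namespace Groth.Agent.Pi1X.Exact

noncomputable section

variable {C : Type u₁} [Category.{u₂} C] [GaloisCategory C]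

variable (F : C ⥤ FintypeCat.{w}) [FiberFunctor F]

/-- The fibre of the terminal object is a point. -/
def fiberTerminalUnique (G : C ⥤ FintypeCat.{w}) [PreservesFiniteLimits G] : Unique (G.obj (⊤_ C)) :=
  Types.isTerminalEquivUnique _
    (IsTerminal.isTerminalObj (G ⋙ FintypeCat.incl) _ terminalIsTerminal)

theorem fiber_terminal_subsingleton : Subsingleton (F.obj (⊤_ C)) :=
  haveI := fiberTerminalUnique F
  inferInstance

theorem fiber_terminal_nonempty : Nonempty (F.obj (⊤_ C)) :=
  haveI := fiberTerminalUnique F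
  inferInstance

theorem isCofilteredOrEmpty_pointed : IsCofilteredOrEmpty (PointedGaloisObject F) where
  cone_objs := fun ⟨A, a, _⟩ ⟨B, b, _⟩ => by
    obtain ⟨Z, f, z, hgal, hfz⟩ := exists_hom_from_galois_of_fiber F (A ⨯ B)
      ((fiberBinaryProductEquiv F A B).symm (a, b))
    refine ⟨⟨Z, z, hgal⟩, ⟨f ≫ prod.fst, ?_⟩, ⟨f ≫ prod.snd, ?_⟩, trivial⟩
    · simp only [F.map_comp, hfz, FintypeCat.comp_apply, fiberBinaryProductEquiv_symm_fst_apply]
    · simp only [F.map_comp, hfz, FintypeCat.comp_apply, fiberBinaryProductEquiv_symm_snd_apply]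
  cone_maps := fun ⟨A, a, _⟩ ⟨B, b, _⟩ ⟨f, hf⟩ ⟨g, hg⟩ => by
    obtain ⟨Z, h, z, hgal, hhz⟩ := exists_hom_from_galois_of_fiber F A a
    refine ⟨⟨Z, z, hgal⟩, ⟨h, hhz⟩, PointedGaloisObject.hom_ext ?_⟩
    apply evaluation_injective_of_isConnected F Z B z
    simp [hhz, hf, hg]

theorem isConnected_terminal : PreGaloisCategory.IsConnected (⊤_ C) := by
  let G := GaloisCategory.getFiberFunctor C
  obtain ⟨t⟩ := fiber_terminal_nonempty G
  refine ⟨not_initial_of_inhabited G t, fun Y i _ hY => ?_⟩
  obtain ⟨y⟩ := (not_initial_iff_fiber_nonempty G Y).1 hY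
  haveI := fiber_terminal_subsingleton G
  haveI : Unique (G.obj (⊤_ C)) := uniqueOfSubsingleton t
  haveI : Subsingleton (G.obj Y) :=
    (ConcreteCategory.injective_of_mono_of_preservesPullback (G.map i)).subsingleton
  haveI : Unique (G.obj Y) := uniqueOfSubsingleton y
  exact isIso_of_mono_of_eq_card_fiber G i (by simp [Nat.card_unique])

variable (G : C ⥤ FintypeCat.{w}) [PreservesFiniteLimits G]

theorem isEmpty_initial [PreservesColimitsOfShape (Discrete WalkingPair) G] :
    IsEmpty (G.obj (⊥_ C)) := by
  let e : (⊥_ C) ⨿ (⊥_ C) ≅ ⊥_ C :=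
    { hom := coprod.desc (𝟙 _) (𝟙 _)
      inv := coprod.inl
      hom_inv_id := by
        ext <;> exact initialIsInitial.hom_ext _ _
      inv_hom_id := initialIsInitial.hom_ext _ _ }
  let f : G.obj (⊥_ C) ⊕ G.obj (⊥_ C) ≃ G.obj (⊥_ C) :=
    ((PreservesColimitPair.iso (G ⋙ FintypeCat.incl) (⊥_ C) (⊥_ C)).symm ≪≫
      Types.binaryCoproductIso _ _).toEquiv.symm.trans (FintypeCat.equivEquivIso.symm (G.mapIso e))
  have h := Nat.card_congr f
  rw [Nat.card_sum] at h
  exact Finite.card_eq_zero_iff.1 (by omega)

variable (h : ∀ X : C, IsEmpty (G.obj X) → Nonempty (IsInitial X))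

include h in
theorem nonempty_of_isConnected (A : C) [PreGaloisCategory.IsConnected A] : Nonempty (G.obj A) := by
  by_contra hA
  obtain ⟨hi⟩ := h A (not_nonempty_iff.1 hA)
  exact IsConnected.notInitial hi

variable [PreservesColimitsOfShape (Discrete WalkingPair) G]

include h in
theorem evaluation_injective (A X : C) [PreGaloisCategory.IsConnected A] (a : G.obj A) :
    Function.Injective fun f : A ⟶ X => G.map f a := by
  intro f g hfg
  haveI : IsIso (equalizer.ι f g) := by
    refine IsConnected.noTrivialComponent _ (equalizer.ι f g) fun hi => ?_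
    let e := PreservesEqualizer.iso (G ⋙ FintypeCat.incl) f g ≪≫
      Types.equalizerIso (G.map f).hom (G.map g).hom
    let z : G.obj (equalizer f g) := e.inv ⟨a, hfg⟩
    exact (isEmpty_initial G).false (G.map (hi.to (⊥_ C)) z)
  exact eq_of_epi_equalizer

include h in
theorem nonempty_iso (F : C ⥤ FintypeCat.{w}) [FiberFunctor F] : Nonempty (G ≅ F) := by
  haveI : PreservesColimit (Functor.empty.{0} C) G :=
    preservesInitial_of_iso G (((Concrete.initial_iff_empty_of_preserves_of_reflects _).2
      (isEmpty_initial G)).some.uniqueUpToIso initialIsInitial).symm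
  haveI : PreservesColimitsOfShape (Discrete PEmpty.{1}) G :=
    preservesColimitsOfShape_pempty_of_preservesInitial G
  haveI : PreservesFiniteCoproducts G :=
    ⟨fun n => CategoryTheory.PreservesFiniteCoproducts.of_preserves_binary_and_initial G (Fin n)⟩
  haveI := isCofilteredOrEmpty_pointed F
  let K : PointedGaloisObject F ⥤ Type w := PointedGaloisObject.incl F ⋙ G ⋙ FintypeCat.incl
  haveI hfin (A : PointedGaloisObject F) : Finite (K.obj A) :=
    inferInstanceAs (Finite (G.obj (A : C)))
  haveI hne (A : PointedGaloisObject F) : Nonempty (K.obj A) := nonempty_of_isConnected G h (A : C)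
  obtain ⟨s, hs⟩ := nonempty_sections_of_finite_cofiltered_system K
  have hwell (A B : PointedGaloisObject F) {X : C} (f : (A : C) ⟶ X) (g : (B : C) ⟶ X)
      (hfg : F.map f A.pt = F.map g B.pt) : G.map f (s A) = G.map g (s B) := by
    obtain ⟨Z, p, q, -⟩ := IsCofilteredOrEmpty.cone_objs A B
    have h1 : G.map p.val (s Z) = s A := hs p
    have h2 : G.map q.val (s Z) = s B := hs q
    have he : p.val ≫ f = q.val ≫ g := by
      apply evaluation_injective_of_isConnected F (Z : C) X Z.pt
      simpa [p.comp, q.comp] using hfg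
    rw [← h1, ← h2, ← FintypeCat.comp_apply, ← G.map_comp, he, G.map_comp, FintypeCat.comp_apply]
  have hrep (X : C) (x : F.obj X) : ∃ (A : PointedGaloisObject F) (f : (A : C) ⟶ X),
      F.map f A.pt = x := by
    obtain ⟨A, f, a, hA, hf⟩ := exists_hom_from_galois_of_fiber F X x
    exact ⟨{ obj := A, pt := a }, f, hf⟩
  choose R r hr using hrep
  let app (X : C) : F.obj X → G.obj X := fun x => G.map (r X x) (s (R X x))
  have hnat {X Y : C} (k : X ⟶ Y) (x : F.obj X) : app Y (F.map k x) = G.map k (app X x) := by
    rw [← FintypeCat.comp_apply, ← G.map_comp]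
    refine hwell _ _ _ _ ?_
    rw [hr, F.map_comp, FintypeCat.comp_apply, hr]
  have hbij (X : C) : Function.Bijective (app X) := by
    obtain ⟨A, a, hA, hAX⟩ := exists_galois_representative F X
    let A' : PointedGaloisObject F := { obj := A, pt := a }
    have happ (f : A ⟶ X) : app X (F.map f a) = G.map f (s A') := hwell _ A' _ f (hr _ _)
    refine ⟨fun x y hxy => ?_, fun z => ?_⟩
    · obtain ⟨f, rfl⟩ := hAX.2 x
      obtain ⟨g, rfl⟩ := hAX.2 y
      dsimp only at hxy
      rw [happ, happ] at hxy
      exact congrArg (fun k => F.map k a) (evaluation_injective G h A X _ hxy)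
    · let t : (∐ fun _ : A ⟶ X => A) ⟶ A ⨯ X := Sigma.desc fun f => prod.lift (𝟙 A) f
      haveI : IsIso t := by
        have hb : Function.Bijective (F.map t) := by
          let D := fun _ : A ⟶ X => A
          have hcol := isColimitOfPreserves (F ⋙ FintypeCat.incl) (coproductIsCoproduct D)
          have hpt (f : A ⟶ X) (c : F.obj A) : F.map t (F.map (Sigma.ι D f) c) =
              (fiberBinaryProductEquiv F A X).symm (c, F.map f c) := by
            rw [← FintypeCat.comp_apply, ← F.map_comp, Sigma.ι_desc]
            obtain ⟨⟨c', d⟩, hcd⟩ := (fiberBinaryProductEquiv F A X).symm.surjective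
              (F.map (prod.lift (𝟙 A) f) c)
            have h1 := congrArg (F.map prod.fst) hcd
            have h2 := congrArg (F.map prod.snd) hcd
            rw [fiberBinaryProductEquiv_symm_fst_apply, ← FintypeCat.comp_apply, ← F.map_comp,
              prod.lift_fst, F.map_id] at h1
            rw [fiberBinaryProductEquiv_symm_snd_apply, ← FintypeCat.comp_apply, ← F.map_comp,
              prod.lift_snd] at h2
            rw [← hcd, h1, h2]
            rfl
          have hev (c : F.obj A) : Function.Bijective fun f : A ⟶ X => F.map f c := by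
            obtain ⟨σ, hσ⟩ := (isPretransitive_of_isGalois F A).exists_smul_eq a c
            have : (fun f : A ⟶ X => F.map f c) =
                (fun f : A ⟶ X => F.map f a) ∘ fun f : A ⟶ X => σ.hom ≫ f := by
              funext f
              show F.map f c = F.map (σ.hom ≫ f) a
              rw [F.map_comp, FintypeCat.comp_apply, ← hσ]
              rfl
            rw [this]
            exact hAX.comp ⟨fun f g hfg => (cancel_epi σ.hom).1 hfg, fun f => ⟨σ.inv ≫ f, Iso.hom_inv_id_assoc σ f⟩⟩
          have hsurj (p : F.obj (∐ D)) : ∃ (f : A ⟶ X) (c : F.obj A), F.map (Sigma.ι D f) c = p := by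
            obtain ⟨⟨f⟩, c, hc⟩ := Types.jointly_surjective _ hcol p
            exact ⟨f, c, hc⟩
          refine ⟨fun p q hpq => ?_, fun y => ?_⟩
          · obtain ⟨f, c, rfl⟩ := hsurj p
            obtain ⟨g, d, rfl⟩ := hsurj q
            rw [hpt, hpt, (fiberBinaryProductEquiv F A X).symm.injective.eq_iff, Prod.mk.injEq] at hpq
            obtain ⟨rfl, hfg⟩ := hpq
            rw [(hev c).1 hfg]
          · obtain ⟨⟨c, x⟩, rfl⟩ := (fiberBinaryProductEquiv F A X).symm.surjective y
            obtain ⟨f, hf⟩ := (hev c).2 x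
            exact ⟨F.map (Sigma.ι D f) c, by rw [hpt]; exact congrArg _ (Prod.ext rfl hf)⟩
        haveI : IsIso (F.map t) := (FintypeCat.equivEquivIso (Equiv.ofBijective _ hb)).isIso_hom
        exact isIso_of_reflects_iso t F
      let e := PreservesLimitPair.iso (G ⋙ FintypeCat.incl) A X ≪≫
        Types.binaryProductIso (G.obj A) (G.obj X)
      let y : G.obj (A ⨯ X) := e.inv (s A', z)
      have hy1 : G.map prod.fst y = s A' := by
        show ((Types.binaryProductIso _ _).inv ≫ _ ≫ (G ⋙ FintypeCat.incl).map prod.fst) _ = _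
        erw [PreservesLimitPair.iso_inv_fst, Types.binaryProductIso_inv_comp_fst]
        rfl
      have hy2 : G.map prod.snd y = z := by
        show ((Types.binaryProductIso _ _).inv ≫ _ ≫ (G ⋙ FintypeCat.incl).map prod.snd) _ = _
        erw [PreservesLimitPair.iso_inv_snd, Types.binaryProductIso_inv_comp_snd]
        rfl
      obtain ⟨p, hp⟩ := (ConcreteCategory.bijective_of_isIso (G.map t)).2 y
      have hcol := isColimitOfPreserves (G ⋙ FintypeCat.incl)
        (coproductIsCoproduct fun _ : A ⟶ X => A)
      obtain ⟨⟨f⟩, c, hc⟩ := Types.jointly_surjective _ hcol p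
      have hc' : G.map (prod.lift (𝟙 A) f) c = y := by
        rw [← hp, ← hc]
        show _ = G.map t (G.map (Sigma.ι (fun _ : A ⟶ X => A) f) c)
        rw [← FintypeCat.comp_apply, ← G.map_comp, Sigma.ι_desc]
      have h1 : c = s A' := by
        rw [← hy1, ← hc', ← FintypeCat.comp_apply, ← G.map_comp, prod.lift_fst, G.map_id]
        rfl
      refine ⟨F.map f a, ?_⟩
      rw [happ, ← hy2, ← hc', ← FintypeCat.comp_apply, ← G.map_comp, prod.lift_snd, h1]
  exact ⟨(NatIso.ofComponents (fun X => FintypeCat.equivEquivIso (Equiv.ofBijective _ (hbij X)))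
    (fun {X Y} k => ConcreteCategory.hom_ext _ _ fun x => hnat k x)).symm⟩

omit [PreservesColimitsOfShape (Discrete WalkingPair) G] in
theorem isInitial_of_isEmpty_of_exact [G.PreservesEpimorphisms] (X : C) (hX : IsEmpty (G.obj X)) :
    Nonempty (IsInitial X) := by
  by_contra hne
  let F := GaloisCategory.getFiberFunctor C
  haveI : Nonempty (F.obj X) :=
    (not_initial_iff_fiber_nonempty F X).1 fun hi => hne ⟨hi⟩
  haveI := isConnected_terminal (C := C)
  haveI : Epi (terminal.from X) := epi_of_nonempty_of_isConnected F _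
  haveI : Epi (G.map (terminal.from X)) := inferInstance
  haveI := fiberTerminalUnique G
  obtain ⟨x, -⟩ := surjective_of_epi (FintypeCat.incl.map (G.map (terminal.from X))) (fiberTerminalUnique G).default
  exact hX.false x

omit [PreservesColimitsOfShape (Discrete WalkingPair) G] in
theorem nonempty_iso_of_exact [PreservesFiniteColimits G] (F : C ⥤ FintypeCat.{w}) [FiberFunctor F] :
    Nonempty (G ≅ F) :=
  nonempty_iso G (fun X hX => isInitial_of_isEmpty_of_exact G X hX) F

omit [PreservesFiniteLimits G] [PreservesColimitsOfShape (Discrete WalkingPair) G] in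
/-- A functor isomorphic to a fibre functor is a fibre functor. -/
theorem fiberFunctor_of_iso {G F : C ⥤ FintypeCat.{w}} [FiberFunctor F] (e : G ≅ F) :
    Nonempty (FiberFunctor G) :=
  ⟨{ preservesTerminalObjects := preservesLimitsOfShape_of_natIso e.symm
     preservesPullbacks := preservesLimitsOfShape_of_natIso e.symm
     preservesFiniteCoproducts := ⟨fun _ => preservesColimitsOfShape_of_natIso e.symm⟩
     preservesEpis := ⟨fun f _ => by
       haveI : Epi (F.map f) := inferInstance
       rw [← NatIso.naturality_2 e f]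
       infer_instance⟩
     preservesQuotientsByFiniteGroups := fun _ _ _ => preservesColimitsOfShape_of_natIso e.symm
     reflectsIsos := ⟨fun f _ => by
       haveI : IsIso (F.map f) := by
         rw [← NatIso.naturality_1 e f]
         infer_instance
       exact isIso_of_reflects_iso f F⟩ }⟩

end

end Groth.Agent.Pi1X.Exact
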