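import Mathlib.CategoryTheory.Galois.Equivalence
import Mathlib.Topology.Algebra.Group.ClosedSubgroup
import Groth.Prelude.Def_Pi1X
import Groth.Agent.Pi1X.GaloisExact

/-!
Functoriality of the fundamental group of a Galois category: properties of an exact functor read
off from the homomorphism of fundamental groups.
-/

universe u u₁ u₂ v w

open CategoryTheory CategoryTheory.Limits CategoryTheory.PreGaloisCategory
open scoped FintypeCatDiscrete

set_option linter.style.haveILetI false
set_option linter.unusedSectionVars false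

namespace Groth.Agent.Pi1X.Functorial

noncomputable section

section Single

variable {C : Type u₁} [Category.{u₂} C] [GaloisCategory C] (F : C ⥤ FintypeCat.{w}) [FiberFunctor F]

theorem injective_of_mono {X Y : C} (i : X ⟶ Y) [Mono i] : Function.Injective (F.map i) :=
  ConcreteCategory.injective_of_mono_of_preservesPullback (F.map i)

theorem isIso_of_bijective {X Y : C} (f : X ⟶ Y) (h : Function.Bijective (F.map f)) : IsIso f := by
  haveI : IsIso (F.map f) := (FintypeCat.equivEquivIso (Equiv.ofBijective _ h)).isIso_hom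
  exact isIso_of_reflects_iso f F

theorem exists_hom_of_stabilizer_le {A Y : C} [PreGaloisCategory.IsConnected A] (a : F.obj A)
    (y : F.obj Y) (h : MulAction.stabilizer (Aut F) a ≤ MulAction.stabilizer (Aut F) y) :
    ∃ f : A ⟶ Y, F.map f a = y := by
  obtain ⟨Z, i, z, hz, hZ, hi⟩ :=
    fiber_in_connected_component F (A ⨯ Y) ((fiberBinaryProductEquiv F A Y).symm (a, y))
  let p : Z ⟶ A := i ≫ prod.fst
  have hpz : F.map p z = a := by
    rw [F.map_comp, FintypeCat.comp_apply, hz, fiberBinaryProductEquiv_symm_fst_apply]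
  haveI : IsIso p := by
    refine isIso_of_bijective F p ⟨fun z₁ z₂ hzz => ?_, surjective_of_nonempty_fiber_of_isConnected F p⟩
    obtain ⟨σ, rfl⟩ := MulAction.exists_smul_eq (Aut F) z z₁
    obtain ⟨τ, rfl⟩ := MulAction.exists_smul_eq (Aut F) z z₂
    rw [← mulAction_naturality, ← mulAction_naturality, hpz] at hzz
    have h1 : τ⁻¹ * σ ∈ MulAction.stabilizer (Aut F) a := by
      rw [MulAction.mem_stabilizer_iff, mul_smul, hzz, inv_smul_smul]
    have hq : F.map (i ≫ prod.snd) z = y := by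
      rw [F.map_comp, FintypeCat.comp_apply, hz, fiberBinaryProductEquiv_symm_snd_apply]
    have key : (τ⁻¹ * σ) • z = z := by
      apply injective_of_mono F i
      rw [← mulAction_naturality, hz]
      apply (fiberBinaryProductEquiv F A Y).injective
      obtain ⟨⟨a', y'⟩, he⟩ := (fiberBinaryProductEquiv F A Y).symm.surjective
        ((τ⁻¹ * σ) • (fiberBinaryProductEquiv F A Y).symm (a, y))
      rw [← he, Equiv.apply_symm_apply, Equiv.apply_symm_apply]
      have e1 := congrArg (F.map prod.fst) he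
      have e2 := congrArg (F.map prod.snd) he
      rw [← mulAction_naturality, fiberBinaryProductEquiv_symm_fst_apply,
        fiberBinaryProductEquiv_symm_fst_apply, h1] at e1
      rw [← mulAction_naturality, fiberBinaryProductEquiv_symm_snd_apply,
        fiberBinaryProductEquiv_symm_snd_apply, h h1] at e2
      rw [e1, e2]
    rwa [mul_smul, inv_smul_eq_iff] at key
  refine ⟨inv p ≫ i ≫ prod.snd, ?_⟩
  rw [← hpz, ← FintypeCat.comp_apply, ← F.map_comp, IsIso.hom_inv_id_assoc, F.map_comp,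
    FintypeCat.comp_apply, hz, fiberBinaryProductEquiv_symm_snd_apply]

theorem smul_terminal (σ : Aut F) (t : F.obj (⊤_ C)) : σ • t = t :=
  haveI := Exact.fiber_terminal_subsingleton F
  Subsingleton.elim _ _

theorem isConnected_of_transitive {Y : C} (y : F.obj Y)
    (h : ∀ y' : F.obj Y, ∃ σ : Aut F, σ • y = y') : PreGaloisCategory.IsConnected Y := by
  refine ⟨not_initial_of_inhabited F y, fun Z i _ hZ => ?_⟩
  obtain ⟨z⟩ := (not_initial_iff_fiber_nonempty F Z).1 hZ
  refine isIso_of_bijective F i ⟨injective_of_mono F i, fun y' => ?_⟩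
  obtain ⟨σ, rfl⟩ := h y'
  obtain ⟨τ, hτ⟩ := h (F.map i z)
  refine ⟨(σ * τ⁻¹) • z, ?_⟩
  rw [← mulAction_naturality, mul_smul, ← hτ, inv_smul_smul]

/-- An object is split iff the fundamental group acts trivially on its fibre. -/
theorem split_iff (Y : C) :
    (∃ n : ℕ, Nonempty (Y ≅ ∐ fun _ : Fin n => ⊤_ C)) ↔ ∀ (σ : Aut F) (y : F.obj Y), σ • y = y := by
  constructor
  · rintro ⟨n, ⟨e⟩⟩ σ y
    obtain ⟨⟨k⟩, t, ht⟩ := Types.jointly_surjective _
      (isColimitOfPreserves (F ⋙ FintypeCat.incl) (coproductIsCoproduct fun _ : Fin n => ⊤_ C))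
      (F.map e.hom y)
    have hy : F.map (Sigma.ι (fun _ : Fin n => ⊤_ C) k ≫ e.inv) t = y := by
      have ht' : F.map (Sigma.ι (fun _ : Fin n => ⊤_ C) k) t = F.map e.hom y := ht
      rw [F.map_comp, FintypeCat.comp_apply, ht', ← FintypeCat.comp_apply, ← F.map_comp,
        e.hom_inv_id, F.map_id]
      rfl
    rw [← hy, mulAction_naturality, smul_terminal]
  · intro h
    obtain ⟨n, ⟨f⟩⟩ := Finite.exists_equiv_fin (F.obj Y)
    haveI := Exact.isConnected_terminal (C := C)
    obtain ⟨t⟩ := Exact.fiber_terminal_nonempty F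
    have hs (k : Fin n) : ∃ s : ⊤_ C ⟶ Y, F.map s t = f.symm k :=
      exists_hom_of_stabilizer_le F t _ fun σ _ => h σ _
    choose s hs using hs
    haveI : IsIso (Sigma.desc s) := by
      let D := fun _ : Fin n => ⊤_ C
      have hcol := isColimitOfPreserves (F ⋙ FintypeCat.incl) (coproductIsCoproduct D)
      have hpt (p : F.obj (∐ D)) : ∃ k, F.map (Sigma.ι D k) t = p := by
        obtain ⟨⟨k⟩, t', ht'⟩ := Types.jointly_surjective _ hcol p
        haveI := Exact.fiber_terminal_subsingleton F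
        have ht'' : F.map (Sigma.ι D k) t' = p := ht'
        exact ⟨k, by rw [Subsingleton.elim t t', ht'']⟩
      have hval (k : Fin n) : F.map (Sigma.desc s) (F.map (Sigma.ι D k) t) = f.symm k := by
        rw [← FintypeCat.comp_apply, ← F.map_comp, Sigma.ι_desc, hs]
      refine isIso_of_bijective F _ ⟨fun p q hpq => ?_, fun y => ?_⟩
      · obtain ⟨k, rfl⟩ := hpt p
        obtain ⟨l, rfl⟩ := hpt q
        rw [hval, hval] at hpq
        rw [f.symm.injective hpq]
      · exact ⟨F.map (Sigma.ι D (f y)) t, by rw [hval, Equiv.symm_apply_apply]⟩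
    exact ⟨n, ⟨(asIso (Sigma.desc s)).symm⟩⟩

theorem exists_galois_stabilizer_subset {W : Set (Aut F)} (hW : W ∈ nhds 1) :
    ∃ (A : C) (a : F.obj A), IsGalois A ∧ (MulAction.stabilizer (Aut F) a : Set (Aut F)) ⊆ W := by
  obtain ⟨X, -, hX⟩ := (nhds_one_has_basis_stabilizers F).mem_iff.1 hW
  exact ⟨X.obj, X.pt, X.isGalois, hX⟩

theorem mem_of_forall_orbit {N : Subgroup (Aut F)} (hN : IsClosed (N : Set (Aut F))) (σ : Aut F)
    (h : ∀ (A : C) (a : F.obj A), IsGalois A → ∃ n ∈ N, n • a = σ • a) : σ ∈ N := by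
  by_contra hσ
  have hW : (fun τ => σ * τ) ⁻¹' (N : Set (Aut F))ᶜ ∈ nhds 1 :=
    (hN.isOpen_compl.preimage (continuous_const_mul σ)).mem_nhds (by simpa using hσ)
  obtain ⟨A, a, hA, hsub⟩ := exists_galois_stabilizer_subset F hW
  obtain ⟨n, hn, hna⟩ := h A a hA
  exact hsub (show σ⁻¹ * n ∈ MulAction.stabilizer (Aut F) a by
    rw [MulAction.mem_stabilizer_iff, mul_smul, hna, inv_smul_smul]) (by simpa using hn)

theorem eq_one_of_forall_smul (σ : Aut F)
    (h : ∀ (X : C), PreGaloisCategory.IsConnected X → ∀ x : F.obj X, σ • x = x) : σ = 1 := by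
  apply Iso.ext
  refine natTrans_ext_of_isGalois F fun X hX => FintypeCat.hom_ext _ _ fun x => ?_
  exact h X inferInstance x

theorem exists_hom_of_equivariant {X Y : C} (k : F.obj X → F.obj Y)
    (hk : ∀ (σ : Aut F) (x : F.obj X), k (σ • x) = σ • k x) :
    ∃ f : X ⟶ Y, ∀ x, F.map f x = k x := by
  let m : (functorToAction F).obj X ⟶ (functorToAction F).obj Y :=
    { hom := FintypeCat.homMk k, comm := fun σ => FintypeCat.hom_ext _ _ fun x => hk σ x }
  obtain ⟨f, hf⟩ := (functorToAction F).map_surjective m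
  exact ⟨f, fun x => ConcreteCategory.congr_hom (congrArg Action.Hom.hom hf) x⟩

/-- Every finite continuous action is realised by an object. -/
theorem exists_obj_of_action (V : FintypeCat.{w}) [MulAction (Aut F) V]
    (hV : ∀ v w : V, IsOpen {σ : Aut F | σ • v = w}) :
    ∃ (X : C) (e : F.obj X ≃ V), ∀ (σ : Aut F) (x : F.obj X), e (σ • x) = σ • e x := by
  letI : TopologicalSpace V := ⊥
  haveI : DiscreteTopology V := ⟨rfl⟩
  have hc : (Action.FintypeCat.ofMulAction (Aut F) V).IsContinuous := by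
    rw [Action.isContinuous_def]
    haveI : DiscreteTopology
        ((forget₂ (Action FintypeCat.{w} (Aut F)) TopCat.{w}).obj (Action.FintypeCat.ofMulAction (Aut F) V)) := ⟨rfl⟩
    refine continuous_prod_of_discrete_right.2 fun v => ⟨fun s _ => ?_⟩
    show IsOpen {σ : Aut F | σ • v ∈ s}
    have : {σ : Aut F | σ • v ∈ s} = ⋃ w ∈ s, {σ : Aut F | σ • v = w} := by
      ext σ
      simp only [Set.mem_ofPred_eq, Set.mem_iUnion, exists_prop]
      exact ⟨fun h => ⟨_, h, rfl⟩, fun ⟨w, hw, e⟩ => e ▸ hw⟩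
    rw [this]
    exact isOpen_biUnion fun w _ => hV v w
  let P : ContAction FintypeCat.{w} (Aut F) := ⟨Action.FintypeCat.ofMulAction (Aut F) V, hc⟩
  let i := (functorToContAction F).objObjPreimageIso P
  let j : (functorToAction F).obj ((functorToContAction F).objPreimage P) ≅
      Action.FintypeCat.ofMulAction (Aut F) V :=
    (ObjectProperty.ι _).mapIso i
  refine ⟨_, FintypeCat.equivEquivIso.symm ((Action.forget _ _).mapIso j), fun σ x => ?_⟩
  exact ConcreteCategory.congr_hom (j.hom.comm σ) x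

open scoped Pointwise in
/-- Subsets of a fibre are points of a connected object. -/
theorem exists_point_of_set {A : C} (O : Set (F.obj A)) :
    ∃ (X : C) (p : F.obj X), PreGaloisCategory.IsConnected X ∧
      ∀ σ : Aut F, σ • p = p ↔ σ • O = O := by
  haveI : Finite (Set (F.obj A)) := inferInstance
  have hopen (S T : Set (F.obj A)) : IsOpen {σ : Aut F | σ • S = T} := by
    have hK : IsOpen ((⨅ x : F.obj A, MulAction.stabilizer (Aut F) x : Subgroup (Aut F)) : Set (Aut F)) := by
      rw [Subgroup.coe_iInf]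
      exact isOpen_iInter_of_finite fun x => stabilizer_isOpen (Aut F) x
    refine isOpen_iff_forall_mem_open.2 fun σ hσ => ⟨(fun τ => σ⁻¹ * τ) ⁻¹'
      ((⨅ x : F.obj A, MulAction.stabilizer (Aut F) x : Subgroup (Aut F)) : Set (Aut F)), ?_,
      hK.preimage (continuous_const_mul _), by
        show σ⁻¹ * σ ∈ (⨅ x : F.obj A, MulAction.stabilizer (Aut F) x : Subgroup (Aut F))
        rw [inv_mul_cancel]
        exact one_mem _⟩
    intro τ hτ
    let K : Subgroup (Aut F) := ⨅ x : F.obj A, MulAction.stabilizer (Aut F) x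
    have hK' : σ⁻¹ * τ ∈ K := hτ
    have h1 (x : F.obj A) : τ • x = σ • x := by
      have : (σ⁻¹ * τ) • x = x :=
        (iInf_le (fun x : F.obj A => MulAction.stabilizer (Aut F) x) x : K ≤ _) hK'
      rwa [mul_smul, inv_smul_eq_iff] at this
    show τ • S = T
    rw [← (hσ : σ • S = T), ← Set.image_smul, ← Set.image_smul]
    exact Set.image_congr fun x _ => h1 x
  letI : MulAction (Aut F) (FintypeCat.of (Set (F.obj A))) :=
    (Set.mulActionSet : MulAction (Aut F) (Set (F.obj A)))
  obtain ⟨X, e, he⟩ := exists_obj_of_action F (FintypeCat.of (Set (F.obj A))) hopen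
  obtain ⟨Y, i, y, hy, hY, hi⟩ := fiber_in_connected_component F X (e.symm O)
  refine ⟨Y, y, hY, fun σ => ?_⟩
  rw [← (injective_of_mono F i).eq_iff, ← mulAction_naturality, hy, ← e.injective.eq_iff, he,
    Equiv.apply_symm_apply]

end Single

section Functor

variable {C C' : Type u} [Category.{v} C] [Category.{v} C'] [GaloisCategory C] [GaloisCategory C']
  (H : C ⥤ C') (F' : C' ⥤ FintypeCat.{w}) [FiberFunctor F'] [FiberFunctor (H ⋙ F')]

local notation "φ" => _root_.Pi1X.autWhisker H F'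

theorem autWhisker_smul (σ : Aut F') {X : C} (x : (H ⋙ F').obj X) :
    φ σ • x = (σ • (show F'.obj (H.obj X) from x) : F'.obj (H.obj X)) := rfl

theorem continuous_autWhisker : Continuous φ := by
  rw [(autEmbedding_isClosedEmbedding (H ⋙ F')).isInducing.continuous_iff, continuous_pi_iff]
  intro X
  exact (continuous_apply (H.obj X)).comp (autEmbedding_isClosedEmbedding F').continuous

theorem isClosed_range : IsClosed ((φ).range : Set (Aut (H ⋙ F'))) := by
  rw [MonoidHom.coe_range]
  exact (isCompact_range (continuous_autWhisker H F')).isClosed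

theorem isClosed_ker : IsClosed ((φ).ker : Set (Aut F')) :=
  isClosed_singleton.preimage (continuous_autWhisker H F')

include F' in
theorem preservesConnected_of_full [H.Full] [H.Faithful] (X : C) [PreGaloisCategory.IsConnected X] :
    PreGaloisCategory.IsConnected (H.obj X) := by
  classical
  obtain ⟨(x : F'.obj (H.obj X))⟩ := nonempty_fiber_of_isConnected (H ⋙ F') X
  refine isConnected_of_transitive F' x fun y => ?_
  by_contra hy
  obtain ⟨t⟩ := Exact.fiber_terminal_nonempty (H ⋙ F')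
  let T := (⊤_ C) ⨿ (⊤_ C)
  let t₁ : F'.obj (H.obj T) := (H ⋙ F').map coprod.inl t
  let t₂ : F'.obj (H.obj T) := (H ⋙ F').map coprod.inr t
  have hne : t₁ ≠ t₂ := by
    intro he
    let e : (H ⋙ F').obj T ≃ (H ⋙ F').obj (⊤_ C) ⊕ (H ⋙ F').obj (⊤_ C) :=
      ((PreservesColimitPair.iso ((H ⋙ F') ⋙ FintypeCat.incl) (⊤_ C) (⊤_ C)).symm ≪≫
        Types.binaryCoproductIso _ _).toEquiv
    haveI := Exact.fiber_terminal_subsingleton (H ⋙ F')
    have hcard : Nat.card ((H ⋙ F').obj T) = 2 := by
      haveI : Unique ((H ⋙ F').obj (⊤_ C)) := uniqueOfSubsingleton t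
      have h1 : Nat.card ((H ⋙ F').obj (⊤_ C)) = 1 := Nat.card_unique
      rw [Nat.card_congr e, Nat.card_sum, h1]
    have hcol := isColimitOfPreserves ((H ⋙ F') ⋙ FintypeCat.incl)
      (coprodIsCoprod (⊤_ C) (⊤_ C))
    have hsub : ∀ p : (H ⋙ F').obj T, p = (H ⋙ F').map coprod.inl t := by
      intro p
      obtain ⟨⟨j⟩, q, hq⟩ := Types.jointly_surjective _ hcol p
      cases j
      · have hq' : (H ⋙ F').map coprod.inl q = p := hq
        rw [← hq', (Exact.fiber_terminal_subsingleton (H ⋙ F')).elim q t]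
        rfl
      · have hq' : (H ⋙ F').map coprod.inr q = p := hq
        rw [← hq', (Exact.fiber_terminal_subsingleton (H ⋙ F')).elim q t]
        exact he.symm
    haveI : Subsingleton ((H ⋙ F').obj T) := ⟨fun p q => (hsub p).trans (hsub q).symm⟩
    have := Finite.card_le_one_iff_subsingleton.2 (inferInstance : Subsingleton ((H ⋙ F').obj T))
    omega
  have hfix (σ : Aut (H ⋙ F')) (z : (H ⋙ F').obj T)
      (hz : z = t₁ ∨ z = t₂) : σ • z = z := by
    rcases hz with rfl | rfl
    · exact (mulAction_naturality (H ⋙ F') σ _ t).trans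
        (congrArg _ (smul_terminal (H ⋙ F') σ t))
    · exact (mulAction_naturality (H ⋙ F') σ _ t).trans
        (congrArg _ (smul_terminal (H ⋙ F') σ t))
  let k : F'.obj (H.obj X) → F'.obj (H.obj T) := fun z =>
    if (∃ σ : Aut F', σ • x = z) then t₁ else t₂
  obtain ⟨u, hu⟩ := exists_hom_of_equivariant F' k fun σ z => by
    have hiff : (∃ τ : Aut F', τ • x = σ • z) ↔ ∃ τ : Aut F', τ • x = z :=
      ⟨fun ⟨τ, h⟩ => ⟨σ⁻¹ * τ, by rw [mul_smul, h, inv_smul_smul]⟩,
        fun ⟨τ, h⟩ => ⟨σ * τ, by rw [mul_smul, h]⟩⟩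
    simp only [k, hiff]
    split
    · exact (hfix (φ σ) t₁ (Or.inl rfl)).symm
    · exact (hfix (φ σ) t₂ (Or.inr rfl)).symm
  obtain ⟨g, rfl⟩ := H.map_surjective u
  obtain ⟨τ, hτ⟩ := MulAction.exists_smul_eq (Aut (H ⋙ F')) (show (H ⋙ F').obj X from x) y
  have h1 : (H ⋙ F').map g (show (H ⋙ F').obj X from x) = t₁ :=
    (hu x).trans (if_pos ⟨1, one_smul _ _⟩)
  have h2 : (H ⋙ F').map g (show (H ⋙ F').obj X from y) = t₂ :=
    (hu y).trans (if_neg hy)
  rw [← hτ, ← mulAction_naturality, h1] at h2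
  exact hne ((hfix τ t₁ (Or.inl rfl)).symm.trans h2)

theorem surjective_of_preservesConnected
    (h : ∀ X : C, PreGaloisCategory.IsConnected X → PreGaloisCategory.IsConnected (H.obj X)) :
    Function.Surjective φ := by
  intro τ
  refine mem_of_forall_orbit (H ⋙ F') (isClosed_range H F') τ fun A a hA => ?_
  haveI := h A inferInstance
  obtain ⟨σ, hσ⟩ := MulAction.exists_smul_eq (Aut F') (show F'.obj (H.obj A) from a)
    (show F'.obj (H.obj A) from τ • a)
  exact ⟨φ σ, ⟨σ, rfl⟩, hσ⟩

include F' in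
theorem faithful : H.Faithful :=
  Functor.Faithful.of_comp H F'

theorem full_of_surjective (h : Function.Surjective φ) : H.Full where
  map_surjective {X Y} u := by
    obtain ⟨f, hf⟩ := exists_hom_of_equivariant (H ⋙ F') (X := X) (Y := Y)
      (fun x => F'.map u (show F'.obj (H.obj X) from x)) fun τ x => by
        obtain ⟨σ, rfl⟩ := h τ
        exact (mulAction_naturality F' σ u _).symm
    exact ⟨f, F'.map_injective (FintypeCat.hom_ext _ _ fun x => hf x)⟩

theorem surjective_iff : Function.Surjective φ ↔ H.Full ∧ H.Faithful :=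
  ⟨fun h => ⟨full_of_surjective H F' h, faithful H F'⟩, fun ⟨_, _⟩ =>
    surjective_of_preservesConnected H F' fun X _ => preservesConnected_of_full H F' X⟩

include F' in
theorem full_faithful_iff :
    (H.Full ∧ H.Faithful) ↔
      ∀ X : C, PreGaloisCategory.IsConnected X → PreGaloisCategory.IsConnected (H.obj X) :=
  ⟨fun ⟨_, _⟩ X _ => preservesConnected_of_full H F' X,
    fun h => (surjective_iff H F').1 (surjective_of_preservesConnected H F' h)⟩

theorem range_le_stabilizer_iff {X : C} (a : (H ⋙ F').obj X) :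
    (φ).range ≤ MulAction.stabilizer (Aut (H ⋙ F')) a ↔
      ∃ s : ⊤_ C' ⟶ H.obj X, ∀ t : F'.obj (⊤_ C'), F'.map s t = a := by
  haveI := Exact.fiber_terminal_subsingleton F'
  haveI := Exact.isConnected_terminal (C := C')
  obtain ⟨t⟩ := Exact.fiber_terminal_nonempty F'
  constructor
  · intro h
    obtain ⟨s, hs⟩ := exists_hom_of_stabilizer_le F' t (show F'.obj (H.obj X) from a)
      fun σ _ => h ⟨σ, rfl⟩
    exact ⟨s, fun t' => by rw [Subsingleton.elim t' t]; exact hs⟩
  · rintro ⟨s, hs⟩ _ ⟨σ, rfl⟩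
    show (σ • (show F'.obj (H.obj X) from a) : F'.obj (H.obj X)) = a
    rw [← hs t, mulAction_naturality, smul_terminal]

theorem normalClosure_le_stabilizer_iff {X : C} [PreGaloisCategory.IsConnected X]
    (a : (H ⋙ F').obj X) :
    Subgroup.normalClosure ((φ).range : Set (Aut (H ⋙ F'))) ≤ MulAction.stabilizer (Aut (H ⋙ F')) a ↔
      ∃ n : ℕ, Nonempty (H.obj X ≅ ∐ fun _ : Fin n => ⊤_ C') := by
  rw [split_iff F']
  constructor
  · intro h σ x
    obtain ⟨τ, hτ⟩ := MulAction.exists_smul_eq (Aut (H ⋙ F')) a (show (H ⋙ F').obj X from x)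
    have hm : τ⁻¹ * φ σ * τ⁻¹⁻¹ ∈ MulAction.stabilizer (Aut (H ⋙ F')) a :=
      h (Subgroup.normalClosure_normal.conj_mem _ (Subgroup.subset_normalClosure (show φ σ ∈ ((φ).range : Set (Aut (H ⋙ F'))) from ⟨σ, rfl⟩)) _)
    rw [MulAction.mem_stabilizer_iff, inv_inv, mul_smul, mul_smul, inv_smul_eq_iff, hτ] at hm
    exact hm
  · intro h g hg
    have hfix : ∀ x : (H ⋙ F').obj X, g • x = x := by
      revert g
      show ∀ g ∈ Subgroup.normalClosure ((φ).range : Set (Aut (H ⋙ F'))), _
      intro g hg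
      induction hg using Subgroup.closure_induction with
      | mem g hg =>
        obtain ⟨c, ⟨σ, rfl⟩, hc⟩ := Group.mem_conjugatesOfSet_iff.1 hg
        obtain ⟨d, rfl⟩ := isConj_iff.1 hc
        intro x
        rw [mul_smul, mul_smul]
        exact (congrArg (fun z : (H ⋙ F').obj X => d • z) (h σ _)).trans (smul_inv_smul d x)
      | one => simp
      | mul a b _ _ ha hb => intro x; rw [mul_smul, hb, ha]
      | inv a _ ha => intro x; rw [inv_smul_eq_iff, ha]
    exact hfix a

theorem ker_le_stabilizer_iff (X' : C') [PreGaloisCategory.IsConnected X'] (a' : F'.obj X') :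
    (φ).ker ≤ MulAction.stabilizer (Aut F') a' ↔
      ∃ (X : C) (Y' : C') (i : Y' ⟶ H.obj X) (_ : Y' ⟶ X'),
        Mono i ∧ PreGaloisCategory.IsConnected Y' := by
  constructor
  · intro h
    have hK : IsClosed (φ '' (MulAction.stabilizer (Aut F') a' : Set (Aut F'))ᶜ) :=
      ((stabilizer_isOpen (Aut F') a').isClosed_compl.isCompact.image
        (continuous_autWhisker H F')).isClosed
    obtain ⟨A, a, hA, hsub⟩ := exists_galois_stabilizer_subset (H ⋙ F')
      (hK.isOpen_compl.mem_nhds fun ⟨σ, hσ, h1⟩ => hσ (h (show φ σ = 1 from h1)))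
    obtain ⟨Y', i, y, hy, hY', hi⟩ :=
      fiber_in_connected_component F' (H.obj A) (show F'.obj (H.obj A) from a)
    obtain ⟨q, -⟩ := exists_hom_of_stabilizer_le F' y a' fun σ hσ => by
      by_contra hne
      refine hsub (show φ σ ∈ MulAction.stabilizer (Aut (H ⋙ F')) a from ?_) ⟨σ, hne, rfl⟩
      show (σ • (show F'.obj (H.obj A) from a) : F'.obj (H.obj A)) = a
      rw [← hy, mulAction_naturality, hσ]
    exact ⟨A, Y', i, q, hi, hY'⟩
  · rintro ⟨X, Y', i, q, hi, hY'⟩ σ hσ
    obtain ⟨y, rfl⟩ := surjective_of_nonempty_fiber_of_isConnected F' q a'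
    have h1 : σ • y = y := by
      apply injective_of_mono F' i
      rw [← mulAction_naturality]
      exact congrArg (fun g : Aut (H ⋙ F') => g • (show (H ⋙ F').obj X from F'.map i y))
        (show φ σ = 1 from hσ) |>.trans (one_smul _ _)
    rw [MulAction.mem_stabilizer_iff, mulAction_naturality, h1]

theorem injective_iff :
    Function.Injective φ ↔ ∀ X' : C', PreGaloisCategory.IsConnected X' →
      ∃ (X : C) (Y' : C') (p : Y' ⟶ X') (q : Y' ⟶ H.obj X), Epi p ∧ Mono q := by
  constructor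
  · intro h X' hX'
    obtain ⟨a'⟩ := nonempty_fiber_of_isConnected F' X'
    obtain ⟨X, Y', i, q, hi, hY'⟩ := (ker_le_stabilizer_iff H F' X' a').1 (by
      rw [(MonoidHom.ker_eq_bot_iff _).2 h]
      exact bot_le)
    exact ⟨X, Y', q, i, epi_of_nonempty_of_isConnected F' q, hi⟩
  · intro h
    refine (injective_iff_map_eq_one _).2 fun σ hσ => eq_one_of_forall_smul F' σ fun X' hX' x => ?_
    obtain ⟨X, Y', p, q, hp, hq⟩ := h X' hX'
    obtain ⟨y, rfl⟩ := surjective_on_fiber_of_epi F' p x
    have h1 : σ • y = y := by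
      apply injective_of_mono F' q
      rw [← mulAction_naturality]
      exact congrArg (fun g : Aut (H ⋙ F') => g • (show (H ⋙ F').obj X from F'.map q y)) hσ
        |>.trans (one_smul _ _)
    rw [mulAction_naturality, h1]

end Functor

section Exactness

variable {C C' C'' : Type u} [Category.{v} C] [Category.{v} C'] [Category.{v} C'']
  [GaloisCategory C] [GaloisCategory C'] [GaloisCategory C'']
  (H : C ⥤ C') (H' : C' ⥤ C'') (F'' : C'' ⥤ FintypeCat.{w}) [FiberFunctor F'']
  [FiberFunctor (H' ⋙ F'')] [FiberFunctor (H ⋙ (H' ⋙ F''))]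

local notation "φ" => _root_.Pi1X.autWhisker H (H' ⋙ F'')
local notation "ψ" => _root_.Pi1X.autWhisker H' F''

theorem comp_trivial_iff :
    (∀ σ : Aut F'', φ (ψ σ) = 1) ↔
      ∀ X : C, ∃ n : ℕ, Nonempty (H'.obj (H.obj X) ≅ ∐ fun _ : Fin n => ⊤_ C'') := by
  simp only [split_iff F'']
  constructor
  · intro h X σ y
    exact congrArg (fun g : Aut (H ⋙ (H' ⋙ F'')) =>
      g • (show (H ⋙ (H' ⋙ F'')).obj X from y)) (h σ) |>.trans (one_smul _ _)
  · intro h σ
    exact eq_one_of_forall_smul (H ⋙ (H' ⋙ F'')) _ fun X _ x => h X σ x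

open scoped Pointwise in
theorem ker_le_range_iff :
    (φ).ker ≤ (ψ).range ↔
      ∀ (X' : C') (a' : (H' ⋙ F'').obj X'), PreGaloisCategory.IsConnected X' →
        (∃ s : ⊤_ C'' ⟶ H'.obj X', ∀ t : F''.obj (⊤_ C''), F''.map s t = a') →
          ∃ (X : C) (Y' : C') (i : Y' ⟶ H.obj X) (_ : Y' ⟶ X'),
            Mono i ∧ PreGaloisCategory.IsConnected Y' := by
  constructor
  · intro h X' a' hX' hs
    exact (ker_le_stabilizer_iff H (H' ⋙ F'') X' a').1
      (h.trans ((range_le_stabilizer_iff H' F'' a').2 hs))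
  · intro h σ hσ
    refine mem_of_forall_orbit (H' ⋙ F'') (isClosed_range H' F'') σ fun A a hA => ?_
    let O : Set ((H' ⋙ F'').obj A) := {x | ∃ n ∈ (ψ).range, n • a = x}
    have hO : ∀ n ∈ (ψ).range, n • O = O := fun n hn => by
      ext x
      rw [Set.mem_smul_set_iff_inv_smul_mem]
      exact ⟨fun ⟨m, hm, he⟩ => ⟨n * m, mul_mem hn hm, by rw [mul_smul, he, smul_inv_smul]⟩,
        fun ⟨m, hm, he⟩ => ⟨n⁻¹ * m, mul_mem (inv_mem hn) hm, by rw [mul_smul, he]⟩⟩
    obtain ⟨X', p, hX', hp⟩ := exists_point_of_set (H' ⋙ F'') O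
    have hker : σ • p = p := (ker_le_stabilizer_iff H (H' ⋙ F'') X' p).2
      (h X' p hX' ((range_le_stabilizer_iff H' F'' p).1 fun n hn => (hp n).2 (hO n hn))) hσ
    have hmem : σ • a ∈ σ • O := Set.smul_mem_smul_set ⟨1, one_mem _, one_smul _ _⟩
    rw [(hp σ).1 hker] at hmem
    exact hmem

open scoped Pointwise in
theorem exact_iff :
    (Function.Surjective φ ∧ (∀ σ : Aut F'', φ (ψ σ) = 1) ∧
      (φ).ker = (Subgroup.normalClosure (Set.range ψ)).topologicalClosure) ↔
    ((H.Full ∧ H.Faithful) ∧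
      ∀ X' : C', (∃ X : C, Nonempty (H.obj X ≅ X')) ↔
        ∃ n : ℕ, Nonempty (H'.obj X' ≅ ∐ fun _ : Fin n => ⊤_ C'')) := by
  constructor
  · rintro ⟨hsurj, htriv, hker⟩
    refine ⟨(surjective_iff H (H' ⋙ F'')).1 hsurj, fun X' => ⟨?_, fun hX' => ?_⟩⟩
    · rintro ⟨X, ⟨e⟩⟩
      obtain ⟨n, ⟨e'⟩⟩ := (comp_trivial_iff H H' F'').1 htriv X
      exact ⟨n, ⟨(H'.mapIso e).symm ≪≫ e'⟩⟩
    · have hX'' := (split_iff F'' _).1 hX'
      have hfix : ∀ σ ∈ (φ).ker, ∀ x : (H' ⋙ F'').obj X', σ • x = x := by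
        intro σ hσ x
        have hle : (φ).ker ≤ ⨅ x : (H' ⋙ F'').obj X', MulAction.stabilizer (Aut (H' ⋙ F'')) x := by
          rw [hker]
          refine Subgroup.topologicalClosure_minimal _ ?_ ?_
          · have hn : (⨅ x : (H' ⋙ F'').obj X', MulAction.stabilizer (Aut (H' ⋙ F'')) x).Normal := by
              refine ⟨fun n hn g => Subgroup.mem_iInf.2 fun x => ?_⟩
              rw [MulAction.mem_stabilizer_iff, mul_smul, mul_smul,
                show n • g⁻¹ • x = g⁻¹ • x from Subgroup.mem_iInf.1 hn (g⁻¹ • x), smul_inv_smul]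
            refine Subgroup.normalClosure_le_normal ?_
            rintro _ ⟨σ, rfl⟩
            exact Subgroup.mem_iInf.2 fun x => hX'' σ x
          · rw [Subgroup.coe_iInf]
            exact isClosed_iInter fun x =>
              (⟨_, stabilizer_isOpen (Aut (H' ⋙ F'')) x⟩ : OpenSubgroup (Aut (H' ⋙ F''))).isClosed
        exact Subgroup.mem_iInf.1 (hle hσ) x
      choose s hs using hsurj
      have hwd (σ : Aut (H' ⋙ F'')) (x : (H' ⋙ F'').obj X') : s (φ σ) • x = σ • x := by
        have := hfix (σ⁻¹ * s (φ σ)) (by rw [MonoidHom.mem_ker, map_mul, map_inv, hs, inv_mul_cancel]) x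
        rwa [mul_smul, inv_smul_eq_iff] at this
      letI : MulAction (Aut (H ⋙ (H' ⋙ F''))) ((H' ⋙ F'').obj X') :=
        { smul := fun τ x => s τ • x
          one_smul := fun x => by
            show s 1 • x = x
            rw [← map_one φ, hwd, one_smul]
          mul_smul := fun τ₁ τ₂ x => by
            show s (τ₁ * τ₂) • x = s τ₁ • s τ₂ • x
            conv_lhs => rw [← hs τ₁, ← hs τ₂, ← map_mul, hwd]
            rw [mul_smul] }
      have hopen (v w : (H' ⋙ F'').obj X') :
          IsOpen {τ : Aut (H ⋙ (H' ⋙ F'')) | τ • v = w} := by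
        have hO : IsOpen {σ : Aut (H' ⋙ F'') | σ • v = w} := by
          exact (isOpen_discrete ({w} : Set ((H' ⋙ F'').obj X'))).preimage
            (continuous_id.smul continuous_const)
        have : {τ : Aut (H ⋙ (H' ⋙ F'')) | τ • v = w} = (φ '' {σ | σ • v = w}ᶜ)ᶜ := by
          ext τ
          simp only [Set.mem_compl_iff, Set.mem_image, Set.mem_ofPred_eq, not_exists, not_and]
          refine ⟨fun hτ σ hσ he => hσ ?_, fun hall => ?_⟩
          · rw [← hwd σ v, he]
            exact hτ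
          · by_contra hne
            exact hall (s τ) hne (hs τ)
        rw [this]
        exact ((hO.isClosed_compl.isCompact.image (continuous_autWhisker H (H' ⋙ F''))).isClosed).isOpen_compl
      obtain ⟨X, e, he⟩ := exists_obj_of_action (H ⋙ (H' ⋙ F'')) ((H' ⋙ F'').obj X') hopen
      obtain ⟨f, hf⟩ := exists_hom_of_equivariant (H' ⋙ F'') (X := H.obj X) (Y := X') e fun σ x => by
        exact (he (φ σ) x).trans (hwd σ (e x))
      haveI : IsIso f := isIso_of_bijective (H' ⋙ F'') f (by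
        rw [show ⇑((H' ⋙ F'').map f) = e from funext hf]
        exact e.bijective)
      exact ⟨X, ⟨asIso f⟩⟩
  · rintro ⟨hff, hiff⟩
    have htriv := (comp_trivial_iff H H' F'').2 fun X => (hiff (H.obj X)).1 ⟨X, ⟨Iso.refl _⟩⟩
    refine ⟨(surjective_iff H (H' ⋙ F'')).2 hff, htriv, le_antisymm ?_ ?_⟩
    · intro σ hσ
      let N := (Subgroup.normalClosure (Set.range ψ)).topologicalClosure
      haveI hNn : N.Normal := Subgroup.is_normal_topologicalClosure _
      refine mem_of_forall_orbit (H' ⋙ F'') (Subgroup.isClosed_topologicalClosure _) σ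
        fun A a hA => ?_
      let O : Set ((H' ⋙ F'').obj A) := {x | ∃ n ∈ N, n • a = x}
      have hO : ∀ n ∈ N, n • O = O := fun n hn => by
        ext x
        rw [Set.mem_smul_set_iff_inv_smul_mem]
        exact ⟨fun ⟨m, hm, he⟩ => ⟨n * m, mul_mem hn hm, by rw [mul_smul, he, smul_inv_smul]⟩,
          fun ⟨m, hm, he⟩ => ⟨n⁻¹ * m, mul_mem (inv_mem hn) hm, by rw [mul_smul, he]⟩⟩
      obtain ⟨X', p, hX', hp⟩ := exists_point_of_set (H' ⋙ F'') O
      obtain ⟨X, ⟨e⟩⟩ := (hiff X').2 ((split_iff F'' _).2 fun τ x => by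
        obtain ⟨g, hg⟩ := MulAction.exists_smul_eq (Aut (H' ⋙ F'')) p
          (show (H' ⋙ F'').obj X' from x)
        have hn : g⁻¹ * ψ τ * g⁻¹⁻¹ ∈ N := hNn.conj_mem _
          (Subgroup.le_topologicalClosure _ (Subgroup.subset_normalClosure ⟨τ, rfl⟩)) _
        have hm := (hp _).2 (hO _ hn)
        rw [inv_inv, mul_smul, mul_smul, inv_smul_eq_iff, hg] at hm
        exact hm)
      obtain ⟨y, hy⟩ := (ConcreteCategory.bijective_of_isIso ((H' ⋙ F'').map e.hom)).2 p
      have h1 : σ • y = y :=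
        congrArg (fun g : Aut (H ⋙ (H' ⋙ F'')) => g • (show (H ⋙ (H' ⋙ F'')).obj X from y))
          (show φ σ = 1 from hσ) |>.trans (one_smul _ _)
      have hσp : σ • p = p := by rw [← hy, mulAction_naturality, h1]
      have hmem : σ • a ∈ σ • O := Set.smul_mem_smul_set ⟨1, one_mem _, one_smul _ _⟩
      rw [(hp σ).1 hσp] at hmem
      exact hmem
    · refine Subgroup.topologicalClosure_minimal _ ?_ (isClosed_ker H (H' ⋙ F''))
      refine Subgroup.normalClosure_le_normal ?_
      rintro _ ⟨σ, rfl⟩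
      exact htriv σ

end Exactness

end

end Groth.Agent.Pi1X.Functorial
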