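import Groth.Agent.Pi1X.FEtFull
import Mathlib.AlgebraicGeometry.Morphisms.Flat
import Mathlib.AlgebraicGeometry.Morphisms.Finite
import Mathlib.AlgebraicGeometry.Morphisms.FinitePresentation
import Mathlib.RingTheory.Flat.EquationalCriterion

/-!
Base change of `f_* O_X = O_S` along finite locally free morphisms, with no assumption on `f`.
-/

universe u

open CategoryTheory CategoryTheory.Limits AlgebraicGeometry TopologicalSpace TensorProduct

set_option linter.style.haveILetI false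

namespace Groth.Agent.Pi1X.PushOne

/-- A finite projective module has a finite dual basis. -/
theorem exists_dualBasis (A B : Type u) [CommRing A] [AddCommGroup B] [Module A B] [Module.Finite A B]
    [Module.Projective A B] :
    ∃ (n : ℕ) (e : Fin n → B) (φ : Fin n → (B →ₗ[A] A)), ∀ b, b = ∑ k, φ k b • e k := by
  obtain ⟨n, f, g, -, -, hfg⟩ := Module.Finite.exists_comp_eq_id_of_projective A B
  classical
  refine ⟨n, fun k => f (Pi.single k 1), fun k => (LinearMap.proj k).comp g, fun b => ?_⟩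
  have h1 : ∀ x : Fin n → A, f x = ∑ k, x k • f (Pi.single k 1) := fun x => by
    conv_lhs => rw [pi_eq_sum_univ' x]
    simp [map_sum]
  exact ((DFunLike.congr_fun hfg b).symm).trans (h1 (g b))

variable {X S W P : Scheme.{u}} {f : X ⟶ S} {g : W ⟶ S} {q : P ⟶ X} {p : P ⟶ W}

/-- Coordinates on the preimage of an affine open. -/
theorem exists_coord (H : IsPullback q p f g) {V : S.Opens} (hV : IsAffineOpen V) (hW : IsAffineOpen (g ⁻¹ᵁ V))
    {n : ℕ} (e : Fin n → Γ(W, g ⁻¹ᵁ V)) (φ : Fin n → (Γ(W, g ⁻¹ᵁ V) → Γ(S, V)))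
    (hφ0 : ∀ k b b', φ k (b + b') = φ k b + φ k b')
    (hφ1 : ∀ k a b, φ k (g.app V a * b) = a * φ k b)
    (hφ : ∀ b, b = ∑ k, g.app V (φ k b) * e k)
    {U : X.Opens} (hU : IsAffineOpen U) (hUV : U ≤ f ⁻¹ᵁ V) :
    ∃ c : Fin n → (Γ(P, q ⁻¹ᵁ U ⊓ p ⁻¹ᵁ (g ⁻¹ᵁ V)) →+ Γ(X, U)),
      (∀ k r b, c k (q.appLE U _ inf_le_left r * p.appLE (g ⁻¹ᵁ V) _ inf_le_right b) =
        r * f.appLE V U hUV (φ k b)) ∧
      (∀ z, z = ∑ k, q.appLE U _ inf_le_left (c k z) * p.appLE (g ⁻¹ᵁ V) _ inf_le_right (e k)) ∧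
      (∀ {M : Type u} [AddCommMonoid M] (α β : Γ(P, q ⁻¹ᵁ U ⊓ p ⁻¹ᵁ (g ⁻¹ᵁ V)) →+ M),
        (∀ r b, α (q.appLE U _ inf_le_left r * p.appLE (g ⁻¹ᵁ V) _ inf_le_right b) =
          β (q.appLE U _ inf_le_left r * p.appLE (g ⁻¹ᵁ V) _ inf_le_right b)) → α = β) := by
  have hpo : IsPushout (f.appLE V U hUV) (g.appLE V (g ⁻¹ᵁ V) le_rfl)
      (q.appLE U (q ⁻¹ᵁ U ⊓ p ⁻¹ᵁ (g ⁻¹ᵁ V)) inf_le_left) (p.appLE (g ⁻¹ᵁ V) _ inf_le_right) :=
    (isIso_pushoutSection_iff H le_rfl hUV rfl).1 (isIso_pushoutSection_of_isAffineOpen H le_rfl hUV rfl hV hW hU)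
  let A := Γ(S, V)
  let R := Γ(X, U)
  let B := Γ(W, g ⁻¹ᵁ V)
  let T := Γ(P, q ⁻¹ᵁ U ⊓ p ⁻¹ᵁ (g ⁻¹ᵁ V))
  letI : Algebra A R := (f.appLE V U hUV).hom.toAlgebra
  letI : Algebra A B := (g.appLE V (g ⁻¹ᵁ V) le_rfl).hom.toAlgebra
  letI : Algebra R T := (q.appLE U (q ⁻¹ᵁ U ⊓ p ⁻¹ᵁ (g ⁻¹ᵁ V)) inf_le_left).hom.toAlgebra
  letI : Algebra B T := (p.appLE (g ⁻¹ᵁ V) (q ⁻¹ᵁ U ⊓ p ⁻¹ᵁ (g ⁻¹ᵁ V)) inf_le_right).hom.toAlgebra
  letI : Algebra A T := ((algebraMap R T).comp (algebraMap A R)).toAlgebra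
  haveI : IsScalarTower A R T := IsScalarTower.of_algebraMap_eq' rfl
  haveI : IsScalarTower A B T := IsScalarTower.of_algebraMap_eq' (congrArg CommRingCat.Hom.hom hpo.w)
  haveI : Algebra.IsPushout A R B T := CommRingCat.isPushout_iff_isPushout.1 hpo
  let ε := Algebra.IsPushout.equiv A R B T
  have hε : ∀ (r : R) (b : B), ε (r ⊗ₜ b) = algebraMap R T r * algebraMap B T b := fun r b =>
    Algebra.IsPushout.equiv_tmul A R B T r b
  have happ : ∀ a : A, algebraMap A B a = g.app V a := fun a => by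
    show g.appLE V (g ⁻¹ᵁ V) le_rfl a = g.app V a
    rw [Scheme.Hom.appLE_eq_app]
  let φl : Fin n → (B →ₗ[A] A) := fun k =>
    { toFun := φ k
      map_add' := hφ0 k
      map_smul' := fun a b => by
        show φ k (a • b) = a * φ k b
        rw [Algebra.smul_def, happ]
        exact hφ1 k a b }
  let cT : Fin n → (R ⊗[A] B →ₗ[A] R) := fun k =>
    (TensorProduct.rid A R).toLinearMap.comp (LinearMap.lTensor R (φl k))
  have hcT : ∀ k r b, cT k (r ⊗ₜ b) = r * algebraMap A R (φ k b) := fun k r b => by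
    simp [cT, φl, Algebra.smul_def, mul_comm]
  have hgen : ∀ {M : Type u} [AddCommMonoid M] (α β : T →+ M),
      (∀ r b, α (algebraMap R T r * algebraMap B T b) = β (algebraMap R T r * algebraMap B T b)) → α = β := by
    intro M _ α β h
    ext z
    obtain ⟨t, rfl⟩ := ε.surjective z
    induction t using TensorProduct.induction_on with
    | zero => simp
    | tmul r b => rw [hε]; exact h r b
    | add x y hx hy => rw [map_add, map_add, map_add, hx, hy]
  refine ⟨fun k => (cT k).toAddMonoidHom.comp ε.symm.toLinearEquiv.toLinearMap.toAddMonoidHom, fun k r b => ?_,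
    fun z => ?_, fun {M} _ α β h => hgen α β h⟩
  · show cT k (ε.symm (algebraMap R T r * algebraMap B T b)) = r * algebraMap A R (φ k b)
    rw [← hε, AlgEquiv.symm_apply_apply, hcT]
  · show z = ∑ k, algebraMap R T (cT k (ε.symm z)) * algebraMap B T (e k)
    obtain ⟨t, rfl⟩ := ε.surjective z
    rw [AlgEquiv.symm_apply_apply]
    induction t using TensorProduct.induction_on with
    | zero => simp
    | tmul r b =>
      rw [hε]
      conv_lhs => rw [hφ b, map_sum, Finset.mul_sum]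
      refine Finset.sum_congr rfl fun k _ => ?_
      rw [hcT, map_mul, map_mul, ← happ, ← IsScalarTower.algebraMap_apply A R T,
        IsScalarTower.algebraMap_apply A B T, mul_assoc]
    | add x y hx hy =>
      simp only [map_add, add_mul, Finset.sum_add_distrib]
      conv_lhs => rw [hx, hy]

/-- `f_* O_X = O_S` is stable under finite locally free base change. -/
theorem app_bijective_preimage (H : IsPullback q p f g) [IsFinite g] [Flat g] [LocallyOfFinitePresentation g]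
    {V : S.Opens} (hV : IsAffineOpen V) (hf : Function.Bijective (f.app V)) :
    Function.Bijective (p.app (g ⁻¹ᵁ V)) := by
  let A := Γ(S, V)
  let B := Γ(W, g ⁻¹ᵁ V)
  have hW : IsAffineOpen (g ⁻¹ᵁ V) := hV.preimage g
  have happ : g.appLE V (g ⁻¹ᵁ V) le_rfl = g.app V := Scheme.Hom.appLE_eq_app _
  letI : Algebra A B := (g.appLE V (g ⁻¹ᵁ V) le_rfl).hom.toAlgebra
  haveI : Module.Finite A B := by
    show (g.appLE V (g ⁻¹ᵁ V) le_rfl).hom.Finite
    rw [happ]
    exact g.finite_app V hV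
  haveI : Module.Flat A B := g.flat_appLE hV hW le_rfl
  haveI : Algebra.FinitePresentation A B :=
    HasRingHomProperty.appLE @LocallyOfFinitePresentation g inferInstance ⟨V, hV⟩ ⟨_, hW⟩ le_rfl
  haveI : Module.FinitePresentation A B := Module.FinitePresentation.of_finite_of_finitePresentation A B
  haveI : Module.Projective A B := Module.Flat.projective_of_finitePresentation
  obtain ⟨n, e, φ, hφ⟩ := exists_dualBasis A B
  have halg : ∀ a : A, algebraMap A B a = g.app V a := fun a => by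
    show g.appLE V (g ⁻¹ᵁ V) le_rfl a = g.app V a
    rw [happ]
  have hφ' : ∀ b : B, b = ∑ k, g.app V (φ k b) * e k := fun b =>
    (hφ b).trans (Finset.sum_congr rfl fun k _ => by rw [Algebra.smul_def, halg])
  have hφ1 : ∀ k a b, φ k (g.app V a * b) = a * φ k b := fun k a b => by
    rw [← halg, ← Algebra.smul_def, map_smul, smul_eq_mul]
  let ι := {U : X.affineOpens // (U : X.Opens) ≤ f ⁻¹ᵁ V}
  choose c hc1 hc2 hc3 using fun U : ι =>
    exists_coord H hV hW e (fun k b => φ k b) (fun k b b' => map_add _ b b') hφ1 hφ' U.1.2 U.2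
  let D : ι → P.Opens := fun U => q ⁻¹ᵁ U.1.1 ⊓ p ⁻¹ᵁ (g ⁻¹ᵁ V)
  let res : ∀ U : ι, Γ(P, p ⁻¹ᵁ (g ⁻¹ᵁ V)) ⟶ Γ(P, D U) :=
    fun U => P.presheaf.map (homOfLE inf_le_right).op
  have hcov : p ⁻¹ᵁ (g ⁻¹ᵁ V) ≤ ⨆ U, D U := fun z hz => by
    have hz' : q z ∈ f ⁻¹ᵁ V := by
      show f (q z) ∈ V
      rw [← Scheme.Hom.comp_apply, H.w, Scheme.Hom.comp_apply]
      exact hz
    obtain ⟨U, hU, hzU, hUV⟩ := exists_isAffineOpen_mem_and_subset hz'
    exact Opens.mem_iSup.2 ⟨⟨⟨U, hU⟩, hUV⟩, hzU, hz⟩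
  have hcovX : f ⁻¹ᵁ V ≤ ⨆ U : ι, (U.1 : X.Opens) := fun x hx => by
    obtain ⟨U, hU, hxU, hUV⟩ := exists_isAffineOpen_mem_and_subset hx
    exact Opens.mem_iSup.2 ⟨⟨⟨U, hU⟩, hUV⟩, hxU⟩
  -- the coordinates of a global element
  have hglob : ∀ (U : ι) (b : B) k, c U k (res U (p.app (g ⁻¹ᵁ V) b)) =
      X.presheaf.map (homOfLE U.2).op (f.app V (φ k b)) := fun U b k => by
    have h := hc1 U k 1 b
    rw [map_one, one_mul, one_mul] at h
    exact h
  -- naturality
  have hnat : ∀ (U U' : ι) (h : (U'.1 : X.Opens) ≤ U.1) (hD : D U' ≤ D U) (k) (z : Γ(P, D U)),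
      c U' k (P.presheaf.map (homOfLE hD).op z) = X.presheaf.map (homOfLE h).op (c U k z) := fun U U' h hD k z => by
    refine DFunLike.congr_fun (hc3 U ((c U' k).comp (P.presheaf.map (homOfLE hD).op).hom.toAddMonoidHom)
      ((X.presheaf.map (homOfLE h).op).hom.toAddMonoidHom.comp (c U k)) fun r b => ?_) z
    show c U' k (P.presheaf.map (homOfLE hD).op (_ * _)) = X.presheaf.map (homOfLE h).op (c U k (_ * _))
    have e1 : P.presheaf.map (homOfLE hD).op (q.appLE U.1 (D U) inf_le_left r) =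
        q.appLE U'.1 (D U') inf_le_left (X.presheaf.map (homOfLE h).op r) := by
      simp only [← ConcreteCategory.comp_apply, Scheme.Hom.appLE_map, Scheme.Hom.map_appLE]
    have e2 : P.presheaf.map (homOfLE hD).op (p.appLE (g ⁻¹ᵁ V) (D U) inf_le_right b) =
        p.appLE (g ⁻¹ᵁ V) (D U') inf_le_right b := by
      simp only [← ConcreteCategory.comp_apply, Scheme.Hom.appLE_map]
    rw [map_mul, e1, e2, hc1, hc1, map_mul]
    congr 1
    simp only [← ConcreteCategory.comp_apply, Scheme.Hom.appLE_map]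
  refine ⟨(injective_iff_map_eq_zero _).2 fun t ht => ?_, fun z => ?_⟩
  · have h0 : ∀ k, φ k t = 0 := fun k => hf.1 <| by
      rw [map_zero]
      refine X.sheaf.eq_of_locally_eq' (fun U : ι => (U.1 : X.Opens)) (f ⁻¹ᵁ V) (fun U => homOfLE U.2) hcovX _ _
        fun U => ?_
      show X.presheaf.map (homOfLE U.2).op _ = X.presheaf.map (homOfLE U.2).op 0
      rw [← hglob U t k, ht, map_zero, map_zero, map_zero]
    rw [hφ' t]
    simp [h0]
  · have hcompat : ∀ k, TopCat.Presheaf.IsCompatible X.sheaf.presheaf (fun U : ι => (U.1 : X.Opens))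
        (fun U => c U k (res U z)) := by
      intro k U U'
      show X.presheaf.map _ (c U k (res U z)) = X.presheaf.map _ (c U' k (res U' z))
      refine X.sheaf.eq_of_locally_eq'
        (fun U'' : {U'' : ι // (U''.1 : X.Opens) ≤ U.1.1 ⊓ U'.1.1} => (U''.1.1 : X.Opens)) _
        (fun U'' => homOfLE U''.2) (fun x hx => ?_) _ _ fun U'' => ?_
      · obtain ⟨O, hO, hxO, hOle⟩ := exists_isAffineOpen_mem_and_subset hx
        exact Opens.mem_iSup.2 ⟨⟨⟨⟨O, hO⟩, fun y hy => U.2 (hOle hy).1⟩, hOle⟩, hxO⟩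
      · have key : ∀ (U₀ : ι) (h : (U''.1.1 : X.Opens) ≤ U₀.1),
            X.presheaf.map (homOfLE h).op (c U₀ k (res U₀ z)) = c U''.1 k (res U''.1 z) := fun U₀ h => by
          rw [← hnat U₀ U''.1 h (inf_le_inf_right _ (q.preimage_mono h))]
          congr 1
          simp only [res, ← ConcreteCategory.comp_apply, ← P.presheaf.map_comp]
          rfl
        show X.presheaf.map _ (X.presheaf.map _ (c U k (res U z))) =
          X.presheaf.map _ (X.presheaf.map _ (c U' k (res U' z)))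
        rw [← ConcreteCategory.comp_apply, ← ConcreteCategory.comp_apply, ← X.presheaf.map_comp,
          ← X.presheaf.map_comp]
        exact (key U (U''.2.trans inf_le_left)).trans (key U' (U''.2.trans inf_le_right)).symm
    choose σ hσ _ using fun k => X.sheaf.existsUnique_gluing' (fun U : ι => (U.1 : X.Opens)) (f ⁻¹ᵁ V)
      (fun U => homOfLE U.2) hcovX _ (hcompat k)
    choose a ha using fun k => hf.2 (σ k)
    refine ⟨∑ k, g.app V (a k) * e k, P.sheaf.eq_of_locally_eq' D (p ⁻¹ᵁ (g ⁻¹ᵁ V))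
      (fun U => homOfLE inf_le_right) hcov _ _ fun U => ?_⟩
    show res U (p.app (g ⁻¹ᵁ V) _) = res U z
    rw [map_sum, map_sum, hc2 U (res U z)]
    refine Finset.sum_congr rfl fun k _ => ?_
    rw [map_mul, map_mul]
    congr 1
    have hk : c U k (res U z) = f.appLE V U.1 U.2 (a k) := by
      have h1 := hσ k U
      rw [← ha k] at h1
      exact h1.symm
    rw [hk]
    have e3 : ((g.app V) ≫ p.app (g ⁻¹ᵁ V)) ≫ res U = f.appLE V U.1 U.2 ≫ q.appLE U.1 (D U) inf_le_left := by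
      simp only [res, Scheme.Hom.app_eq_appLE, Scheme.Hom.appLE_comp_appLE, Scheme.Hom.appLE_map, H.w]
      rfl
    exact congr($(e3) (a k))

/-- `f_* O_X = O_S` is stable under finite locally free base change: global functions. -/
theorem appTop_bijective (H : IsPullback q p f g) [IsFinite g] [Flat g] [LocallyOfFinitePresentation g]
    (hf : ∀ V : S.Opens, IsAffineOpen V → Function.Bijective (f.app V)) :
    Function.Bijective p.appTop := by
  have hnat : ∀ {U U' : W.Opens} (h : U' ≤ U) (s : Γ(W, U)), p.app U' (W.presheaf.map (homOfLE h).op s) =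
      P.presheaf.map (homOfLE (p.preimage_mono h)).op (p.app U s) :=
    fun h s => congr($(p.naturality (homOfLE h).op) s)
  have hinjV : ∀ (V : S.Opens), Function.Injective (p.app (g ⁻¹ᵁ V)) := by
    intro V a b hab
    refine W.sheaf.eq_of_locally_eq'
      (fun U : {U : S.affineOpens // (U : S.Opens) ≤ V} => g ⁻¹ᵁ U.1.1) (g ⁻¹ᵁ V)
      (fun U => homOfLE (g.preimage_mono U.2)) (fun z hz => ?_) _ _ fun U => ?_
    · obtain ⟨U, hU, hzU, hUV⟩ := exists_isAffineOpen_mem_and_subset (show g z ∈ V from hz)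
      exact Opens.mem_iSup.2 ⟨⟨⟨U, hU⟩, hUV⟩, hzU⟩
    · refine (app_bijective_preimage H U.1.2 (hf _ U.1.2)).1 ?_
      exact ((hnat _ a).trans (congrArg _ hab)).trans (hnat _ b).symm
  refine ⟨hinjV ⊤, fun y => ?_⟩
  choose x hx using fun U : S.affineOpens =>
    (app_bijective_preimage H U.2 (hf _ U.2)).2 (P.presheaf.map (homOfLE (le_top : p ⁻¹ᵁ (g ⁻¹ᵁ U.1) ≤ ⊤)).op y)
  have hcov : (⊤ : W.Opens) ≤ ⨆ U : S.affineOpens, g ⁻¹ᵁ U.1 := fun z _ => by
    obtain ⟨U, hU, hzU, -⟩ := exists_isAffineOpen_mem_and_subset (show g z ∈ (⊤ : S.Opens) from trivial)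
    exact Opens.mem_iSup.2 ⟨⟨U, hU⟩, hzU⟩
  obtain ⟨s, hs, -⟩ := W.sheaf.existsUnique_gluing' (fun U : S.affineOpens => g ⁻¹ᵁ U.1) ⊤
    (fun U => homOfLE le_top) hcov x fun U U' => by
      refine hinjV (U.1 ⊓ U'.1) ?_
      show p.app _ (W.presheaf.map (homOfLE _).op (x U)) = p.app _ (W.presheaf.map (homOfLE _).op (x U'))
      rw [hnat (g.preimage_mono inf_le_left) (x U), hnat (g.preimage_mono inf_le_right) (x U'), hx, hx,
        ← ConcreteCategory.comp_apply, ← ConcreteCategory.comp_apply, ← P.presheaf.map_comp, ← P.presheaf.map_comp]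
      rfl
  refine ⟨s, P.sheaf.eq_of_locally_eq' (fun U : S.affineOpens => p ⁻¹ᵁ (g ⁻¹ᵁ U.1)) ⊤
    (fun U => homOfLE le_top) (fun z _ => ?_) _ _ fun U => ?_⟩
  · obtain ⟨U, hU⟩ := Opens.mem_iSup.1 (hcov (show p z ∈ (⊤ : W.Opens) from trivial))
    exact Opens.mem_iSup.2 ⟨U, hU⟩
  · exact (hnat _ s).symm.trans ((congrArg _ (hs U)).trans (hx U))

/-- A morphism with `f_* O_X = O_S` meets every non-empty clopen set. -/
theorem inter_range_nonempty (hf : ∀ U : S.Opens, Function.Bijective (f.app U)) (C : Set S) (hC : IsClopen C)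
    (hne : C.Nonempty) : (C ∩ Set.range f.base).Nonempty := by
  by_contra h
  let V : S.Opens := ⟨C, hC.2⟩
  have hbot : f ⁻¹ᵁ V = ⊥ := Opens.ext (Set.eq_empty_of_forall_notMem fun x hx => h ⟨_, hx, x, rfl⟩)
  haveI : Subsingleton Γ(X, f ⁻¹ᵁ V) := by rw [hbot]; infer_instance
  haveI : Subsingleton Γ(S, V) := (hf V).1.subsingleton
  obtain ⟨x, hx⟩ := hne
  have h01 : (0 : Γ(S, V)) = 1 := Subsingleton.elim _ _
  exact zero_ne_one ((map_zero (S.presheaf.germ V x hx).hom).symm.trans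
    ((congrArg _ h01).trans (map_one (S.presheaf.germ V x hx).hom)))

end Groth.Agent.Pi1X.PushOne
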