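import Groth.Prelude.Def_Pi1
import Mathlib.RingTheory.Flat.Tensor
import Mathlib.RingTheory.Smooth.Fiber
import Mathlib.RingTheory.Kaehler.TensorProduct
import Mathlib.RingTheory.FinitePresentation

/-!
Descent of properties of modules and algebras along universally injective ring maps.
-/

universe u

open TensorProduct LinearMap

set_option linter.style.haveILetI false

namespace Groth.Agent.Pi1X

variable {R S : Type u} [CommRing R] [CommRing S] [Algebra R S]

/-- `M → S ⊗ M` is injective. -/
theorem one_tmul_injective (h : Pi1.UnivInjective R S) (M : Type u) [AddCommGroup M] [Module R M] :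
    Function.Injective fun m : M => (1 : S) ⊗ₜ[R] m := by
  intro a b hab
  have h2 := congrArg (TensorProduct.comm R S M) hab
  simp only [TensorProduct.comm_tmul] at h2
  have h3 : a ⊗ₜ[R] (1 : R) = b ⊗ₜ[R] (1 : R) := h M (by simpa using h2)
  simpa using congrArg (TensorProduct.rid R M) h3

theorem eq_zero_of_one_tmul (h : Pi1.UnivInjective R S) {M : Type u} [AddCommGroup M] [Module R M]
    {m : M} (hm : (1 : S) ⊗ₜ[R] m = 0) : m = 0 :=
  one_tmul_injective h M (by simpa using hm)

/-- A submodule is detected after base change. -/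
theorem mem_of_one_tmul_mem (h : Pi1.UnivInjective R S) {M : Type u} [AddCommGroup M] [Module R M]
    (N : Submodule R M) {m : M} (hm : (1 : S) ⊗ₜ[R] m ∈ N.baseChange S) : m ∈ N := by
  have hle : N.baseChange S ≤ LinearMap.ker (N.mkQ.baseChange S) := by
    rw [Submodule.baseChange_eq_span, Submodule.span_le]
    rintro _ ⟨n, hn, rfl⟩
    simp [(Submodule.Quotient.mk_eq_zero N).2 hn]
  have h0 := hle hm
  rw [LinearMap.mem_ker, LinearMap.baseChange_tmul] at h0
  exact (Submodule.Quotient.mk_eq_zero N).1 (eq_zero_of_one_tmul h h0)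

theorem finite_descends (h : Pi1.UnivInjective R S) (M : Type u) [AddCommGroup M] [Module R M]
    [Module.Finite S (S ⊗[R] M)] : Module.Finite R M := by
  classical
  have hfg : (Submodule.span S (Set.range fun m : M => (1 : S) ⊗ₜ[R] m)).FG := by
    have e : Submodule.span S (Set.range fun m : M => (1 : S) ⊗ₜ[R] m) = ⊤ := by
      refine eq_top_iff.2 ?_
      rintro x -
      induction x using TensorProduct.induction_on with
      | zero => exact zero_mem _
      | tmul s m =>
        rw [show s ⊗ₜ[R] m = s • ((1 : S) ⊗ₜ[R] m) by rw [smul_tmul', smul_eq_mul, mul_one]]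
        exact Submodule.smul_mem _ _ (Submodule.subset_span ⟨m, rfl⟩)
      | add a b ha hb => exact add_mem ha hb
    rw [e]
    exact Module.Finite.fg_top
  obtain ⟨t, ht, hspan⟩ := (Submodule.fg_span_iff_fg_span_finset_subset _).1 hfg
  choose g hg using fun x : t => ht x.2
  refine ⟨⟨Finset.univ.image g, eq_top_iff.2 fun m _ => mem_of_one_tmul_mem h _ ?_⟩⟩
  have hm : (1 : S) ⊗ₜ[R] m ∈ Submodule.span S (t : Set (S ⊗[R] M)) :=
    hspan ▸ Submodule.subset_span ⟨m, rfl⟩
  refine Submodule.span_le.2 ?_ hm
  intro x hx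
  rw [show x = (1 : S) ⊗ₜ[R] g ⟨x, hx⟩ from (hg ⟨x, hx⟩).symm]
  exact Submodule.tmul_mem_baseChange_of_mem _ (Submodule.subset_span (by simp))

theorem finitePresentation_descends (h : Pi1.UnivInjective R S) (M : Type u) [AddCommGroup M]
    [Module R M] [Module.FinitePresentation S (S ⊗[R] M)] : Module.FinitePresentation R M := by
  classical
  haveI : Module.Finite R M := finite_descends h M
  obtain ⟨n, p, hp⟩ := Module.Finite.exists_fin' R M
  refine Module.finitePresentation_of_surjective p hp ?_
  have hker : LinearMap.ker (p.baseChange S) = (LinearMap.ker p).baseChange S := by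
    refine le_antisymm (fun z hz => ?_) ?_
    · obtain ⟨w, rfl⟩ := (_root_.lTensor_exact S
        (LinearMap.exact_subtype_ker_map p) hp z).1 hz
      induction w using TensorProduct.induction_on with
      | zero => simp
      | tmul s k => simpa using Submodule.tmul_mem_baseChange_of_mem s k.2
      | add a b ha hb =>
        rw [map_add]
        exact add_mem
          (ha ((_root_.lTensor_exact S (LinearMap.exact_subtype_ker_map p) hp _).2 ⟨a, rfl⟩))
          (hb ((_root_.lTensor_exact S (LinearMap.exact_subtype_ker_map p) hp _).2 ⟨b, rfl⟩))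
    · rw [Submodule.baseChange_eq_span, Submodule.span_le]
      rintro _ ⟨k, hk, rfl⟩
      simp [LinearMap.mem_ker.1 hk]
  have hfg : ((LinearMap.ker p).baseChange S).FG := by
    rw [← hker]
    refine Module.FinitePresentation.fg_ker _ fun z => ?_
    exact LinearMap.lTensor_surjective S hp z
  rw [Submodule.baseChange_eq_span] at hfg
  obtain ⟨t, ht, hspan⟩ := (Submodule.fg_span_iff_fg_span_finset_subset _).1 hfg
  choose g hg using fun x : t => ht x.2
  refine ⟨Finset.univ.image g, le_antisymm ?_ fun k hk => mem_of_one_tmul_mem h _ ?_⟩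
  · rw [Submodule.span_le]
    intro x hx
    obtain ⟨i, -, rfl⟩ := Finset.mem_image.1 hx
    exact (hg i).1
  have hm : (1 : S) ⊗ₜ[R] k ∈ Submodule.span S (t : Set (S ⊗[R] (Fin n → R))) :=
    hspan ▸ Submodule.subset_span ⟨k, hk, rfl⟩
  refine Submodule.span_le.2 ?_ hm
  intro x hx
  rw [show x = (1 : S) ⊗ₜ[R] g ⟨x, hx⟩ from (hg ⟨x, hx⟩).2.symm]
  exact Submodule.tmul_mem_baseChange_of_mem _ (Submodule.subset_span (by simp))

/-- Exchange the arguments of a map into a character module. -/
def flipChar {A B : Type u} [AddCommGroup A] [AddCommGroup B] [Module R A] [Module R B]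
    (φ : A →ₗ[R] CharacterModule B) : B →ₗ[R] CharacterModule A where
  toFun b :=
    { toFun := fun a => φ a b
      map_zero' := by rw [map_zero]; rfl
      map_add' := fun a a' => by rw [map_add]; rfl }
  map_add' b b' := by
    ext a
    exact (φ a).map_add b b'
  map_smul' r b := by
    ext a
    show φ a (r • b) = φ (r • a) b
    rw [φ.map_smul]
    rfl

/-- An ideal is pure in its extension. -/
theorem rTensor_toMap_injective (h : Pi1.UnivInjective R S) (I : Ideal R) (M : Type u)
    [AddCommGroup M] [Module R M] :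
    Function.Injective
      (LinearMap.rTensor M
        (((Algebra.linearMap R S).comp I.subtype).codRestrict
          ((I.map (algebraMap R S)).restrictScalars R) fun a => Ideal.mem_map_of_mem _ a.2)) := by
  classical
  have hη := (LinearMap.lTensor_inj_iff_rTensor_inj _ _).1 (h (CharacterModule R))
  obtain ⟨ψ, hψ⟩ := rTensor_injective_iff_lcomp_surjective.1 hη
    (flipChar (LinearMap.id : CharacterModule R →ₗ[R] CharacterModule R))
  let σ : CharacterModule R →ₗ[R] CharacterModule S := flipChar ψ
  have hσ : ∀ (H : CharacterModule R) (r : R), σ H (algebraMap R S r) = H r := fun H r =>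
    DFunLike.congr_fun (DFunLike.congr_fun hψ r) H
  let J : Submodule R S := (I.map (algebraMap R S)).restrictScalars R
  let p : CharacterModule R →ₗ[R] CharacterModule I := CharacterModule.dual I.subtype
  have hp : Function.Surjective p :=
    CharacterModule.dual_surjective_of_injective _ I.injective_subtype
  let q : CharacterModule R →ₗ[R] CharacterModule J := (CharacterModule.dual J.subtype).comp σ
  have hker : LinearMap.ker p ≤ LinearMap.ker q := by
    intro H hH
    rw [LinearMap.mem_ker] at hH ⊢
    have key : ∀ j ∈ I.map (algebraMap R S), ∀ s : S, σ H (s * j) = 0 := by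
      intro j hj
      refine Submodule.span_induction ?_ ?_ ?_ ?_ hj
      · rintro _ ⟨a, ha, rfl⟩ s
        have haH : a • H = 0 := by
          ext r
          show H (a • r) = 0
          exact DFunLike.congr_fun hH ⟨a • r, by simpa [smul_eq_mul] using I.mul_mem_right r ha⟩
        have : (a • σ H) s = 0 := by rw [← map_smul, haH, map_zero]; rfl
        rw [mul_comm, ← Algebra.smul_def]
        exact this
      · intro s
        simp
      · intro x y _ _ hx hy s
        rw [mul_add, map_add, hx, hy, add_zero]
      · intro t x _ hx s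
        rw [smul_eq_mul, ← mul_assoc, hx]
    ext j
    show σ H (j : S) = 0
    simpa using key j j.2 1
  let τ : CharacterModule I →ₗ[R] CharacterModule J :=
    ((LinearMap.ker p).liftQ q hker).comp (p.quotKerEquivOfSurjective hp).symm.toLinearMap
  rw [rTensor_injective_iff_lcomp_surjective]
  intro φ
  refine ⟨flipChar (τ.comp (flipChar φ)), LinearMap.ext fun a => DFunLike.ext _ _ fun m => ?_⟩
  obtain ⟨H, hH⟩ := hp (flipChar φ m)
  have hτ : τ (flipChar φ m) = q H := by
    rw [← hH]
    show (LinearMap.ker p).liftQ q hker ((p.quotKerEquivOfSurjective hp).symm (p H)) = q H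
    rw [show (p.quotKerEquivOfSurjective hp).symm (p H) = Submodule.Quotient.mk H by
      rw [LinearEquiv.symm_apply_eq]; rfl]
    rfl
  show τ (flipChar φ m) _ = φ a m
  rw [hτ]
  show σ H (algebraMap R S a) = _
  rw [hσ]
  exact DFunLike.congr_fun hH a

theorem flat_descends (h : Pi1.UnivInjective R S) (M : Type u) [AddCommGroup M] [Module R M]
    [Module.Flat S (S ⊗[R] M)] : Module.Flat R M := by
  classical
  rw [Module.Flat.iff_rTensor_injective']
  intro I
  let K : Ideal S := I.map (algebraMap R S)
  let g : I →ₗ[R] K :=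
    ((Algebra.linearMap R S).comp I.subtype).codRestrict (K.restrictScalars R)
      fun a => Ideal.mem_map_of_mem _ a.2
  let e := AlgebraTensorModule.cancelBaseChange R S S K M
  have hinj : Function.Injective (LinearMap.rTensor (S ⊗[R] M) K.subtype) :=
    Module.Flat.rTensor_preserves_injective_linearMap _ K.injective_subtype
  have hcomm : ∀ x : K ⊗[R] M, LinearMap.rTensor M (K.subtype.restrictScalars R) x =
      TensorProduct.lid S (S ⊗[R] M) (LinearMap.rTensor (S ⊗[R] M) K.subtype (e.symm x)) := by
    intro x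
    induction x using TensorProduct.induction_on with
    | zero => simp
    | tmul j m => simp [e, AlgebraTensorModule.cancelBaseChange_symm_tmul, smul_tmul']
    | add a b ha hb => simp only [map_add, ha, hb]
  have hK : Function.Injective (LinearMap.rTensor M (K.subtype.restrictScalars R)) := by
    intro x y hxy
    rw [hcomm, hcomm] at hxy
    exact e.symm.injective (hinj ((TensorProduct.lid S _).injective hxy))
  have hg : Function.Injective (LinearMap.rTensor M g) := rTensor_toMap_injective h I M
  have hc : (LinearMap.rTensor M (Algebra.linearMap R S)).comp (LinearMap.rTensor M I.subtype) =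
      (LinearMap.rTensor M (K.subtype.restrictScalars R)).comp (LinearMap.rTensor M g) := by
    rw [← LinearMap.rTensor_comp, ← LinearMap.rTensor_comp]
    rfl
  refine Function.Injective.of_comp (f := LinearMap.rTensor M (Algebra.linearMap R S)) ?_
  rw [← LinearMap.coe_comp, hc]
  exact hK.comp hg

theorem finiteType_descends (h : Pi1.UnivInjective R S) (A : Type u) [CommRing A] [Algebra R A]
    [Algebra.FiniteType S (S ⊗[R] A)] : Algebra.FiniteType R A := by
  classical
  obtain ⟨t, ht⟩ := Algebra.FiniteType.out (R := S) (A := S ⊗[R] A)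
  choose T hT using fun x : S ⊗[R] A => TensorProduct.exists_finset x
  let s : Finset A := t.biUnion fun x => (T x).image Prod.snd
  refine ⟨⟨s, ?_⟩⟩
  rw [eq_top_iff]
  intro a _
  let A₀ := Algebra.adjoin R (s : Set A)
  let Φ : S ⊗[R] A₀ →ₐ[S] S ⊗[R] A := Algebra.TensorProduct.map (AlgHom.id S S) A₀.val
  have hΦ : ∀ z, Φ z ∈ (Subalgebra.toSubmodule A₀).baseChange S := by
    intro z
    induction z using TensorProduct.induction_on with
    | zero => simp
    | tmul u v =>
      simp only [Φ, Algebra.TensorProduct.map_tmul, AlgHom.coe_id, id_eq, Subalgebra.coe_val]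
      exact Submodule.tmul_mem_baseChange_of_mem (p := Subalgebra.toSubmodule A₀) u v.2
    | add x y hx hy => rw [map_add]; exact add_mem hx hy
  have hle : (⊤ : Subalgebra S (S ⊗[R] A)) ≤ Φ.range := by
    rw [← ht, Algebra.adjoin_le_iff]
    intro x hx
    rw [hT x]
    refine sum_mem fun i hi => ?_
    exact ⟨i.1 ⊗ₜ ⟨i.2, Algebra.subset_adjoin (Finset.mem_biUnion.2 ⟨x, hx,
      Finset.mem_image_of_mem _ hi⟩)⟩, by simp [Φ]⟩
  obtain ⟨z, hz⟩ := hle (Algebra.mem_top : (1 : S) ⊗ₜ[R] a ∈ ⊤)
  exact mem_of_one_tmul_mem h (Subalgebra.toSubmodule A₀) (hz ▸ hΦ z)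

theorem algFinitePresentation_descends (h : Pi1.UnivInjective R S) (A : Type u) [CommRing A]
    [Algebra R A] [Algebra.FinitePresentation S (S ⊗[R] A)] : Algebra.FinitePresentation R A := by
  classical
  haveI : Algebra.FiniteType R A := finiteType_descends h A
  obtain ⟨n, p, hp⟩ := Algebra.FiniteType.iff_quotient_mvPolynomial''.1
    (inferInstance : Algebra.FiniteType R A)
  refine Algebra.FinitePresentation.of_surjective hp ?_
  let Φ : S ⊗[R] MvPolynomial (Fin n) R →ₐ[S] S ⊗[R] A :=
    Algebra.TensorProduct.map (AlgHom.id S S) p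
  have hΦ : Function.Surjective Φ := fun z => by
    obtain ⟨w, hw⟩ := LinearMap.lTensor_surjective S (g := p.toLinearMap) hp z
    exact ⟨w, hw⟩
  have hker : RingHom.ker Φ = (RingHom.ker p).map Algebra.TensorProduct.includeRight :=
    Algebra.TensorProduct.lTensor_ker (A := S) p hp
  have hfg : (RingHom.ker Φ).FG := Algebra.FinitePresentation.ker_fG_of_surjective Φ hΦ
  rw [hker, Ideal.map, Ideal.span] at hfg
  obtain ⟨t, ht, hspan⟩ := (Submodule.fg_span_iff_fg_span_finset_subset _).1 hfg
  choose g hg using fun x : t => ht x.2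
  refine ⟨Finset.univ.image g, le_antisymm ?_ fun k hk => ?_⟩
  · rw [Submodule.span_le]
    intro x hx
    obtain ⟨i, -, rfl⟩ := Finset.mem_image.1 hx
    exact (hg i).1
  let K₀ : Ideal (MvPolynomial (Fin n) R) :=
    Ideal.span ((Finset.univ.image g : Finset _) : Set (MvPolynomial (Fin n) R))
  let Ψ : S ⊗[R] MvPolynomial (Fin n) R →ₐ[S] S ⊗[R] (MvPolynomial (Fin n) R ⧸ K₀) :=
    Algebra.TensorProduct.map (AlgHom.id S S) (Ideal.Quotient.mkₐ R K₀)
  have hm : (1 : S) ⊗ₜ[R] k ∈ Submodule.span (S ⊗[R] MvPolynomial (Fin n) R)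
      (t : Set (S ⊗[R] MvPolynomial (Fin n) R)) :=
    hspan ▸ Submodule.subset_span ⟨k, hk, rfl⟩
  have hle : Submodule.span (S ⊗[R] MvPolynomial (Fin n) R)
      (t : Set (S ⊗[R] MvPolynomial (Fin n) R)) ≤ RingHom.ker Ψ := by
    rw [Submodule.span_le]
    intro x hx
    rw [show x = (1 : S) ⊗ₜ[R] g ⟨x, hx⟩ from (hg ⟨x, hx⟩).2.symm]
    have h0 : Ideal.Quotient.mk K₀ (g ⟨x, hx⟩) = 0 :=
      Ideal.Quotient.eq_zero_iff_mem.2 (Ideal.subset_span (by simp))
    simp [Ψ, h0]
  have h0 := hle hm
  rw [RingHom.mem_ker] at h0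
  have h1 : (1 : S) ⊗ₜ[R] Ideal.Quotient.mk K₀ k = 0 := by simpa [Ψ] using h0
  exact Ideal.Quotient.eq_zero_iff_mem.1 (eq_zero_of_one_tmul h h1)

theorem etale_descends (h : Pi1.UnivInjective R S) (A : Type u) [CommRing A] [Algebra R A]
    [Algebra.Etale S (S ⊗[R] A)] : Algebra.Etale R A := by
  classical
  haveI : Algebra.FinitePresentation R A := algFinitePresentation_descends h A
  haveI : Algebra.Smooth S (S ⊗[R] A) := inferInstance
  haveI : Module.Flat R A := flat_descends h A
  haveI : Algebra.FormallyUnramified R A := by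
    letI : Algebra A (S ⊗[R] A) := Algebra.TensorProduct.rightAlgebra
    have e := KaehlerDifferential.tensorKaehlerEquivBase R S A (S ⊗[R] A)
    haveI : Subsingleton (S ⊗[R] Ω[A⁄R]) := e.toEquiv.subsingleton
    exact ⟨subsingleton_of_forall_eq 0 fun x => eq_zero_of_one_tmul h (Subsingleton.elim _ _)⟩
  exact Algebra.Etale.of_formallyUnramified_of_flat

end Groth.Agent.Pi1X
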